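import Groth.Agent.Lib.Helper28.Pinch.FP
import Mathlib.RingTheory.Flat.Equalizer
import Mathlib.RingTheory.IsTensorProduct
import Mathlib.Algebra.Category.Ring.Constructions
import Mathlib.RingTheory.RingHom.Flat

/-!
# Base change of fibre products of rings: the algebra
-/

set_option autoImplicit false
universe u

open CategoryTheory Limits TensorProduct

namespace Groth.Agent.Lib.Helper28.Pinch

section Mod

variable {k k' : Type*} [CommRing k] [CommRing k'] [Algebra k k']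
  {N₁ N₂ N₃ N₁' N₂' N₃' : Type*}
  [AddCommGroup N₁] [AddCommGroup N₂] [AddCommGroup N₃]
  [AddCommGroup N₁'] [AddCommGroup N₂'] [AddCommGroup N₃']
  [Module k N₁] [Module k N₂] [Module k N₃]
  [Module k N₁'] [Module k N₂'] [Module k N₃']
  [Module k' N₁'] [Module k' N₂'] [Module k' N₃']
  [IsScalarTower k k' N₁'] [IsScalarTower k k' N₂'] [IsScalarTower k k' N₃']

/-- Left exactness passes through base change identifications. -/
theorem modBC (g : N₁ →ₗ[k] N₂) (f : N₂ →ₗ[k] N₃) (g' : N₁' →ₗ[k'] N₂') (f' : N₂' →ₗ[k'] N₃')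
    (u₁ : N₁ →ₗ[k] N₁') (u₂ : N₂ →ₗ[k] N₂') (u₃ : N₃ →ₗ[k] N₃')
    (h₁ : IsBaseChange k' u₁) (h₂ : IsBaseChange k' u₂) (h₃ : IsBaseChange k' u₃)
    (c₁ : ∀ x, g' (u₁ x) = u₂ (g x)) (c₂ : ∀ x, f' (u₂ x) = u₃ (f x))
    (hinj : Function.Injective (g.lTensor k'))
    (hex : Function.Exact (g.lTensor k') (f.lTensor k')) :
    Function.Injective g' ∧ ∀ y, f' y = 0 → ∃ x, g' x = y := by
  have e₁ : ∀ x : k' ⊗[k] N₁, g' (h₁.equiv x) = h₂.equiv (g.lTensor k' x) := by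
    intro x
    induction x with
    | zero => simp
    | tmul s n =>
      rw [LinearMap.lTensor_tmul, h₁.equiv_tmul, h₂.equiv_tmul, map_smul, c₁]
    | add x y hx hy => rw [map_add, map_add, hx, hy, map_add, map_add]
  have e₂ : ∀ x : k' ⊗[k] N₂, f' (h₂.equiv x) = h₃.equiv (f.lTensor k' x) := by
    intro x
    induction x with
    | zero => simp
    | tmul s n =>
      rw [LinearMap.lTensor_tmul, h₂.equiv_tmul, h₃.equiv_tmul, map_smul, c₂]
    | add x y hx hy => rw [map_add, map_add, hx, hy, map_add, map_add]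
  constructor
  · intro x y hxy
    obtain ⟨x, rfl⟩ := h₁.equiv.surjective x
    obtain ⟨y, rfl⟩ := h₁.equiv.surjective y
    rw [e₁, e₁] at hxy
    rw [hinj (h₂.equiv.injective hxy)]
  · intro y hy
    obtain ⟨y, rfl⟩ := h₂.equiv.surjective y
    rw [e₂] at hy
    have hy' : f.lTensor k' y = 0 := h₃.equiv.injective (hy.trans (map_zero _).symm)
    obtain ⟨x, rfl⟩ := (hex y).mp hy'
    exact ⟨h₁.equiv x, e₁ x⟩

/-- Base change of a product. -/
theorem isBaseChange_prodMap (u₁ : N₁ →ₗ[k] N₁') (u₂ : N₂ →ₗ[k] N₂')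
    (h₁ : IsBaseChange k' u₁) (h₂ : IsBaseChange k' u₂) :
    IsBaseChange k' (u₁.prodMap u₂) := by
  refine IsBaseChange.of_equiv
    ((TensorProduct.prodRight k k' k' N₁ N₂).trans (LinearEquiv.prodCongr h₁.equiv h₂.equiv)) ?_
  rintro ⟨x, y⟩
  simp [h₁.equiv_tmul, h₂.equiv_tmul]

end Mod

section Core

variable {k k' R A B A₀ R' A' B' A₀' : Type u} [CommRing k] [CommRing k'] [CommRing R]
  [CommRing A] [CommRing B] [CommRing A₀] [CommRing R'] [CommRing A'] [CommRing B'] [CommRing A₀']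
  [Algebra k k'] [Algebra k R] [Algebra k A] [Algebra k B] [Algebra k A₀]
  [Algebra k R'] [Algebra k A'] [Algebra k B'] [Algebra k A₀']
  [Algebra k' R'] [Algebra k' A'] [Algebra k' B'] [Algebra k' A₀']
  [IsScalarTower k k' R'] [IsScalarTower k k' A'] [IsScalarTower k k' B'] [IsScalarTower k k' A₀']
  (α : R →ₐ[k] A) (β : R →ₐ[k] B) (π : A →ₐ[k] A₀) (φ : B →ₐ[k] A₀)
  (α' : R' →ₐ[k'] A') (β' : R' →ₐ[k'] B') (π' : A' →ₐ[k'] A₀') (φ' : B' →ₐ[k'] A₀')
  (uR : R →ₐ[k] R') (uA : A →ₐ[k] A') (uB : B →ₐ[k] B') (u₀ : A₀ →ₐ[k] A₀')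

/-- The map `r ↦ (β r, α r)`. -/
def gLin : R →ₗ[k] B × A := β.toLinearMap.prod α.toLinearMap

/-- The map `(b, a) ↦ φ b - π a`. -/
def fLin : B × A →ₗ[k] A₀ := φ.toLinearMap.coprod (-π.toLinearMap)

@[simp] lemma gLin_apply (r : R) : gLin α β r = (β r, α r) := rfl

@[simp] lemma fLin_apply (x : B × A) : fLin π φ x = φ x.1 - π x.2 := by
  simp [fLin, sub_eq_add_neg]

theorem gLin_injective (inj : ∀ r, α r = 0 → β r = 0 → r = 0) :
    Function.Injective (gLin α β) := by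
  rw [injective_iff_map_eq_zero]
  intro r hr
  rw [gLin_apply, Prod.mk_eq_zero] at hr
  exact inj r hr.2 hr.1

theorem exact_gLin_fLin (hsq : ∀ r, π (α r) = φ (β r))
    (surj : ∀ a b, φ b = π a → ∃ r, α r = a ∧ β r = b) :
    Function.Exact (gLin α β) (fLin π φ) := by
  intro x
  constructor
  · intro hx
    rw [fLin_apply, sub_eq_zero] at hx
    obtain ⟨r, hr1, hr2⟩ := surj x.2 x.1 hx
    exact ⟨r, by rw [gLin_apply, hr1, hr2]⟩
  · rintro ⟨r, rfl⟩
    rw [fLin_apply, gLin_apply, hsq, sub_self]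

theorem fLin_surjective (hπ : Function.Surjective π) : Function.Surjective (fLin π φ) := by
  intro a₀
  obtain ⟨a, rfl⟩ := hπ a₀
  exact ⟨(0, -a), by simp⟩

include uR uA uB u₀ in
theorem core (hR : IsBaseChange k' uR.toLinearMap) (hA : IsBaseChange k' uA.toLinearMap)
    (hB : IsBaseChange k' uB.toLinearMap) (h₀ : IsBaseChange k' u₀.toLinearMap)
    (cA : ∀ r, α' (uR r) = uA (α r)) (cB : ∀ r, β' (uR r) = uB (β r))
    (cπ : ∀ a, π' (uA a) = u₀ (π a)) (cφ : ∀ b, φ' (uB b) = u₀ (φ b))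
    (hinj : Function.Injective ((gLin α β).lTensor k'))
    (hex : Function.Exact ((gLin α β).lTensor k') ((fLin π φ).lTensor k')) :
    (∀ r', α' r' = 0 → β' r' = 0 → r' = 0) ∧
      (∀ a' b', φ' b' = π' a' → ∃ r', α' r' = a' ∧ β' r' = b') := by
  obtain ⟨h1, h2⟩ := modBC (gLin α β) (fLin π φ) (gLin α' β') (fLin π' φ')
    uR.toLinearMap (uB.toLinearMap.prodMap uA.toLinearMap) u₀.toLinearMap hR
    (isBaseChange_prodMap _ _ hB hA) h₀
    (fun x => by
      rw [gLin_apply, AlgHom.toLinearMap_apply, gLin_apply, cA, cB]; rfl)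
    (fun x => by
      rw [fLin_apply, fLin_apply, LinearMap.prodMap_apply, AlgHom.toLinearMap_apply,
        AlgHom.toLinearMap_apply, AlgHom.toLinearMap_apply, cπ, cφ, map_sub])
    hinj hex
  constructor
  · intro r' h1' h2'
    apply h1
    rw [gLin_apply, h1', h2', map_zero]
    rfl
  · intro a' b' hab
    obtain ⟨r', hr'⟩ := h2 (b', a') (by rw [fLin_apply, hab, sub_self])
    rw [gLin_apply, Prod.mk.injEq] at hr'
    exact ⟨r', hr'.2, hr'.1⟩

include uR uA uB u₀ in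
theorem core_of_flat [Module.Flat k k']
    (hR : IsBaseChange k' uR.toLinearMap) (hA : IsBaseChange k' uA.toLinearMap)
    (hB : IsBaseChange k' uB.toLinearMap) (h₀ : IsBaseChange k' u₀.toLinearMap)
    (cA : ∀ r, α' (uR r) = uA (α r)) (cB : ∀ r, β' (uR r) = uB (β r))
    (cπ : ∀ a, π' (uA a) = u₀ (π a)) (cφ : ∀ b, φ' (uB b) = u₀ (φ b))
    (hsq : ∀ r, π (α r) = φ (β r))
    (inj : ∀ r, α r = 0 → β r = 0 → r = 0)
    (surj : ∀ a b, φ b = π a → ∃ r, α r = a ∧ β r = b) :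
    (∀ r', α' r' = 0 → β' r' = 0 → r' = 0) ∧
      (∀ a' b', φ' b' = π' a' → ∃ r', α' r' = a' ∧ β' r' = b') :=
  core α β π φ α' β' π' φ' uR uA uB u₀ hR hA hB h₀ cA cB cπ cφ
    (Module.Flat.lTensor_preserves_injective_linearMap _ (gLin_injective α β inj))
    (Module.Flat.lTensor_exact k' (exact_gLin_fLin α β π φ hsq surj))

include uR uA uB u₀ in
theorem core_of_flat_right [Module.Flat k A₀] (hπ : Function.Surjective π)
    (hR : IsBaseChange k' uR.toLinearMap) (hA : IsBaseChange k' uA.toLinearMap)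
    (hB : IsBaseChange k' uB.toLinearMap) (h₀ : IsBaseChange k' u₀.toLinearMap)
    (cA : ∀ r, α' (uR r) = uA (α r)) (cB : ∀ r, β' (uR r) = uB (β r))
    (cπ : ∀ a, π' (uA a) = u₀ (π a)) (cφ : ∀ b, φ' (uB b) = u₀ (φ b))
    (hsq : ∀ r, π (α r) = φ (β r))
    (inj : ∀ r, α r = 0 → β r = 0 → r = 0)
    (surj : ∀ a b, φ b = π a → ∃ r, α r = a ∧ β r = b) :
    (∀ r', α' r' = 0 → β' r' = 0 → r' = 0) ∧
      (∀ a' b', φ' b' = π' a' → ∃ r', α' r' = a' ∧ β' r' = b') :=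
  core α β π φ α' β' π' φ' uR uA uB u₀ hR hA hB h₀ cA cB cπ cφ
    (LinearMap.lTensor_injective_of_exact_of_flat (fLin π φ) (fLin_surjective π φ hπ)
      (gLin α β) (gLin_injective α β inj) (exact_gLin_fLin α β π φ hsq surj) k')
    (lTensor_exact k' (exact_gLin_fLin α β π φ hsq surj) (fLin_surjective π φ hπ))

include uR uA uB u₀ in
theorem core_of_section (hπ : Function.Surjective π)
    (hsec : ∃ l : A₀ →ₗ[k] B × A, fLin π φ ∘ₗ l = LinearMap.id)
    (hR : IsBaseChange k' uR.toLinearMap) (hA : IsBaseChange k' uA.toLinearMap)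
    (hB : IsBaseChange k' uB.toLinearMap) (h₀ : IsBaseChange k' u₀.toLinearMap)
    (cA : ∀ r, α' (uR r) = uA (α r)) (cB : ∀ r, β' (uR r) = uB (β r))
    (cπ : ∀ a, π' (uA a) = u₀ (π a)) (cφ : ∀ b, φ' (uB b) = u₀ (φ b))
    (hsq : ∀ r, π (α r) = φ (β r))
    (inj : ∀ r, α r = 0 → β r = 0 → r = 0)
    (surj : ∀ a b, φ b = π a → ∃ r, α r = a ∧ β r = b) :
    (∀ r', α' r' = 0 → β' r' = 0 → r' = 0) ∧
      (∀ a' b', φ' b' = π' a' → ∃ r', α' r' = a' ∧ β' r' = b') := by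
  obtain ⟨L, hL⟩ := (((exact_gLin_fLin α β π φ hsq surj).split_tfae
    (gLin_injective α β inj) (fLin_surjective π φ hπ)).out 0 1).mp hsec
  refine core α β π φ α' β' π' φ' uR uA uB u₀ hR hA hB h₀ cA cB cπ cφ ?_
    (lTensor_exact k' (exact_gLin_fLin α β π φ hsq surj) (fLin_surjective π φ hπ))
  have h : (L.lTensor k') ∘ₗ ((gLin α β).lTensor k') = LinearMap.id := by
    rw [← LinearMap.lTensor_comp, hL, LinearMap.lTensor_id]
  exact Function.LeftInverse.injective (g := L.lTensor k') (LinearMap.congr_fun h)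

end Core

section Cat

open CommRingCat

variable {k k' R A B A₀ R' A' B' A₀' : CommRingCat.{u}}
  (κ : k ⟶ k') (ρ : k ⟶ R) (α : R ⟶ A) (β : R ⟶ B) (π : A ⟶ A₀) (φ : B ⟶ A₀)
  (ρ' : k' ⟶ R') (α' : R' ⟶ A') (β' : R' ⟶ B') (π' : A' ⟶ A₀') (φ' : B' ⟶ A₀')
  (uR : R ⟶ R') (uA : A ⟶ A') (uB : B ⟶ B') (u₀ : A₀ ⟶ A₀')

/-- A splitting condition on a fibre square of rings over `k`: the map `(b, a) ↦ φ b - π a`
has a `k`-linear section. -/
def SplitCond (ρ : k ⟶ R) (α : R ⟶ A) (β : R ⟶ B) (π : A ⟶ A₀) (φ : B ⟶ A₀) : Prop :=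
  ∃ (s₁ : A₀ → B) (s₂ : A₀ → A), (∀ x y, s₁ (x + y) = s₁ x + s₁ y) ∧
    (∀ x y, s₂ (x + y) = s₂ x + s₂ y) ∧
    (∀ c x, s₁ ((ρ ≫ α ≫ π).hom c * x) = (ρ ≫ β).hom c * s₁ x) ∧
    (∀ c x, s₂ ((ρ ≫ α ≫ π).hom c * x) = (ρ ≫ α).hom c * s₂ x) ∧
    ∀ x, φ.hom (s₁ x) - π.hom (s₂ x) = x

/-- **Base change of fibre squares of rings.** -/
theorem fibreSquare_baseChange
    (hA : α ≫ uA = uR ≫ α') (hB : β ≫ uB = uR ≫ β')
    (hπ : π ≫ u₀ = uA ≫ π') (hφ : φ ≫ u₀ = uB ≫ φ')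
    (hsq : α ≫ π = β ≫ φ) (hsq' : α' ≫ π' = β' ≫ φ')
    (poR : IsPushout ρ κ uR ρ') (poA : IsPushout (ρ ≫ α) κ uA (ρ' ≫ α'))
    (poB : IsPushout (ρ ≫ β) κ uB (ρ' ≫ β'))
    (po₀ : IsPushout (ρ ≫ α ≫ π) κ u₀ (ρ' ≫ α' ≫ π'))
    (inj : ∀ r, α.hom r = 0 → β.hom r = 0 → r = 0)
    (surj : ∀ a b, φ.hom b = π.hom a → ∃ r, α.hom r = a ∧ β.hom r = b)
    (hflat : κ.hom.Flat ∨ (Function.Surjective π.hom ∧ (ρ ≫ α ≫ π).hom.Flat) ∨
      (Function.Surjective π.hom ∧ SplitCond ρ α β π φ)) :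
    (∀ r', α'.hom r' = 0 → β'.hom r' = 0 → r' = 0) ∧
      (∀ a' b', φ'.hom b' = π'.hom a' → ∃ r', α'.hom r' = a' ∧ β'.hom r' = b') := by
  letI : Algebra k k' := κ.hom.toAlgebra
  letI : Algebra k R := ρ.hom.toAlgebra
  letI : Algebra k A := (ρ ≫ α).hom.toAlgebra
  letI : Algebra k B := (ρ ≫ β).hom.toAlgebra
  letI : Algebra k A₀ := (ρ ≫ α ≫ π).hom.toAlgebra
  letI : Algebra k' R' := ρ'.hom.toAlgebra
  letI : Algebra k' A' := (ρ' ≫ α').hom.toAlgebra
  letI : Algebra k' B' := (ρ' ≫ β').hom.toAlgebra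
  letI : Algebra k' A₀' := (ρ' ≫ α' ≫ π').hom.toAlgebra
  letI : Algebra R R' := uR.hom.toAlgebra
  letI : Algebra A A' := uA.hom.toAlgebra
  letI : Algebra B B' := uB.hom.toAlgebra
  letI : Algebra A₀ A₀' := u₀.hom.toAlgebra
  letI : Algebra k R' := (ρ ≫ uR).hom.toAlgebra
  letI : Algebra k A' := ((ρ ≫ α) ≫ uA).hom.toAlgebra
  letI : Algebra k B' := ((ρ ≫ β) ≫ uB).hom.toAlgebra
  letI : Algebra k A₀' := ((ρ ≫ α ≫ π) ≫ u₀).hom.toAlgebra
  haveI : IsScalarTower k k' R' := .of_algebraMap_eq' (congrArg CommRingCat.Hom.hom poR.w)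
  haveI : IsScalarTower k k' A' := .of_algebraMap_eq' (congrArg CommRingCat.Hom.hom poA.w)
  haveI : IsScalarTower k k' B' := .of_algebraMap_eq' (congrArg CommRingCat.Hom.hom poB.w)
  haveI : IsScalarTower k k' A₀' := .of_algebraMap_eq' (congrArg CommRingCat.Hom.hom po₀.w)
  haveI : IsScalarTower k R R' := .of_algebraMap_eq' rfl
  haveI : IsScalarTower k A A' := .of_algebraMap_eq' rfl
  haveI : IsScalarTower k B B' := .of_algebraMap_eq' rfl
  haveI : IsScalarTower k A₀ A₀' := .of_algebraMap_eq' rfl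
  have pR : Algebra.IsPushout k k' R R' := CommRingCat.isPushout_iff_isPushout.mp poR.flip
  have pA : Algebra.IsPushout k k' A A' := CommRingCat.isPushout_iff_isPushout.mp poA.flip
  have pB : Algebra.IsPushout k k' B B' := CommRingCat.isPushout_iff_isPushout.mp poB.flip
  have p₀ : Algebra.IsPushout k k' A₀ A₀' := CommRingCat.isPushout_iff_isPushout.mp po₀.flip
  let αa : R →ₐ[k] A := { α.hom with commutes' := fun _ => rfl }
  let βa : R →ₐ[k] B := { β.hom with commutes' := fun _ => rfl }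
  let πa : A →ₐ[k] A₀ := { π.hom with commutes' := fun _ => rfl }
  let φa : B →ₐ[k] A₀ := { φ.hom with
    commutes' := fun c => (congrArg (fun f => f.hom (ρ.hom c)) hsq).symm }
  let αa' : R' →ₐ[k'] A' := { α'.hom with commutes' := fun _ => rfl }
  let βa' : R' →ₐ[k'] B' := { β'.hom with commutes' := fun _ => rfl }
  let πa' : A' →ₐ[k'] A₀' := { π'.hom with commutes' := fun _ => rfl }
  let φa' : B' →ₐ[k'] A₀' := { φ'.hom with
    commutes' := fun c => (congrArg (fun f => f.hom (ρ'.hom c)) hsq').symm }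
  have cA : ∀ r, αa' (IsScalarTower.toAlgHom k R R' r) = IsScalarTower.toAlgHom k A A' (αa r) :=
    fun r => (congrArg (fun f => f.hom r) hA).symm
  have cB : ∀ r, βa' (IsScalarTower.toAlgHom k R R' r) = IsScalarTower.toAlgHom k B B' (βa r) :=
    fun r => (congrArg (fun f => f.hom r) hB).symm
  have cπ : ∀ a, πa' (IsScalarTower.toAlgHom k A A' a) = IsScalarTower.toAlgHom k A₀ A₀' (πa a) :=
    fun a => (congrArg (fun f => f.hom a) hπ).symm
  have cφ : ∀ b, φa' (IsScalarTower.toAlgHom k B B' b) = IsScalarTower.toAlgHom k A₀ A₀' (φa b) :=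
    fun b => (congrArg (fun f => f.hom b) hφ).symm
  have hsq₀ : ∀ r, πa (αa r) = φa (βa r) := fun r => congrArg (fun f => f.hom r) hsq
  rcases hflat with hfl | ⟨hsurj, hfl⟩ | ⟨hsurj, s₁, s₂, h1, h2, h3, h4, h5⟩
  · haveI : Module.Flat k k' := hfl
    exact core_of_flat αa βa πa φa αa' βa' πa' φa' (IsScalarTower.toAlgHom k R R')
      (IsScalarTower.toAlgHom k A A') (IsScalarTower.toAlgHom k B B')
      (IsScalarTower.toAlgHom k A₀ A₀') pR.out pA.out pB.out p₀.out cA cB cπ cφ hsq₀ inj surj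
  · haveI : Module.Flat k A₀ := hfl
    exact core_of_flat_right αa βa πa φa αa' βa' πa' φa' (IsScalarTower.toAlgHom k R R')
      (IsScalarTower.toAlgHom k A A') (IsScalarTower.toAlgHom k B B')
      (IsScalarTower.toAlgHom k A₀ A₀') hsurj pR.out pA.out pB.out p₀.out cA cB cπ cφ hsq₀ inj surj
  · let l : A₀ →ₗ[k] B × A :=
      { toFun := fun x => (s₁ x, s₂ x)
        map_add' := fun x y => by rw [h1, h2]; rfl
        map_smul' := fun c x => by
          change (s₁ ((ρ ≫ α ≫ π).hom c * x), s₂ ((ρ ≫ α ≫ π).hom c * x)) =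
            ((ρ ≫ β).hom c * s₁ x, (ρ ≫ α).hom c * s₂ x)
          rw [h3, h4] }
    have hl : fLin πa φa ∘ₗ l = LinearMap.id := by
      ext x
      rw [LinearMap.comp_apply, fLin_apply]
      exact h5 x
    exact core_of_section αa βa πa φa αa' βa' πa' φa' (IsScalarTower.toAlgHom k R R')
      (IsScalarTower.toAlgHom k A A') (IsScalarTower.toAlgHom k B B')
      (IsScalarTower.toAlgHom k A₀ A₀') hsurj ⟨l, hl⟩ pR.out pA.out pB.out p₀.out cA cB cπ cφ
      hsq₀ inj surj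

end Cat

end Groth.Agent.Lib.Helper28.Pinch
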