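import Groth.Agent.Lib.Helper28.Pinch.Charts
import Groth.Agent.Lib.Helper28.Pinch.BCAlg

/-!
# Base change of pushouts along closed immersions
-/

set_option autoImplicit false
universe u

open CategoryTheory Limits AlgebraicGeometry

namespace Groth.Agent.Lib.Helper28.Pinch

/-- Sections over affine opens of a fibre product. -/
theorem sect_isPushout {X Y S T : Scheme.{u}} {f : T ⟶ S} {g : Y ⟶ X} {iX : X ⟶ S} {iY : Y ⟶ T}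
    (H : IsPullback g iY iX f) {US : S.Opens} {UT : T.Opens} {UX : X.Opens}
    (hUST : UT ≤ f ⁻¹ᵁ US) (hUSX : UX ≤ iX ⁻¹ᵁ US) {UY : Y.Opens}
    (hUY : UY = g ⁻¹ᵁ UX ⊓ iY ⁻¹ᵁ UT)
    (hUS : IsAffineOpen US) (hUT : IsAffineOpen UT) (hUX : IsAffineOpen UX)
    (e₁ : UY ≤ g ⁻¹ᵁ UX) (e₂ : UY ≤ iY ⁻¹ᵁ UT) :
    IsAffineOpen UY ∧ IsPushout (iX.appLE US UX hUSX) (f.appLE US UT hUST)
      (g.appLE UX UY e₁) (iY.appLE UT UY e₂) := by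
  constructor
  · have : IsAffine _ := hUS
    have : IsAffine _ := hUT
    have : IsAffine _ := hUX
    exact .of_isIso (Scheme.Hom.isPullback_resLE H hUST hUSX hUY).isoPullback.hom
  · exact (isIso_pushoutSection_iff H hUST hUSX hUY).mp
      (isIso_pushoutSection_of_isAffineOpen H hUST hUSX hUY hUS hUT hUX)

lemma appLE_congr' {A B : Scheme.{u}} {f g : B ⟶ A} (h : f = g) (U : A.Opens) (V : B.Opens)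
    (e : V ≤ f ⁻¹ᵁ U) : f.appLE U V e = g.appLE U V (h ▸ e) := by subst h; rfl

/-- Commutation of `appLE`s coming from a commutative square of schemes. -/
lemma appLE_comm {A B C D : Scheme.{u}} {f₁ : B ⟶ A} {f₂ : D ⟶ B} {f₃ : C ⟶ A} {f₄ : D ⟶ C}
    (h : f₂ ≫ f₁ = f₄ ≫ f₃) (U : A.Opens) (V : B.Opens) (V' : C.Opens) (W : D.Opens)
    (e₁ : V ≤ f₁ ⁻¹ᵁ U) (e₂ : W ≤ f₂ ⁻¹ᵁ V) (e₃ : V' ≤ f₃ ⁻¹ᵁ U) (e₄ : W ≤ f₄ ⁻¹ᵁ V') :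
    f₁.appLE U V e₁ ≫ f₂.appLE V W e₂ = f₃.appLE U V' e₃ ≫ f₄.appLE V' W e₄ := by
  rw [Scheme.Hom.appLE_comp_appLE, Scheme.Hom.appLE_comp_appLE]
  exact appLE_congr' h _ _ _

section BC

variable {X Y Z P : Scheme.{u}} {i : Z ⟶ X} {j : Z ⟶ Y} [IsClosedImmersion i]
  {a : X ⟶ P} {b : Y ⟶ P} (hw : i ≫ a = j ≫ b)
  {S S' P' X' Y' Z' : Scheme.{u}} (r : P ⟶ S) (g : S' ⟶ S)
  {pP : P' ⟶ P} {sP : P' ⟶ S'} (hP' : IsPullback pP sP r g)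
  {pX : X' ⟶ X} {a' : X' ⟶ P'} (hX' : IsPullback pX a' a pP)
  {pY : Y' ⟶ Y} {b' : Y' ⟶ P'} (hY' : IsPullback pY b' b pP)
  {pZ : Z' ⟶ Z} {c' : Z' ⟶ P'} (hZ' : IsPullback pZ c' (i ≫ a) pP)
  {i' : Z' ⟶ X'} {j' : Z' ⟶ Y'} (hi₁ : i' ≫ pX = pZ ≫ i) (hi₂ : i' ≫ a' = c')
  (hj₁ : j' ≫ pY = pZ ≫ j) (hj₂ : j' ≫ b' = c')

include hP' hX' hY' hZ' hi₁ hj₁ in
/-- Base change of a chart. -/
theorem isChart_baseChange {W : P.Opens} (hW : IsChart a b hw W) {O : S.Opens}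
    (hO : IsAffineOpen O) (hWO : W ≤ r ⁻¹ᵁ O) {O' : S'.Opens} (hO' : IsAffineOpen O')
    (hOO' : O' ≤ g ⁻¹ᵁ O) (hflat : Flat g ∨ Flat ((i ≫ a) ≫ r) ∨
      SplitCond (r.appLE O W hWO) (a.app W) (b.app W)
        (i.appLE (a ⁻¹ᵁ W) (i ⁻¹ᵁ (a ⁻¹ᵁ W)) le_rfl)
        (j.appLE (b ⁻¹ᵁ W) (i ⁻¹ᵁ (a ⁻¹ᵁ W)) (pairOf a b hw W hW.hU hW.hV).ZU_le_j)) :
    IsChart a' b' (hi₂.trans hj₂.symm) (pP ⁻¹ᵁ W ⊓ sP ⁻¹ᵁ O') := by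
  obtain ⟨W', hW'def⟩ : ∃ W' : P'.Opens, W' = pP ⁻¹ᵁ W ⊓ sP ⁻¹ᵁ O' := ⟨_, rfl⟩
  rw [← hW'def]
  have hw' : i' ≫ a' = j' ≫ b' := hi₂.trans hj₂.symm
  have eW₁ : W' ≤ pP ⁻¹ᵁ W := hW'def.le.trans inf_le_left
  have eW₂ : W' ≤ sP ⁻¹ᵁ O' := hW'def.le.trans inf_le_right
  obtain ⟨hW'aff, poR⟩ := sect_isPushout hP' hOO' hWO hW'def hO hO' hW.hW eW₁ eW₂
  -- the `X`-side
  have HX : IsPullback pX (a' ≫ sP) (a ≫ r) g := hX'.paste_vert hP'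
  have hU'def : a' ⁻¹ᵁ W' = pX ⁻¹ᵁ (a ⁻¹ᵁ W) ⊓ (a' ≫ sP) ⁻¹ᵁ O' := by
    rw [hW'def, Scheme.Hom.preimage_inf, ← Scheme.Hom.comp_preimage, ← Scheme.Hom.comp_preimage,
      ← hX'.w, Scheme.Hom.comp_preimage]
  have hUO : a ⁻¹ᵁ W ≤ (a ≫ r) ⁻¹ᵁ O := a.preimage_mono hWO
  have eU₁ : a' ⁻¹ᵁ W' ≤ pX ⁻¹ᵁ (a ⁻¹ᵁ W) := hU'def.le.trans inf_le_left
  have eU₂ : a' ⁻¹ᵁ W' ≤ (a' ≫ sP) ⁻¹ᵁ O' := hU'def.le.trans inf_le_right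
  obtain ⟨hU'aff, poA⟩ := sect_isPushout HX hOO' hUO hU'def hO hO' hW.hU eU₁ eU₂
  -- the `Y`-side
  have HY : IsPullback pY (b' ≫ sP) (b ≫ r) g := hY'.paste_vert hP'
  have hV'def : b' ⁻¹ᵁ W' = pY ⁻¹ᵁ (b ⁻¹ᵁ W) ⊓ (b' ≫ sP) ⁻¹ᵁ O' := by
    rw [hW'def, Scheme.Hom.preimage_inf, ← Scheme.Hom.comp_preimage, ← Scheme.Hom.comp_preimage,
      ← hY'.w, Scheme.Hom.comp_preimage]
  have hVO : b ⁻¹ᵁ W ≤ (b ≫ r) ⁻¹ᵁ O := b.preimage_mono hWO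
  have eV₁ : b' ⁻¹ᵁ W' ≤ pY ⁻¹ᵁ (b ⁻¹ᵁ W) := hV'def.le.trans inf_le_left
  have eV₂ : b' ⁻¹ᵁ W' ≤ (b' ≫ sP) ⁻¹ᵁ O' := hV'def.le.trans inf_le_right
  obtain ⟨hV'aff, poB⟩ := sect_isPushout HY hOO' hVO hV'def hO hO' hW.hV eV₁ eV₂
  -- the `Z`-side
  have HZ : IsPullback pZ (c' ≫ sP) ((i ≫ a) ≫ r) g := hZ'.paste_vert hP'
  have hZaff : IsAffineOpen (i ⁻¹ᵁ (a ⁻¹ᵁ W)) := hW.hU.preimage i
  have hZ'def : i' ⁻¹ᵁ (a' ⁻¹ᵁ W') = pZ ⁻¹ᵁ (i ⁻¹ᵁ (a ⁻¹ᵁ W)) ⊓ (c' ≫ sP) ⁻¹ᵁ O' := by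
    rw [hU'def]
    change (i' ≫ pX) ⁻¹ᵁ (a ⁻¹ᵁ W) ⊓ ((i' ≫ a') ≫ sP) ⁻¹ᵁ O' = _
    rw [hi₁, hi₂]
    rfl
  have hZO : i ⁻¹ᵁ (a ⁻¹ᵁ W) ≤ ((i ≫ a) ≫ r) ⁻¹ᵁ O := (i ≫ a).preimage_mono hWO
  have eZ₁ : i' ⁻¹ᵁ (a' ⁻¹ᵁ W') ≤ pZ ⁻¹ᵁ (i ⁻¹ᵁ (a ⁻¹ᵁ W)) := hZ'def.le.trans inf_le_left
  have eZ₂ : i' ⁻¹ᵁ (a' ⁻¹ᵁ W') ≤ (c' ≫ sP) ⁻¹ᵁ O' := hZ'def.le.trans inf_le_right
  obtain ⟨hZ'aff, po₀⟩ := sect_isPushout HZ hOO' hZO hZ'def hO hO' hZaff eZ₁ eZ₂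
  -- assemble
  have hjZ : i ⁻¹ᵁ (a ⁻¹ᵁ W) ≤ j ⁻¹ᵁ (b ⁻¹ᵁ W) := (pairOf a b hw W hW.hU hW.hV).ZU_le_j
  have hjZ' : i' ⁻¹ᵁ (a' ⁻¹ᵁ W') ≤ j' ⁻¹ᵁ (b' ⁻¹ᵁ W') :=
    (pairOf a' b' hw' W' hU'aff hV'aff).ZU_le_j
  have e1 : r.appLE O W hWO ≫ a.app W = (a ≫ r).appLE O (a ⁻¹ᵁ W) hUO := by
    rw [Scheme.Hom.app_eq_appLE, Scheme.Hom.appLE_comp_appLE]
  have e1' : sP.appLE O' W' eW₂ ≫ a'.app W' = (a' ≫ sP).appLE O' (a' ⁻¹ᵁ W') eU₂ := by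
    rw [Scheme.Hom.app_eq_appLE, Scheme.Hom.appLE_comp_appLE]
  have e2 : r.appLE O W hWO ≫ b.app W = (b ≫ r).appLE O (b ⁻¹ᵁ W) hVO := by
    rw [Scheme.Hom.app_eq_appLE, Scheme.Hom.appLE_comp_appLE]
  have e2' : sP.appLE O' W' eW₂ ≫ b'.app W' = (b' ≫ sP).appLE O' (b' ⁻¹ᵁ W') eV₂ := by
    rw [Scheme.Hom.app_eq_appLE, Scheme.Hom.appLE_comp_appLE]
  have e3 : r.appLE O W hWO ≫ a.app W ≫ i.appLE (a ⁻¹ᵁ W) (i ⁻¹ᵁ (a ⁻¹ᵁ W)) le_rfl =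
      ((i ≫ a) ≫ r).appLE O (i ⁻¹ᵁ (a ⁻¹ᵁ W)) hZO := by
    rw [Scheme.Hom.app_eq_appLE, Scheme.Hom.appLE_comp_appLE, Scheme.Hom.appLE_comp_appLE]
  have e3' : sP.appLE O' W' eW₂ ≫ a'.app W' ≫
      i'.appLE (a' ⁻¹ᵁ W') (i' ⁻¹ᵁ (a' ⁻¹ᵁ W')) le_rfl =
      (c' ≫ sP).appLE O' (i' ⁻¹ᵁ (a' ⁻¹ᵁ W')) eZ₂ := by
    rw [Scheme.Hom.app_eq_appLE, Scheme.Hom.appLE_comp_appLE, Scheme.Hom.appLE_comp_appLE]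
    exact appLE_congr' (by rw [hi₂]) _ _ _
  have key := fibreSquare_baseChange (κ := g.appLE O O' hOO') (ρ := r.appLE O W hWO)
    (α := a.app W) (β := b.app W)
    (π := i.appLE (a ⁻¹ᵁ W) (i ⁻¹ᵁ (a ⁻¹ᵁ W)) le_rfl)
    (φ := j.appLE (b ⁻¹ᵁ W) (i ⁻¹ᵁ (a ⁻¹ᵁ W)) hjZ)
    (ρ' := sP.appLE O' W' eW₂) (α' := a'.app W') (β' := b'.app W')
    (π' := i'.appLE (a' ⁻¹ᵁ W') (i' ⁻¹ᵁ (a' ⁻¹ᵁ W')) le_rfl)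
    (φ' := j'.appLE (b' ⁻¹ᵁ W') (i' ⁻¹ᵁ (a' ⁻¹ᵁ W')) hjZ')
    (uR := pP.appLE W W' eW₁) (uA := pX.appLE (a ⁻¹ᵁ W) (a' ⁻¹ᵁ W') eU₁)
    (uB := pY.appLE (b ⁻¹ᵁ W) (b' ⁻¹ᵁ W') eV₁)
    (u₀ := pZ.appLE (i ⁻¹ᵁ (a ⁻¹ᵁ W)) (i' ⁻¹ᵁ (a' ⁻¹ᵁ W')) eZ₁)
    (by rw [Scheme.Hom.app_eq_appLE, Scheme.Hom.app_eq_appLE]
        exact appLE_comm hX'.w _ _ _ _ _ _ _ _)
    (by rw [Scheme.Hom.app_eq_appLE, Scheme.Hom.app_eq_appLE]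
        exact appLE_comm hY'.w _ _ _ _ _ _ _ _)
    (appLE_comm hi₁.symm _ _ _ _ _ _ _ _)
    (appLE_comm hj₁.symm _ _ _ _ _ _ _ _)
    (by rw [Scheme.Hom.app_eq_appLE, Scheme.Hom.app_eq_appLE, Scheme.Hom.appLE_comp_appLE,
          Scheme.Hom.appLE_comp_appLE]
        exact appLE_congr' hw _ _ _)
    (by rw [Scheme.Hom.app_eq_appLE, Scheme.Hom.app_eq_appLE, Scheme.Hom.appLE_comp_appLE,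
          Scheme.Hom.appLE_comp_appLE]
        exact appLE_congr' hw' _ _ _)
    poR (by rw [e1, e1']; exact poA) (by rw [e2, e2']; exact poB) (by rw [e3, e3']; exact po₀)
    hW.inj
    (fun a₁ b₁ h => by
      obtain ⟨s, hs1, hs2⟩ := hW.surj (FP.mk _ _ b₁ a₁ h)
      exact ⟨s, hs1, hs2⟩)
    (by
      rcases hflat with h | h | h
      · exact Or.inl (Flat.flat_appLE g hO hO' hOO')
      · refine Or.inr (Or.inl ⟨(pairOf a b hw W hW.hU hW.hV).π_surjective, ?_⟩)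
        rw [e3]
        exact Flat.flat_appLE _ hO hZaff hZO
      · exact Or.inr (Or.inr ⟨(pairOf a b hw W hW.hU hW.hV).π_surjective, h⟩))
  exact ⟨hW'aff, hU'aff, hV'aff, key.1, fun x => key.2 _ _ (FP.comm _ _ x)⟩

include hP' hX' hY' hZ' hi₁ hi₂ hj₁ hj₂ in
/-- **Base change of pushouts along closed immersions**: the base change of a pinching along
`g : S' ⟶ S` is again a pinching, if `g` is flat or if `Z` is flat over `S`. -/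
theorem isPushout_baseChange (hY : ∀ y : Y, ∃ β : APair i j, y ∈ β.V) (hP : IsPushout i j a b)
    (hflat : Flat g ∨ Flat ((i ≫ a) ≫ r)) : IsPushout i' j' a' b' := by
  have hsq : IsPullback pZ i' i pX := IsPullback.of_bot (by rw [hi₂]; exact hZ') hi₁.symm hX'
  haveI : IsClosedImmersion i' :=
    MorphismProperty.of_isPullback (P := @IsClosedImmersion) hsq inferInstance
  refine isPushout_of_charts (hw := hi₂.trans hj₂.symm) fun p' => ?_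
  obtain ⟨O, hO, hpO⟩ : ∃ O : S.Opens, IsAffineOpen O ∧ r (pP p') ∈ O := by
    obtain ⟨_, ⟨O, hO, rfl⟩, hpO, -⟩ := S.isBasis_affineOpens.exists_subset_of_mem_open
      (Set.mem_univ (r (pP p'))) isOpen_univ
    exact ⟨O, hO, hpO⟩
  obtain ⟨W, hpW, hWO, hW⟩ := exists_isChart hY hP (pP p') (r ⁻¹ᵁ O) hpO
  have hgs : g (sP p') ∈ O := by
    rw [← Scheme.Hom.comp_apply, ← hP'.w, Scheme.Hom.comp_apply]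
    exact hpO
  obtain ⟨O', hO', hpO', hOO'⟩ : ∃ O' : S'.Opens, IsAffineOpen O' ∧ sP p' ∈ O' ∧
      O' ≤ g ⁻¹ᵁ O := by
    obtain ⟨_, ⟨O', hO', rfl⟩, hpO', hle⟩ := S'.isBasis_affineOpens.exists_subset_of_mem_open
      (show sP p' ∈ ((g ⁻¹ᵁ O : S'.Opens) : Set S') from hgs) (g ⁻¹ᵁ O).isOpen
    exact ⟨O', hO', hpO', hle⟩
  exact ⟨pP ⁻¹ᵁ W ⊓ sP ⁻¹ᵁ O', ⟨hpW, hpO'⟩,
    isChart_baseChange hP.w r g hP' hX' hY' hZ' hi₁ hi₂ hj₁ hj₂ hW hO hWO hO' hOO'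
      (hflat.imp_right Or.inl)⟩

end BC

end Groth.Agent.Lib.Helper28.Pinch
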