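import Mathlib

/-!
# Fibre products of rings `B ×_{A₀} A` with `A → A₀` surjective
-/

set_option autoImplicit false
universe u

namespace Groth.Agent.Lib.Helper28.Pinch

variable {A A₀ B : Type u} [CommRing A] [CommRing A₀] [CommRing B]

/-- The fibre product ring `B ×_{A₀} A` as a subring of `B × A`. -/
def FP (π : A →+* A₀) (φ : B →+* A₀) : Subring (B × A) :=
  (φ.comp (RingHom.fst B A)).eqLocus (π.comp (RingHom.snd B A))

namespace FP

variable (π : A →+* A₀) (φ : B →+* A₀)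

lemma mem_iff {x : B × A} : x ∈ FP π φ ↔ φ x.1 = π x.2 := Iff.rfl

/-- constructor -/
def mk (b : B) (a : A) (h : φ b = π a) : FP π φ := ⟨(b, a), h⟩

/-- projection to `B` -/
def pB : FP π φ →+* B := (RingHom.fst B A).comp (FP π φ).subtype

/-- projection to `A` -/
def pA : FP π φ →+* A := (RingHom.snd B A).comp (FP π φ).subtype

@[simp] lemma pB_mk (b : B) (a : A) (h : φ b = π a) : pB π φ (mk π φ b a h) = b := rfl
@[simp] lemma pA_mk (b : B) (a : A) (h : φ b = π a) : pA π φ (mk π φ b a h) = a := rfl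

lemma pB_apply (x : FP π φ) : pB π φ x = x.1.1 := rfl
lemma pA_apply (x : FP π φ) : pA π φ x = x.1.2 := rfl

lemma comm (x : FP π φ) : φ (pB π φ x) = π (pA π φ x) := x.2

lemma comm' : φ.comp (pB π φ) = π.comp (pA π φ) := RingHom.ext (comm π φ)

@[ext] lemma ext' {x y : FP π φ} (h1 : pB π φ x = pB π φ y) (h2 : pA π φ x = pA π φ y) :
    x = y := Subtype.ext (Prod.ext h1 h2)

variable {π φ}

lemma pB_surjective (hπ : Function.Surjective π) : Function.Surjective (pB π φ) := by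
  intro b
  obtain ⟨a, ha⟩ := hπ (φ b)
  exact ⟨mk π φ b a ha.symm, rfl⟩

variable (π φ)

/-- The universal property. -/
def lift {Λ : Type u} [CommRing Λ] (f : Λ →+* B) (g : Λ →+* A) (h : φ.comp f = π.comp g) :
    Λ →+* FP π φ :=
  (f.prod g).codRestrict (FP π φ) (fun x => RingHom.congr_fun h x)

@[simp] lemma pB_lift {Λ : Type u} [CommRing Λ] (f : Λ →+* B) (g : Λ →+* A)
    (h : φ.comp f = π.comp g) (x : Λ) : pB π φ (lift π φ f g h x) = f x := rfl

@[simp] lemma pA_lift {Λ : Type u} [CommRing Λ] (f : Λ →+* B) (g : Λ →+* A)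
    (h : φ.comp f = π.comp g) (x : Λ) : pA π φ (lift π φ f g h x) = g x := rfl

lemma pB_comp_lift {Λ : Type u} [CommRing Λ] (f : Λ →+* B) (g : Λ →+* A)
    (h : φ.comp f = π.comp g) : (pB π φ).comp (lift π φ f g h) = f := rfl

lemma pA_comp_lift {Λ : Type u} [CommRing Λ] (f : Λ →+* B) (g : Λ →+* A)
    (h : φ.comp f = π.comp g) : (pA π φ).comp (lift π φ f g h) = g := rfl

lemma hom_ext {Λ : Type u} [CommRing Λ] {f g : Λ →+* FP π φ}
    (h1 : (pB π φ).comp f = (pB π φ).comp g) (h2 : (pA π φ).comp f = (pA π φ).comp g) :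
    f = g := by
  ext x
  · exact RingHom.congr_fun h1 x
  · exact RingHom.congr_fun h2 x

/-- functoriality of the fibre product -/
def map {A' A₀' B' : Type u} [CommRing A'] [CommRing A₀'] [CommRing B'] (π' : A' →+* A₀')
    (φ' : B' →+* A₀') (fA : A →+* A') (f₀ : A₀ →+* A₀') (fB : B →+* B')
    (hA : π'.comp fA = f₀.comp π) (hB : φ'.comp fB = f₀.comp φ) : FP π φ →+* FP π' φ' :=
  lift π' φ' (fB.comp (pB π φ)) (fA.comp (pA π φ)) (by
    rw [← RingHom.comp_assoc, hB, ← RingHom.comp_assoc, hA, RingHom.comp_assoc,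
      RingHom.comp_assoc, comm'])

@[simp] lemma pB_map {A' A₀' B' : Type u} [CommRing A'] [CommRing A₀'] [CommRing B']
    (π' : A' →+* A₀') (φ' : B' →+* A₀') (fA : A →+* A') (f₀ : A₀ →+* A₀') (fB : B →+* B')
    (hA : π'.comp fA = f₀.comp π) (hB : φ'.comp fB = f₀.comp φ) (x : FP π φ) :
    pB π' φ' (map π φ π' φ' fA f₀ fB hA hB x) = fB (pB π φ x) := rfl

@[simp] lemma pA_map {A' A₀' B' : Type u} [CommRing A'] [CommRing A₀'] [CommRing B']
    (π' : A' →+* A₀') (φ' : B' →+* A₀') (fA : A →+* A') (f₀ : A₀ →+* A₀') (fB : B →+* B')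
    (hA : π'.comp fA = f₀.comp π) (hB : φ'.comp fB = f₀.comp φ) (x : FP π φ) :
    pA π' φ' (map π φ π' φ' fA f₀ fB hA hB x) = fA (pA π φ x) := rfl

end FP

end Groth.Agent.Lib.Helper28.Pinch
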