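import Groth.Agent.Lib.Helper28.Pinch.Props2

/-!
# The pinching: interface for arbitrary pushout squares
-/

set_option autoImplicit false
universe u

open CategoryTheory Limits AlgebraicGeometry

namespace Groth.Agent.Lib.Helper28.Pinch

variable {X Y Z P : Scheme.{u}} {i : Z ⟶ X} {j : Z ⟶ Y} [IsClosedImmersion i]
  (hY : ∀ y : Y, ∃ β : APair i j, y ∈ β.V) {a : X ⟶ P} {b : Y ⟶ P} (hP : IsPushout i j a b)

/-- The comparison isomorphism from the constructed pinching to any pushout. -/
noncomputable def isoOfIsPushout : Glue.P i j ≅ P :=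
  (Glue.isPushout hY).isoIsPushout _ _ hP

@[reassoc]
lemma a_isoOfIsPushout_hom : Glue.a hY ≫ (isoOfIsPushout hY hP).hom = a :=
  IsPushout.inl_isoIsPushout_hom X Y (Glue.isPushout hY) hP

@[reassoc]
lemma b_isoOfIsPushout_hom : Glue.b hY ≫ (isoOfIsPushout hY hP).hom = b :=
  IsPushout.inr_isoIsPushout_hom X Y (Glue.isPushout hY) hP

include hY hP

theorem isPullback_of_isPushout : IsPullback i j a b :=
  (Glue.isPullback hY).of_iso (Iso.refl _) (Iso.refl _) (Iso.refl _) (isoOfIsPushout hY hP)
    (by simp) (by simp) (by simpa using a_isoOfIsPushout_hom hY hP)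
    (by simpa using b_isoOfIsPushout_hom hY hP)

theorem isClosedImmersion_of_isPushout : IsClosedImmersion b := by
  rw [← b_isoOfIsPushout_hom hY hP]
  haveI := Glue.isClosedImmersion_b hY
  infer_instance

theorem isAffineHom_of_isPushout : IsAffineHom a := by
  rw [← a_isoOfIsPushout_hom hY hP]
  haveI := Glue.isAffineHom_a hY
  infer_instance

theorem isIntegralHom_of_isPushout [IsIntegralHom j] : IsIntegralHom a := by
  rw [← a_isoOfIsPushout_hom hY hP]
  haveI := Glue.isIntegralHom_a hY
  infer_instance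

theorem isClosedImmersion_left_of_isPushout [IsClosedImmersion j] : IsClosedImmersion a := by
  rw [← a_isoOfIsPushout_hom hY hP]
  haveI := Glue.isClosedImmersion_a hY
  infer_instance

theorem jointly_surjective_of_isPushout (p : P) : p ∈ Set.range a ∨ p ∈ Set.range b := by
  rcases Glue.jointly_surjective hY ((isoOfIsPushout hY hP).inv p) with ⟨x, hx⟩ | ⟨y, hy⟩
  · left
    refine ⟨x, ?_⟩
    rw [← a_isoOfIsPushout_hom hY hP, Scheme.Hom.comp_apply, hx, ← Scheme.Hom.comp_apply,
      Iso.inv_hom_id]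
    rfl
  · right
    refine ⟨y, ?_⟩
    rw [← b_isoOfIsPushout_hom hY hP, Scheme.Hom.comp_apply, hy, ← Scheme.Hom.comp_apply,
      Iso.inv_hom_id]
    rfl

end Groth.Agent.Lib.Helper28.Pinch
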