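import Mathlib

/-!
# Pushouts of schemes in sheafed spaces are pushouts of schemes
-/

set_option autoImplicit false
universe u

open CategoryTheory Limits AlgebraicGeometry

namespace Groth.Agent.Lib.Helper28.Pinch

/-- The forgetful functor from schemes to sheafed spaces. -/
abbrev FSh : Scheme.{u} ⥤ SheafedSpace CommRingCat.{u} :=
  Scheme.forgetToLocallyRingedSpace ⋙ LocallyRingedSpace.forgetToSheafedSpace

variable {Z X Z' X' : Scheme.{u}} (ι : Z ⟶ X) (q : Z ⟶ Z') (π : X ⟶ X') (ι' : Z' ⟶ X')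

/-- Joint surjectivity in a pushout of sheafed spaces. -/
theorem jointly_surjective_of_sheafedSpace
    (hpo : IsPushout (FSh.map ι) (FSh.map q) (FSh.map π) (FSh.map ι')) (x' : X') :
    x' ∈ Set.range π ∨ x' ∈ Set.range ι' := by
  have h1 : IsPushout ((SheafedSpace.forget CommRingCat.{u}).map (FSh.map ι))
      ((SheafedSpace.forget CommRingCat.{u}).map (FSh.map q))
      ((SheafedSpace.forget CommRingCat.{u}).map (FSh.map π))
      ((SheafedSpace.forget CommRingCat.{u}).map (FSh.map ι')) :=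
    hpo.map (SheafedSpace.forget CommRingCat.{u})
  obtain ⟨j, y, hy⟩ := Concrete.isColimit_exists_rep _ h1.isColimit x'
  rcases j with _ | j
  · left
    refine ⟨ι y, ?_⟩
    rw [← hy]
    have := congrArg (fun f => (ConcreteCategory.hom f) y) (h1.cocone.w WalkingSpan.Hom.fst)
    exact this
  · rcases j with _ | _
    · exact Or.inl ⟨y, hy⟩
    · exact Or.inr ⟨y, hy⟩

/-- Lifting a morphism of sheafed spaces out of a pushout to a morphism of schemes. -/
theorem exists_scheme_hom_of_sheafedSpace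
    (hpo : IsPushout (FSh.map ι) (FSh.map q) (FSh.map π) (FSh.map ι'))
    {T : Scheme.{u}} (g₁ : X ⟶ T) (g₂ : Z' ⟶ T) (u₀ : FSh.obj X' ⟶ FSh.obj T)
    (h₁ : FSh.map π ≫ u₀ = FSh.map g₁) (h₂ : FSh.map ι' ≫ u₀ = FSh.map g₂) :
    ∃ u : X' ⟶ T, FSh.map u = u₀ := by
  have hloc : ∀ x', IsLocalHom ((u₀.hom).stalkMap x').hom := by
    intro x'
    rcases jointly_surjective_of_sheafedSpace ι q π ι' hpo x' with ⟨x, rfl⟩ | ⟨z, rfl⟩
    · have e : (FSh.map π).hom ≫ u₀.hom = (FSh.map g₁).hom :=
        congrArg InducedCategory.Hom.hom h₁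
      have hl : IsLocalHom (((FSh.map π).hom ≫ u₀.hom).stalkMap x).hom := by
        rw [e]
        exact g₁.toLRSHom.prop x
      rw [PresheafedSpace.stalkMap.comp] at hl
      haveI : IsLocalHom (((FSh.map π).hom.stalkMap x).hom.comp (u₀.hom.stalkMap (π x)).hom) := hl
      exact isLocalHom_of_comp (u₀.hom.stalkMap (π x)).hom ((FSh.map π).hom.stalkMap x).hom
    · have e : (FSh.map ι').hom ≫ u₀.hom = (FSh.map g₂).hom :=
        congrArg InducedCategory.Hom.hom h₂
      have hl : IsLocalHom (((FSh.map ι').hom ≫ u₀.hom).stalkMap z).hom := by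
        rw [e]
        exact g₂.toLRSHom.prop z
      rw [PresheafedSpace.stalkMap.comp] at hl
      haveI : IsLocalHom (((FSh.map ι').hom.stalkMap z).hom.comp (u₀.hom.stalkMap (ι' z)).hom) := hl
      exact isLocalHom_of_comp (u₀.hom.stalkMap (ι' z)).hom ((FSh.map ι').hom.stalkMap z).hom
  exact ⟨⟨⟨u₀.hom, hloc⟩⟩, rfl⟩

/-- **A square of schemes which is a pushout of sheafed spaces is a pushout of schemes.** -/
theorem isPushout_of_sheafedSpace
    (hpo : IsPushout (FSh.map ι) (FSh.map q) (FSh.map π) (FSh.map ι')) : IsPushout ι q π ι' := by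
  have hw : ι ≫ π = q ≫ ι' := by
    apply FSh.map_injective
    rw [Functor.map_comp, Functor.map_comp]
    exact hpo.w
  refine ⟨⟨hw⟩, ⟨PushoutCocone.IsColimit.mk _ (fun s => ?_) (fun s => ?_) (fun s => ?_) ?_⟩⟩
  · exact (exists_scheme_hom_of_sheafedSpace ι q π ι' hpo s.inl s.inr
      (hpo.desc (FSh.map s.inl) (FSh.map s.inr)
        (by rw [← Functor.map_comp, ← Functor.map_comp, s.condition]))
      (hpo.inl_desc _ _ _) (hpo.inr_desc _ _ _)).choose
  · apply FSh.map_injective
    rw [Functor.map_comp, (exists_scheme_hom_of_sheafedSpace ι q π ι' hpo s.inl s.inr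
      (hpo.desc (FSh.map s.inl) (FSh.map s.inr)
        (by rw [← Functor.map_comp, ← Functor.map_comp, s.condition]))
      (hpo.inl_desc _ _ _) (hpo.inr_desc _ _ _)).choose_spec]
    exact hpo.inl_desc _ _ _
  · apply FSh.map_injective
    rw [Functor.map_comp, (exists_scheme_hom_of_sheafedSpace ι q π ι' hpo s.inl s.inr
      (hpo.desc (FSh.map s.inl) (FSh.map s.inr)
        (by rw [← Functor.map_comp, ← Functor.map_comp, s.condition]))
      (hpo.inl_desc _ _ _) (hpo.inr_desc _ _ _)).choose_spec]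
    exact hpo.inr_desc _ _ _
  · intro s m hm₁ hm₂
    apply FSh.map_injective
    rw [(exists_scheme_hom_of_sheafedSpace ι q π ι' hpo s.inl s.inr
      (hpo.desc (FSh.map s.inl) (FSh.map s.inr)
        (by rw [← Functor.map_comp, ← Functor.map_comp, s.condition]))
      (hpo.inl_desc _ _ _) (hpo.inr_desc _ _ _)).choose_spec]
    apply hpo.hom_ext
    · rw [hpo.inl_desc, ← Functor.map_comp, hm₁]
    · rw [hpo.inr_desc, ← Functor.map_comp, hm₂]

end Groth.Agent.Lib.Helper28.Pinch
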