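import Mathlib

/-!
# Prime avoidance for cosets, and its geometric forms
-/

set_option autoImplicit false
universe u

open CategoryTheory Limits AlgebraicGeometry

namespace Groth.Agent.Lib.Helper28.Pinch

section Ring

variable {R : Type*} [CommRing R]

/-- Plain prime avoidance for a finset of prime ideals. -/
theorem exists_mem_forall_notMem (J : Ideal R) (T : Finset (Ideal R))
    (hT : ∀ P ∈ T, P.IsPrime) (h : ∀ P ∈ T, ¬ J ≤ P) : ∃ k ∈ J, ∀ P ∈ T, k ∉ P := by
  classical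
  have h1 : ¬ ((J : Set R) ⊆ ⋃ P ∈ (↑T : Set (Ideal R)), ((id P : Ideal R) : Set R)) := by
    rw [Ideal.subset_union_prime (f := fun P : Ideal R => id P) ⊥ ⊥
      (fun P hP _ _ => hT P hP)]
    rintro ⟨P, hP, hJP⟩
    exact h P hP hJP
  obtain ⟨k, hkJ, hk⟩ := Set.not_subset.mp h1
  refine ⟨k, hkJ, fun P hP hkP => hk ?_⟩
  simp only [Set.mem_iUnion]
  exact ⟨P, hP, hkP⟩

/-- **Prime avoidance for cosets**: if `x` does not lie in those of the finitely many primes
which contain `I`, then some element of `x + I` avoids all of them. -/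
theorem exists_add_forall_notMem (I : Ideal R) (x : R) (T : Finset (Ideal R))
    (hT : ∀ P ∈ T, P.IsPrime) (h : ∀ P ∈ T, I ≤ P → x ∉ P) :
    ∃ k ∈ I, ∀ P ∈ T, x + k ∉ P := by
  classical
  -- reduce to the maximal elements
  let Tm : Finset (Ideal R) := T.filter fun P => Maximal (· ∈ T) P
  have hTm : ∀ P ∈ Tm, P ∈ T := fun P hP => (Finset.mem_filter.mp hP).1
  let S₁ : Finset (Ideal R) := Tm.filter fun P => x ∈ P
  let S₂ : Finset (Ideal R) := Tm.filter fun P => x ∉ P
  let J : Ideal R := I ⊓ S₂.inf id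
  have hJ : ∀ P ∈ S₁, ¬ J ≤ P := by
    intro P hP hJP
    have hPm := (Finset.mem_filter.mp hP).1
    have hxP := (Finset.mem_filter.mp hP).2
    have hPT := hTm P hPm
    have hprime := hT P hPT
    rcases hprime.inf_le.mp hJP with h1 | h1
    · exact h P hPT h1 hxP
    · obtain ⟨Q, hQ, hQP⟩ := (Ideal.IsPrime.inf_le' hprime).mp h1
      have hQm := (Finset.mem_filter.mp hQ).1
      have hxQ := (Finset.mem_filter.mp hQ).2
      have hQmax : Maximal (· ∈ T) Q := (Finset.mem_filter.mp hQm).2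
      have hPQ : P ≤ Q := hQmax.2 hPT hQP
      exact hxQ (hPQ hxP)
  obtain ⟨k, hkJ, hk⟩ := exists_mem_forall_notMem J S₁ (fun P hP => hT P (hTm P
    (Finset.mem_filter.mp hP).1)) hJ
  refine ⟨k, hkJ.1, ?_⟩
  have hmax : ∀ P ∈ Tm, x + k ∉ P := by
    intro P hP hxk
    by_cases hxP : x ∈ P
    · have : P ∈ S₁ := Finset.mem_filter.mpr ⟨hP, hxP⟩
      exact hk P this ((Ideal.add_mem_iff_right P hxP).mp hxk)
    · have hPS : P ∈ S₂ := Finset.mem_filter.mpr ⟨hP, hxP⟩
      have hkP : k ∈ P := (Finset.inf_le hPS : S₂.inf id ≤ id P) hkJ.2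
      exact hxP ((Ideal.add_mem_iff_left P hkP).mp hxk)
  intro P hP hxk
  obtain ⟨Q, hPQ, hQ⟩ := T.exists_le_maximal hP
  exact hmax Q (Finset.mem_filter.mpr ⟨hQ.1, hQ⟩) (hPQ hxk)

end Ring

section Geo

variable {X : Scheme.{u}}

/-- The prime ideal of sections over `U` vanishing at `x`. -/
noncomputable def pointIdeal {U : X.Opens} (x : X) (hx : x ∈ U) : Ideal Γ(X, U) :=
  (IsLocalRing.maximalIdeal (X.presheaf.stalk x)).comap (X.presheaf.germ U x hx).hom

instance {U : X.Opens} (x : X) (hx : x ∈ U) : (pointIdeal x hx).IsPrime :=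
  Ideal.comap_isPrime _ _

lemma mem_pointIdeal {U : X.Opens} (x : X) (hx : x ∈ U) (f : Γ(X, U)) :
    f ∈ pointIdeal x hx ↔ x ∉ X.basicOpen f := by
  rw [X.mem_basicOpen f x hx]
  exact Iff.rfl

/-- The finset of point ideals of a finite set of points of `U`. -/
noncomputable def pointIdeals {U : X.Opens} (F : Set X) (hF : F.Finite) (hFU : F ⊆ U) :
    Finset (Ideal Γ(X, U)) := by
  classical
  exact hF.toFinset.attach.image
    (fun x => pointIdeal x.1 (hFU (hF.mem_toFinset.mp x.2)))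

lemma mem_pointIdeals {U : X.Opens} {F : Set X} (hF : F.Finite) (hFU : F ⊆ U)
    (P : Ideal Γ(X, U)) : P ∈ pointIdeals F hF hFU ↔ ∃ (x : X) (hx : x ∈ F), P = pointIdeal x (hFU hx) := by
  classical
  unfold pointIdeals
  rw [Finset.mem_image]
  constructor
  · rintro ⟨x, -, rfl⟩
    exact ⟨x.1, hF.mem_toFinset.mp x.2, rfl⟩
  · rintro ⟨x, hx, rfl⟩
    exact ⟨⟨x, hF.mem_toFinset.mpr hx⟩, Finset.mem_attach _ _, rfl⟩

/-- A finite set of points of an affine open `U` inside an open `O` lies in a basic open of `U`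
contained in `O`. -/
theorem exists_basicOpen_finite {U : X.Opens} (hU : IsAffineOpen U) (F : Set X) (hF : F.Finite)
    (hFU : F ⊆ U) (O : X.Opens) (hFO : F ⊆ O) :
    ∃ f : Γ(X, U), F ⊆ X.basicOpen f ∧ X.basicOpen f ≤ O := by
  let 𝔞 : Ideal Γ(X, U) := Ideal.span {h | X.basicOpen h ≤ O}
  have hcl : ∀ f ∈ 𝔞, X.basicOpen f ≤ O := by
    intro f hf
    refine Submodule.span_induction (p := fun f _ => X.basicOpen f ≤ O) ?_ ?_ ?_ ?_ hf
    · intro h hh; exact hh
    · simp
    · intro a b _ _ ha hb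
      exact (Scheme.basicOpen_add_le (f := a) (g := b)).trans (sup_le ha hb)
    · intro a b _ hb
      rw [smul_eq_mul, Scheme.basicOpen_mul]
      exact inf_le_right.trans hb
  obtain ⟨f, hf𝔞, hf⟩ := exists_mem_forall_notMem 𝔞 (pointIdeals F hF hFU)
    (fun P hP => by
      obtain ⟨x, hx, rfl⟩ := (mem_pointIdeals hF hFU P).mp hP
      infer_instance)
    (fun P hP hle => by
      obtain ⟨x, hx, rfl⟩ := (mem_pointIdeals hF hFU P).mp hP
      obtain ⟨h, hhO, hxh⟩ := hU.exists_basicOpen_le (V := O) ⟨x, hFO hx⟩ (hFU hx)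
      have h1 : h ∈ 𝔞 := Ideal.subset_span hhO
      exact (mem_pointIdeal x (hFU hx) h).mp (hle h1) hxh)
  refine ⟨f, fun x hx => ?_, hcl f hf𝔞⟩
  by_contra hxf
  exact hf _ ((mem_pointIdeals hF hFU _).mpr ⟨x, hx, rfl⟩) ((mem_pointIdeal x (hFU hx) f).mpr hxf)

/-- Lifting a section along a closed immersion while keeping a finite set of points in the
basic open. -/
theorem exists_lift_basicOpen_finite {Y : Scheme.{u}} (θ : Y ⟶ X) [IsClosedImmersion θ]
    {U : X.Opens} (hU : IsAffineOpen U) (gbar : Γ(Y, θ ⁻¹ᵁ U)) (F : Set X) (hF : F.Finite)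
    (hFU : F ⊆ U) (h : ∀ y : Y, θ y ∈ F → y ∈ Y.basicOpen gbar) :
    ∃ g : Γ(X, U), θ.app U g = gbar ∧ F ⊆ X.basicOpen g := by
  obtain ⟨x₀, hx₀⟩ := θ.app_surjective U hU gbar
  have hVaff : IsAffineOpen (θ ⁻¹ᵁ U) := hU.preimage θ
  obtain ⟨k, hkI, hk⟩ := exists_add_forall_notMem (RingHom.ker (θ.app U).hom) x₀
    (pointIdeals F hF hFU)
    (fun P hP => by
      obtain ⟨x, hx, rfl⟩ := (mem_pointIdeals hF hFU P).mp hP
      infer_instance)
    (fun P hP hle => by
      obtain ⟨x, hx, rfl⟩ := (mem_pointIdeals hF hFU P).mp hP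
      rw [mem_pointIdeal, not_not]
      -- the point lies in the range
      have hxr : x ∈ Set.range θ := by
        by_contra hxr
        let O' : X.Opens := ⟨(Set.range θ)ᶜ, θ.isClosedEmbedding.isClosed_range.isOpen_compl⟩
        obtain ⟨f, hfO, hxf⟩ := hU.exists_basicOpen_le (V := O') ⟨x, hxr⟩ (hFU hx)
        have h1 : Y.basicOpen (θ.app U f) = ⊥ := by
          rw [← Scheme.preimage_basicOpen, eq_bot_iff]
          intro y hy
          exact hfO hy ⟨y, rfl⟩
        have h2 : IsNilpotent (θ.app U f) := by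
          rw [← PrimeSpectrum.basicOpen_eq_bot_iff, ← hVaff.fromSpec_preimage_basicOpen, h1]
          rfl
        obtain ⟨n, hn⟩ := h2
        have h3 : f ^ n ∈ RingHom.ker (θ.app U).hom := by
          rw [RingHom.mem_ker, map_pow]; exact hn
        have h4 : f ∈ pointIdeal x (hFU hx) := Ideal.IsPrime.mem_of_pow_mem inferInstance n (hle h3)
        exact (mem_pointIdeal x (hFU hx) f).mp h4 hxf
      obtain ⟨y, rfl⟩ := hxr
      have hy := h y hx
      rw [← hx₀, ← Scheme.preimage_basicOpen] at hy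
      exact hy)
  refine ⟨x₀ + k, ?_, fun x hx => ?_⟩
  · have hk0 : θ.app U k = 0 := hkI
    rw [map_add, hk0, add_zero, hx₀]
  · by_contra hxf
    exact hk _ ((mem_pointIdeals hF hFU _).mpr ⟨x, hx, rfl⟩)
      ((mem_pointIdeal x (hFU hx) _).mpr hxf)

end Geo

end Groth.Agent.Lib.Helper28.Pinch
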