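import Groth.Agent.Lib.Helper28.Pinch.Recog

/-!
# The union of two closed subschemes is a pushout
-/

set_option autoImplicit false
universe u

open CategoryTheory Limits AlgebraicGeometry

namespace Groth.Agent.Lib.Helper28.Pinch

namespace Union

variable {S : Scheme.{u}}

lemma appLE_congr {X Y : Scheme.{u}} {f g : X ⟶ Y} (h : f = g) (U : Y.Opens) (V : X.Opens)
    (e : V ≤ f ⁻¹ᵁ U) : f.appLE U V e = g.appLE U V (h ▸ e) := by subst h; rfl

/-- Sections of a closed subscheme over (a copy of) the preimage of an affine open. -/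
lemma appLE_surjective (I : S.IdealSheafData) (O : S.affineOpens) (V : I.subscheme.Opens)
    (e : V = I.subschemeι ⁻¹ᵁ O.1) : Function.Surjective (I.subschemeι.appLE O.1 V e.le) := by
  subst e
  rw [Scheme.Hom.appLE_eq_app]
  exact I.subschemeι_app_surjective O

lemma appLE_eq_zero_iff (I : S.IdealSheafData) (O : S.affineOpens) (V : I.subscheme.Opens)
    (e : V = I.subschemeι ⁻¹ᵁ O.1) (t : Γ(S, O.1)) :
    I.subschemeι.appLE O.1 V e.le t = 0 ↔ t ∈ I.ideal O := by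
  subst e
  rw [Scheme.Hom.appLE_eq_app, ← I.ker_subschemeι_app O, RingHom.mem_ker]

/-- Restriction along an inclusion of closed subschemes. -/
lemma app_inclusion {K I : S.IdealSheafData} (h : K ≤ I) (O : S.Opens) :
    K.subschemeι.app O ≫ (Scheme.IdealSheafData.inclusion h).app (K.subschemeι ⁻¹ᵁ O) =
      I.subschemeι.appLE O ((Scheme.IdealSheafData.inclusion h) ⁻¹ᵁ (K.subschemeι ⁻¹ᵁ O))
        (by rw [← Scheme.Hom.comp_preimage, Scheme.IdealSheafData.inclusion_subschemeι]) := by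
  rw [Scheme.Hom.app_eq_appLE, Scheme.Hom.app_eq_appLE, Scheme.Hom.appLE_comp_appLE]
  exact appLE_congr (Scheme.IdealSheafData.inclusion_subschemeι h) _ _ _

variable (I J : S.IdealSheafData)

lemma hw : Scheme.IdealSheafData.inclusion (le_sup_left : I ≤ I ⊔ J) ≫
      Scheme.IdealSheafData.inclusion (inf_le_left : I ⊓ J ≤ I) =
    Scheme.IdealSheafData.inclusion (le_sup_right : J ≤ I ⊔ J) ≫
      Scheme.IdealSheafData.inclusion (inf_le_right : I ⊓ J ≤ J) := by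
  rw [Scheme.IdealSheafData.inclusion_comp, Scheme.IdealSheafData.inclusion_comp]

/-- Every preimage of an affine open is a chart. -/
theorem isChart (O : S.affineOpens) :
    IsChart (Scheme.IdealSheafData.inclusion (inf_le_left : I ⊓ J ≤ I))
      (Scheme.IdealSheafData.inclusion (inf_le_right : I ⊓ J ≤ J)) (hw I J)
      ((I ⊓ J).subschemeι ⁻¹ᵁ O.1) := by
  have eI : (Scheme.IdealSheafData.inclusion (inf_le_left : I ⊓ J ≤ I)) ⁻¹ᵁ
      ((I ⊓ J).subschemeι ⁻¹ᵁ O.1) = I.subschemeι ⁻¹ᵁ O.1 := by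
    rw [← Scheme.Hom.comp_preimage, Scheme.IdealSheafData.inclusion_subschemeι]
  have eJ : (Scheme.IdealSheafData.inclusion (inf_le_right : I ⊓ J ≤ J)) ⁻¹ᵁ
      ((I ⊓ J).subschemeι ⁻¹ᵁ O.1) = J.subschemeι ⁻¹ᵁ O.1 := by
    rw [← Scheme.Hom.comp_preimage, Scheme.IdealSheafData.inclusion_subschemeι]
  have hU : IsAffineOpen ((Scheme.IdealSheafData.inclusion (inf_le_left : I ⊓ J ≤ I)) ⁻¹ᵁ
      ((I ⊓ J).subschemeι ⁻¹ᵁ O.1)) := by rw [eI]; exact O.2.preimage _
  have hV : IsAffineOpen ((Scheme.IdealSheafData.inclusion (inf_le_right : I ⊓ J ≤ J)) ⁻¹ᵁ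
      ((I ⊓ J).subschemeι ⁻¹ᵁ O.1)) := by rw [eJ]; exact O.2.preimage _
  -- the two composite restriction maps
  have hA : ∀ t : Γ(S, O.1), (Scheme.IdealSheafData.inclusion (inf_le_left : I ⊓ J ≤ I)).app
      ((I ⊓ J).subschemeι ⁻¹ᵁ O.1) ((I ⊓ J).subschemeι.app O.1 t) =
      I.subschemeι.appLE O.1 _ eI.le t := fun t =>
    congrArg (fun f => f.hom t) (app_inclusion (inf_le_left : I ⊓ J ≤ I) O.1)
  have hB : ∀ t : Γ(S, O.1), (Scheme.IdealSheafData.inclusion (inf_le_right : I ⊓ J ≤ J)).app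
      ((I ⊓ J).subschemeι ⁻¹ᵁ O.1) ((I ⊓ J).subschemeι.app O.1 t) =
      J.subschemeι.appLE O.1 _ eJ.le t := fun t =>
    congrArg (fun f => f.hom t) (app_inclusion (inf_le_right : I ⊓ J ≤ J) O.1)
  refine ⟨O.2.preimage _, hU, hV, ?_, ?_⟩
  · intro s h1 h2
    obtain ⟨t, rfl⟩ := (I ⊓ J).subschemeι_app_surjective O s
    rw [hA, appLE_eq_zero_iff I O _ eI] at h1
    rw [hB, appLE_eq_zero_iff J O _ eJ] at h2
    have : t ∈ (I ⊓ J).ideal O := ⟨h1, h2⟩
    rw [← (I ⊓ J).ker_subschemeι_app O, RingHom.mem_ker] at this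
    exact this
  · intro r
    obtain ⟨β, hβ⟩ : ∃ β, β = pairOf (Scheme.IdealSheafData.inclusion (inf_le_left : I ⊓ J ≤ I))
      (Scheme.IdealSheafData.inclusion (inf_le_right : I ⊓ J ≤ J)) (hw I J)
      ((I ⊓ J).subschemeι ⁻¹ᵁ O.1) hU hV := ⟨_, rfl⟩
    obtain ⟨t₁, ht₁⟩ := appLE_surjective I O _ eI (FP.pA _ _ r)
    obtain ⟨t₂, ht₂⟩ := appLE_surjective J O _ eJ (FP.pB _ _ r)
    -- compatibility in `Γ(L.subscheme, _)`
    have eL : (pairOf (Scheme.IdealSheafData.inclusion (inf_le_left : I ⊓ J ≤ I))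
        (Scheme.IdealSheafData.inclusion (inf_le_right : I ⊓ J ≤ J)) (hw I J)
        ((I ⊓ J).subschemeι ⁻¹ᵁ O.1) hU hV).ZU = (I ⊔ J).subschemeι ⁻¹ᵁ O.1 := by
      change (Scheme.IdealSheafData.inclusion (le_sup_left : I ≤ I ⊔ J)) ⁻¹ᵁ
        ((Scheme.IdealSheafData.inclusion (inf_le_left : I ⊓ J ≤ I)) ⁻¹ᵁ
          ((I ⊓ J).subschemeι ⁻¹ᵁ O.1)) = _
      rw [eI, ← Scheme.Hom.comp_preimage, Scheme.IdealSheafData.inclusion_subschemeι]
    have hπ : ∀ t : Γ(S, O.1), (pairOf (Scheme.IdealSheafData.inclusion (inf_le_left : I ⊓ J ≤ I))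
        (Scheme.IdealSheafData.inclusion (inf_le_right : I ⊓ J ≤ J)) (hw I J)
        ((I ⊓ J).subschemeι ⁻¹ᵁ O.1) hU hV).π (I.subschemeι.appLE O.1 _ eI.le t) =
        (I ⊔ J).subschemeι.appLE O.1 _ eL.le t := fun t => by
      have h1 := Scheme.Hom.appLE_comp_appLE
        (Scheme.IdealSheafData.inclusion (le_sup_left : I ≤ I ⊔ J)) I.subschemeι O.1 _ _ eI.le
        (APair.ZU_le_i (pairOf (Scheme.IdealSheafData.inclusion (inf_le_left : I ⊓ J ≤ I))
        (Scheme.IdealSheafData.inclusion (inf_le_right : I ⊓ J ≤ J)) (hw I J)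
        ((I ⊓ J).subschemeι ⁻¹ᵁ O.1) hU hV))
      rw [appLE_congr (Scheme.IdealSheafData.inclusion_subschemeι _)] at h1
      exact congrArg (fun f => f.hom t) h1
    have hφ : ∀ t : Γ(S, O.1), (pairOf (Scheme.IdealSheafData.inclusion (inf_le_left : I ⊓ J ≤ I))
        (Scheme.IdealSheafData.inclusion (inf_le_right : I ⊓ J ≤ J)) (hw I J)
        ((I ⊓ J).subschemeι ⁻¹ᵁ O.1) hU hV).φ (J.subschemeι.appLE O.1 _ eJ.le t) =
        (I ⊔ J).subschemeι.appLE O.1 _ eL.le t := fun t => by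
      have h1 := Scheme.Hom.appLE_comp_appLE
        (Scheme.IdealSheafData.inclusion (le_sup_right : J ≤ I ⊔ J)) J.subschemeι O.1 _ _ eJ.le
        (APair.ZU_le_j (pairOf (Scheme.IdealSheafData.inclusion (inf_le_left : I ⊓ J ≤ I))
        (Scheme.IdealSheafData.inclusion (inf_le_right : I ⊓ J ≤ J)) (hw I J)
        ((I ⊓ J).subschemeι ⁻¹ᵁ O.1) hU hV))
      rw [appLE_congr (Scheme.IdealSheafData.inclusion_subschemeι _)] at h1
      exact congrArg (fun f => f.hom t) h1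
    have hcomm : (I ⊔ J).subschemeι.appLE O.1 _ eL.le t₂ =
        (I ⊔ J).subschemeι.appLE O.1 _ eL.le t₁ :=
      (hφ t₂).symm.trans ((congrArg _ ht₂).trans ((FP.comm _ _ r).trans
        ((congrArg _ ht₁.symm).trans (hπ t₁))))
    have hsub : t₂ - t₁ ∈ (I ⊔ J).ideal O := by
      rw [← appLE_eq_zero_iff (I ⊔ J) O _ eL, map_sub, hcomm, sub_self]
    obtain ⟨u, hu, v, hv, huv⟩ := Submodule.mem_sup.mp hsub
    have h1 : I.subschemeι.appLE O.1 _ eI.le (t₁ + u) = I.subschemeι.appLE O.1 _ eI.le t₁ := by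
      rw [map_add, (appLE_eq_zero_iff I O _ eI u).mpr hu, add_zero]
    have h2 : J.subschemeι.appLE O.1 _ eJ.le (t₁ + u) = J.subschemeι.appLE O.1 _ eJ.le t₂ := by
      have : t₁ + u = t₂ - v := by linear_combination huv
      rw [this, map_sub, (appLE_eq_zero_iff J O _ eJ v).mpr hv, sub_zero]
    exact ⟨(I ⊓ J).subschemeι.app O.1 (t₁ + u), (hA _).trans (h1.trans ht₁),
      (hB _).trans (h2.trans ht₂)⟩

/-- **The union of closed subschemes is the pushout along the intersection.** -/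
theorem isPushout : IsPushout (Scheme.IdealSheafData.inclusion (le_sup_left : I ≤ I ⊔ J))
    (Scheme.IdealSheafData.inclusion (le_sup_right : J ≤ I ⊔ J))
    (Scheme.IdealSheafData.inclusion (inf_le_left : I ⊓ J ≤ I))
    (Scheme.IdealSheafData.inclusion (inf_le_right : I ⊓ J ≤ J)) := by
  refine isPushout_of_charts (hw := hw I J) fun p => ?_
  obtain ⟨O, hO, hpO⟩ : ∃ O : S.Opens, IsAffineOpen O ∧ (I ⊓ J).subschemeι p ∈ O := by
    obtain ⟨_, ⟨O, hO, rfl⟩, hpO, -⟩ := S.isBasis_affineOpens.exists_subset_of_mem_open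
      (Set.mem_univ ((I ⊓ J).subschemeι p)) isOpen_univ
    exact ⟨O, hO, hpO⟩
  exact ⟨_, hpO, isChart I J ⟨O, hO⟩⟩

end Union

end Groth.Agent.Lib.Helper28.Pinch
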