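import Groth.Agent.Lib.Helper28.Pinch.Main
import Groth.Agent.Lib.Helper28.Pinch.Union

/-!
# A pushout of affine schemes along a closed immersion is affine
-/

set_option autoImplicit false
universe u

open CategoryTheory Limits AlgebraicGeometry

namespace Groth.Agent.Lib.Helper28.Pinch

/-- The pushout of affine schemes along a closed immersion is affine. -/
theorem isAffine_of_isPushout {X Y Z P : Scheme.{u}} {i : Z ⟶ X} {j : Z ⟶ Y}
    [IsClosedImmersion i] [IsAffine X] [IsAffine Y] {a : X ⟶ P} {b : Y ⟶ P}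
    (hP : IsPushout i j a b) : IsAffine P := by
  let β : APair i j := ⟨⊤, ⊤, isAffineOpen_top X, isAffineOpen_top Y, rfl⟩
  have hY : ∀ y : Y, ∃ β : APair i j, y ∈ β.V := fun y => ⟨β, trivial⟩
  have htop : (Glue.ι i j β).opensRange = ⊤ := by
    rw [eq_top_iff]
    intro p _
    rcases Glue.jointly_surjective hY p with ⟨x, rfl⟩ | ⟨y, rfl⟩
    · have hx : x ∈ Glue.a hY ⁻¹ᵁ (Glue.ι i j β).opensRange := by
        rw [Glue.preimage_a]; trivial
      exact hx
    · have hy : y ∈ Glue.b hY ⁻¹ᵁ (Glue.ι i j β).opensRange := by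
        rw [Glue.preimage_b]; trivial
      exact hy
  haveI : IsIso (Glue.ι i j β) := isIso_of_isOpenImmersion_of_opensRange_eq_top _ htop
  haveI : IsAffine (APair.F.obj β) :=
    inferInstanceAs (IsAffine (Spec (CommRingCat.of (FP β.π β.φ))))
  haveI : IsAffine (Glue.P i j) := .of_isIso (inv (Glue.ι i j β))
  exact .of_isIso (isoOfIsPushout hY hP).inv

/-- The scheme-theoretic union of two affine closed subschemes is affine. -/
theorem isAffine_inf {S : Scheme.{u}} (I J : S.IdealSheafData) [IsAffine I.subscheme]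
    [IsAffine J.subscheme] : IsAffine (I ⊓ J).subscheme :=
  isAffine_of_isPushout (Union.isPushout I J)

end Groth.Agent.Lib.Helper28.Pinch
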