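import Groth.Agent.Lib.Helper28.Pinch.Main

/-!
# Ferrand's setting
-/

set_option autoImplicit false
universe u

open CategoryTheory Limits AlgebraicGeometry

namespace Groth.Agent.Lib.Helper28.Pinch

/-- In Ferrand's setting, adapted affine pairs exist. -/
theorem ferrand_hY {X Y T Z : Scheme.{u}} (f : X ⟶ Y) (t : T ⟶ Y) (ξ : Z ⟶ T) (ι : Z ⟶ X)
    [IsAffineHom t] (hsq : ι ≫ f = ξ ≫ t)
    (hstd : ∀ y : Y, ∃ U : Y.Opens, IsAffineOpen U ∧ y ∈ U ∧ ∃ V : X.Opens, IsAffineOpen V ∧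
      V ≤ f ⁻¹ᵁ U ∧ ∀ z : Z, (ξ ≫ t).base z ∈ U → ι.base z ∈ V) :
    ∀ τ : T, ∃ β : APair ι ξ, τ ∈ β.V := by
  intro τ
  obtain ⟨U, hU, hyU, V, hV, hVU, hz⟩ := hstd (t τ)
  refine ⟨⟨V, t ⁻¹ᵁ U, hV, hU.preimage t, ?_⟩, hyU⟩
  ext z
  constructor
  · intro hzV
    have h1 : f (ι z) ∈ U := hVU hzV
    have h2 : f (ι z) = t (ξ z) := by
      rw [← Scheme.Hom.comp_apply, ← Scheme.Hom.comp_apply, hsq]
    rw [h2] at h1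
    exact h1
  · intro hzU
    exact hz z hzU

/-- More precisely: over each point of `Y` there is an adapted pair `(V, t⁻¹U)`. -/
theorem ferrand_pair {X Y T Z : Scheme.{u}} (f : X ⟶ Y) (t : T ⟶ Y) (ξ : Z ⟶ T) (ι : Z ⟶ X)
    [IsAffineHom t] (hsq : ι ≫ f = ξ ≫ t)
    (hstd : ∀ y : Y, ∃ U : Y.Opens, IsAffineOpen U ∧ y ∈ U ∧ ∃ V : X.Opens, IsAffineOpen V ∧
      V ≤ f ⁻¹ᵁ U ∧ ∀ z : Z, (ξ ≫ t).base z ∈ U → ι.base z ∈ V) (y : Y) :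
    ∃ (U : Y.Opens) (β : APair ι ξ), IsAffineOpen U ∧ y ∈ U ∧ β.V = t ⁻¹ᵁ U ∧ β.U ≤ f ⁻¹ᵁ U := by
  obtain ⟨U, hU, hyU, V, hV, hVU, hz⟩ := hstd y
  refine ⟨U, ⟨V, t ⁻¹ᵁ U, hV, hU.preimage t, ?_⟩, hU, hyU, rfl, hVU⟩
  ext z
  constructor
  · intro hzV
    have h1 : f (ι z) ∈ U := hVU hzV
    have h2 : f (ι z) = t (ξ z) := by
      rw [← Scheme.Hom.comp_apply, ← Scheme.Hom.comp_apply, hsq]
    rw [h2] at h1
    exact h1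
  · intro hzU
    exact hz z hzU

end Groth.Agent.Lib.Helper28.Pinch
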