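import Groth.Agent.Lib.Helper28.Pinch.OverBC
import Groth.Agent.Lib.Helper28.Pinch.Ferrand
import Groth.Prelude.Def_W4c3jacimperfPinch

/-!
# Base change of Ferrand pushouts under a projectivity hypothesis
-/

set_option autoImplicit false
universe u

open CategoryTheory Limits AlgebraicGeometry

namespace Groth.Agent.Lib.Helper28.Pinch

section Alg

open CommRingCat

variable {k R A B A₀ : CommRingCat.{u}}
  (ρ : k ⟶ R) (α : R ⟶ A) (β : R ⟶ B) (π : A ⟶ A₀) (φ : B ⟶ A₀)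

/-- The splitting condition is trivial when the gluing locus is empty. -/
theorem splitCond_of_subsingleton [Subsingleton A₀] : SplitCond ρ α β π φ :=
  ⟨fun _ => 0, fun _ => 0, fun _ _ => (add_zero _).symm, fun _ _ => (add_zero _).symm,
    fun _ _ => (mul_zero _).symm, fun _ _ => (mul_zero _).symm, fun _ => Subsingleton.elim _ _⟩

/-- The splitting condition follows from projectivity of the cokernel of `φ` when `φ` is
injective and `π` is surjective. -/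
theorem splitCond_of_cokerProjective (hsq : α ≫ π = β ≫ φ)
    (hπ : Function.Surjective π.hom) (hφ : Function.Injective φ.hom)
    (hproj : @Pinch.CokerProjective k A₀ B _ _ _ (ρ ≫ α ≫ π).hom.toAlgebra φ.hom) :
    SplitCond ρ α β π φ := by
  letI : Algebra k A₀ := (ρ ≫ α ≫ π).hom.toAlgebra
  letI : Algebra k A := (ρ ≫ α).hom.toAlgebra
  letI : Algebra k B := (ρ ≫ β).hom.toAlgebra
  let πa : A →ₐ[k] A₀ := { π.hom with commutes' := fun _ => rfl }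
  let φa : B →ₐ[k] A₀ := { φ.hom with
    commutes' := fun c => (congrArg (fun f => f.hom (ρ.hom c)) hsq).symm }
  haveI : Module.Projective k (A₀ ⧸ Submodule.span k (Set.range φ.hom)) := hproj
  have hN : ∀ x : A₀, x ∈ Submodule.span k (Set.range φ.hom) → ∃ b, φ.hom b = x := by
    intro x hx
    have : Submodule.span k (Set.range φ.hom) ≤ LinearMap.range φa.toLinearMap :=
      Submodule.span_le.mpr (by rintro _ ⟨b, rfl⟩; exact ⟨b, rfl⟩)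
    obtain ⟨b, hb⟩ := this hx
    exact ⟨b, hb⟩
  obtain ⟨τ, hτ⟩ := Module.projective_lifting_property
    (Submodule.span k (Set.range φ.hom)).mkQ LinearMap.id (Submodule.mkQ_surjective _)
  obtain ⟨σ, hσ⟩ := Module.projective_lifting_property πa.toLinearMap τ hπ
  have hτ' : ∀ q, (Submodule.span k (Set.range φ.hom)).mkQ (τ q) = q := LinearMap.congr_fun hτ
  have hσ' : ∀ q, π.hom (σ q) = τ q := LinearMap.congr_fun hσ
  have hex : ∀ x : A₀, ∃ b, φ.hom b = x - τ ((Submodule.span k (Set.range φ.hom)).mkQ x) := by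
    intro x
    apply hN
    rw [← Submodule.Quotient.mk_eq_zero, Submodule.Quotient.mk_sub]
    change (Submodule.span k (Set.range φ.hom)).mkQ x -
      (Submodule.span k (Set.range φ.hom)).mkQ (τ ((Submodule.span k (Set.range φ.hom)).mkQ x)) = 0
    rw [hτ', sub_self]
  choose s₁ hs₁ using hex
  refine ⟨s₁, fun x => -σ ((Submodule.span k (Set.range φ.hom)).mkQ x), ?_, ?_, ?_, ?_, ?_⟩
  · intro x y
    apply hφ
    rw [map_add, hs₁, hs₁, hs₁, map_add, map_add]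
    abel
  · intro x y
    beta_reduce
    rw [map_add, map_add, neg_add]
  · intro c x
    apply hφ
    have e1 : (ρ ≫ α ≫ π).hom c * x = c • x := (Algebra.smul_def c x).symm
    have e2 : φ.hom ((ρ ≫ β).hom c) = (ρ ≫ α ≫ π).hom c :=
      (congrArg (fun f => f.hom (ρ.hom c)) hsq).symm
    rw [map_mul, hs₁, hs₁, e2, e1, map_smul, map_smul, Algebra.smul_def c x,
      Algebra.smul_def c (τ _)]
    change _ = (ρ ≫ α ≫ π).hom c * _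
    rw [mul_sub]
    rfl
  · intro c x
    have e1 : (ρ ≫ α ≫ π).hom c * x = c • x := (Algebra.smul_def c x).symm
    beta_reduce
    rw [e1, map_smul, map_smul, Algebra.smul_def c (σ _), mul_neg]
    rfl
  · intro x
    rw [hs₁, map_neg, hσ']
    abel

end Alg

/-- A flat surjective morphism is injective on sections. -/
theorem app_injective_of_flat_of_surjective {Z T : Scheme.{u}} (ξ : Z ⟶ T) [Flat ξ] [Surjective ξ]
    (V : T.Opens) : Function.Injective (ξ.app V).hom := by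
  rw [injective_iff_map_eq_zero]
  intro s hs
  refine TopCat.Presheaf.section_ext T.sheaf V s 0 ?_
  intro τ hτ
  obtain ⟨z, rfl⟩ := ξ.surjective τ
  have hinj : Function.Injective (ξ.stalkMap z).hom := by
    algebraize [(ξ.stalkMap z).hom]
    have : Module.FaithfullyFlat (T.presheaf.stalk (ξ z)) (Z.presheaf.stalk z) :=
      @Module.FaithfullyFlat.of_flat_of_isLocalHom _ _ _ _ _ _ _
        (Flat.stalkMap ξ z) (ξ.toLRSHom.prop z)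
    exact ‹RingHom.FaithfullyFlat _›.injective
  change T.presheaf.germ V (ξ z) hτ s = T.presheaf.germ V (ξ z) hτ 0
  apply hinj
  have h1 := Scheme.Hom.germ_stalkMap_apply ξ V z hτ s
  have h2 := Scheme.Hom.germ_stalkMap_apply ξ V z hτ 0
  refine h1.trans (Eq.trans ?_ h2.symm)
  change Z.presheaf.germ (ξ ⁻¹ᵁ V) z hτ ((ξ.app V).hom s) =
    Z.presheaf.germ (ξ ⁻¹ᵁ V) z hτ ((ξ.app V).hom 0)
  rw [hs, map_zero, map_zero]
  exact (map_zero (Z.presheaf.germ (ξ ⁻¹ᵁ V) z hτ).hom).symm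

lemma appLE_injective_of_eq {Z T : Scheme.{u}} (ξ : Z ⟶ T) [Flat ξ] [Surjective ξ]
    (V : T.Opens) (O : Z.Opens) (h : O = ξ ⁻¹ᵁ V) (e : O ≤ ξ ⁻¹ᵁ V) :
    Function.Injective (ξ.appLE V O e).hom := by
  subst h
  rw [← Scheme.Hom.app_eq_appLE]
  exact app_injective_of_flat_of_surjective ξ V

/-- Transporting the projectivity hypothesis to propositionally equal opens. -/
theorem cokerProjective_transport {Y Z T : Scheme.{u}} (t : T ⟶ Y) (ξ : Z ⟶ T) (U : Y.Opens)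
    (hv : @Pinch.CokerProjective Γ(Y, U) Γ(Z, (ξ ≫ t) ⁻¹ᵁ U) Γ(T, t ⁻¹ᵁ U) _ _ _
      ((ξ ≫ t).app U).hom.toAlgebra (ξ.app (t ⁻¹ᵁ U)).hom)
    (OT : T.Opens) (OZ : Z.Opens) (hT : OT = t ⁻¹ᵁ U) (hZ : OZ = ξ ⁻¹ᵁ OT)
    (c : Γ(Y, U) ⟶ Γ(Z, OZ)) (e' : OZ ≤ (ξ ≫ t) ⁻¹ᵁ U) (hc : c = (ξ ≫ t).appLE U OZ e')
    (e : OZ ≤ ξ ⁻¹ᵁ OT) :
    @Pinch.CokerProjective Γ(Y, U) Γ(Z, OZ) Γ(T, OT) _ _ _ c.hom.toAlgebra
      (ξ.appLE OT OZ e).hom := by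
  subst hT
  subst hZ
  subst hc
  have h1 : (ξ ≫ t).appLE U (ξ ⁻¹ᵁ (t ⁻¹ᵁ U)) e' = (ξ ≫ t).app U :=
    (Scheme.Hom.app_eq_appLE _).symm
  have h2 : ξ.appLE (t ⁻¹ᵁ U) (ξ ⁻¹ᵁ (t ⁻¹ᵁ U)) e = ξ.app (t ⁻¹ᵁ U) :=
    (Scheme.Hom.app_eq_appLE _).symm
  rw [h1, h2]
  exact hv

section Geo

variable {X Y Z P : Scheme.{u}} {i : Z ⟶ X} {j : Z ⟶ Y} [IsClosedImmersion i]
  {a : X ⟶ P} {b : Y ⟶ P}
  {S S' P' X' Y' Z' : Scheme.{u}} (r : P ⟶ S) (g : S' ⟶ S)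
  {pP : P' ⟶ P} {sP : P' ⟶ S'} (hP' : IsPullback pP sP r g)
  {pX : X' ⟶ X} {a' : X' ⟶ P'} (hX' : IsPullback pX a' a pP)
  {pY : Y' ⟶ Y} {b' : Y' ⟶ P'} (hY' : IsPullback pY b' b pP)
  {pZ : Z' ⟶ Z} {c' : Z' ⟶ P'} (hZ' : IsPullback pZ c' (i ≫ a) pP)
  {i' : Z' ⟶ X'} {j' : Z' ⟶ Y'} (hi₁ : i' ≫ pX = pZ ≫ i) (hi₂ : i' ≫ a' = c')
  (hj₁ : j' ≫ pY = pZ ≫ j) (hj₂ : j' ≫ b' = c')

include hP' hX' hY' hZ' hi₁ hi₂ hj₁ hj₂ in
/-- **Base change of pushouts along closed immersions** under a local splitting condition. -/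
theorem isPushout_baseChange_of_split (hP : IsPushout i j a b)
    (hcov : ∀ q : P, ∃ (W : P.Opens) (O : S.Opens) (hW : IsChart a b hP.w W)
      (hWO : W ≤ r ⁻¹ᵁ O), q ∈ W ∧ IsAffineOpen O ∧
      SplitCond (r.appLE O W hWO) (a.app W) (b.app W)
        (i.appLE (a ⁻¹ᵁ W) (i ⁻¹ᵁ (a ⁻¹ᵁ W)) le_rfl)
        (j.appLE (b ⁻¹ᵁ W) (i ⁻¹ᵁ (a ⁻¹ᵁ W)) (pairOf a b hP.w W hW.hU hW.hV).ZU_le_j)) :
    IsPushout i' j' a' b' := by
  have hsq : IsPullback pZ i' i pX := IsPullback.of_bot (by rw [hi₂]; exact hZ') hi₁.symm hX'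
  haveI : IsClosedImmersion i' :=
    MorphismProperty.of_isPullback (P := @IsClosedImmersion) hsq inferInstance
  refine isPushout_of_charts (hw := hi₂.trans hj₂.symm) fun p' => ?_
  obtain ⟨W, O, hW, hWO, hpW, hO, hsplit⟩ := hcov (pP p')
  have hpO : r (pP p') ∈ O := hWO hpW
  have hgs : g (sP p') ∈ O := by
    rw [← Scheme.Hom.comp_apply, ← hP'.w, Scheme.Hom.comp_apply]
    exact hpO
  obtain ⟨O', hO', hpO', hOO'⟩ : ∃ O' : S'.Opens, IsAffineOpen O' ∧ sP p' ∈ O' ∧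
      O' ≤ g ⁻¹ᵁ O := by
    obtain ⟨_, ⟨O', hO', rfl⟩, hpO', hle⟩ := S'.isBasis_affineOpens.exists_subset_of_mem_open
      (show sP p' ∈ ((g ⁻¹ᵁ O : S'.Opens) : Set S') from hgs) (g ⁻¹ᵁ O).isOpen
    exact ⟨O', hO', hpO', hle⟩
  exact ⟨pP ⁻¹ᵁ W ⊓ sP ⁻¹ᵁ O', ⟨hpW, hpO'⟩,
    isChart_baseChange hP.w r g hP' hX' hY' hZ' hi₁ hi₂ hj₁ hj₂ hW hO hWO hO' hOO'
      (Or.inr (Or.inr hsplit))⟩

end Geo

/-- Base change of pinchings under a local splitting condition, in `Over` form. -/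
theorem isPushout_overPullback_left_of_split {S S' : Scheme.{u}} (g : S' ⟶ S)
    {Y X₁ X₂ X : Over S} (θ₁ : Y ⟶ X₁) (θ₂ : Y ⟶ X₂) [IsClosedImmersion θ₁.left]
    (φ₁ : X₁ ⟶ X) (φ₂ : X₂ ⟶ X) (hP : IsPushout θ₁.left θ₂.left φ₁.left φ₂.left)
    (hcov : ∀ q : X.left, ∃ (W : X.left.Opens) (O : S.Opens)
      (hW : IsChart φ₁.left φ₂.left hP.w W)
      (hWO : W ≤ X.hom ⁻¹ᵁ O), q ∈ W ∧ IsAffineOpen O ∧
      SplitCond (X.hom.appLE O W hWO) (φ₁.left.app W) (φ₂.left.app W)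
        (θ₁.left.appLE (φ₁.left ⁻¹ᵁ W) (θ₁.left ⁻¹ᵁ (φ₁.left ⁻¹ᵁ W)) le_rfl)
        (θ₂.left.appLE (φ₂.left ⁻¹ᵁ W) (θ₁.left ⁻¹ᵁ (φ₁.left ⁻¹ᵁ W))
          (pairOf φ₁.left φ₂.left hP.w W hW.hU hW.hV).ZU_le_j)) :
    IsPushout ((Over.pullback g).map θ₁).left ((Over.pullback g).map θ₂).left
      ((Over.pullback g).map φ₁).left ((Over.pullback g).map φ₂).left := by
  have hw : θ₁ ≫ φ₁ = θ₂ ≫ φ₂ := Over.OverMorphism.ext hP.w
  refine isPushout_baseChange_of_split X.hom g (IsPullback.of_hasPullback X.hom g)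
    (isPullback_overPullback_map g φ₁) (isPullback_overPullback_map g φ₂)
    (c' := ((Over.pullback g).map (θ₁ ≫ φ₁)).left) (isPullback_overPullback_map g (θ₁ ≫ φ₁))
    (pullback.lift_fst _ _ _) ?_ (pullback.lift_fst _ _ _) ?_ hP hcov
  · rw [Functor.map_comp]; rfl
  · rw [hw, Functor.map_comp]; rfl

/-- In Ferrand's setting with faithfully flat `ξ` and projective cokernels, the pushout is covered
by charts satisfying the splitting condition. -/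
theorem ferrand_split {X Y T Z : Scheme.{u}} (f : X ⟶ Y) (t : T ⟶ Y) (ξ : Z ⟶ T) (ι : Z ⟶ X)
    [IsAffineHom t] [IsClosedImmersion ι] (hsq : ι ≫ f = ξ ≫ t)
    (hstd : ∀ y : Y, ∃ U : Y.Opens, IsAffineOpen U ∧ y ∈ U ∧ ∃ V : X.Opens, IsAffineOpen V ∧
      V ≤ f ⁻¹ᵁ U ∧ ∀ z : Z, (ξ ≫ t).base z ∈ U → ι.base z ∈ V)
    {P : Scheme.{u}} (a : X ⟶ P) (b : T ⟶ P) (hP : IsPushout ι ξ a b)
    [Flat ξ] [Surjective ξ]
    (hv : ∀ U : Y.affineOpens, @Pinch.CokerProjective Γ(Y, U) Γ(Z, (ξ ≫ t) ⁻¹ᵁ U) Γ(T, t ⁻¹ᵁ U)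
      _ _ _ ((ξ ≫ t).app U).hom.toAlgebra (ξ.app (t ⁻¹ᵁ U)).hom)
    (p : P ⟶ Y) (hap : a ≫ p = f) (hbp : b ≫ p = t) :
    ∀ q : P, ∃ (W : P.Opens) (O : Y.Opens) (hW : IsChart a b hP.w W)
      (hWO : W ≤ p ⁻¹ᵁ O), q ∈ W ∧ IsAffineOpen O ∧
      SplitCond (p.appLE O W hWO) (a.app W) (b.app W)
        (ι.appLE (a ⁻¹ᵁ W) (ι ⁻¹ᵁ (a ⁻¹ᵁ W)) le_rfl)
        (ξ.appLE (b ⁻¹ᵁ W) (ι ⁻¹ᵁ (a ⁻¹ᵁ W)) (pairOf a b hP.w W hW.hU hW.hV).ZU_le_j) := by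
  intro q
  have hY := ferrand_hY f t ξ ι hsq hstd
  by_cases hq : q ∈ Set.range b
  · obtain ⟨τ, rfl⟩ := hq
    obtain ⟨U, β, hU, hyU, hβV, hβU⟩ := ferrand_pair f t ξ ι hsq hstd (t τ)
    obtain ⟨W, hWU, hWV, hW, -⟩ := exists_isChart_of_pair hY hP β
    have hWO : W ≤ p ⁻¹ᵁ U := by
      intro w hw
      rcases jointly_surjective_of_isPushout hY hP w with ⟨x, rfl⟩ | ⟨τ', rfl⟩
      · have hx : x ∈ a ⁻¹ᵁ W := hw
        rw [hWU] at hx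
        have h2 : f x ∈ U := hβU hx
        change p (a x) ∈ U
        rw [← Scheme.Hom.comp_apply, hap]
        exact h2
      · have hx : τ' ∈ b ⁻¹ᵁ W := hw
        rw [hWV, hβV] at hx
        have h2 : t τ' ∈ U := hx
        change p (b τ') ∈ U
        rw [← Scheme.Hom.comp_apply, hbp]
        exact h2
    have hτW : τ ∈ b ⁻¹ᵁ W := by rw [hWV, hβV]; exact hyU
    have hZeq : ι ⁻¹ᵁ (a ⁻¹ᵁ W) = ξ ⁻¹ᵁ (b ⁻¹ᵁ W) := (pairOf a b hP.w W hW.hU hW.hV).eq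
    refine ⟨W, U, hW, hWO, hτW, hU, ?_⟩
    have e' : ι ⁻¹ᵁ (a ⁻¹ᵁ W) ≤ (ξ ≫ t) ⁻¹ᵁ U := by
      rw [hZeq, hWV, hβV]
      exact le_rfl
    have hZO : ι ⁻¹ᵁ (a ⁻¹ᵁ W) ≤ ((ι ≫ a) ≫ p) ⁻¹ᵁ U := (ι ≫ a).preimage_mono hWO
    have hc : p.appLE U W hWO ≫ a.app W ≫ ι.appLE (a ⁻¹ᵁ W) (ι ⁻¹ᵁ (a ⁻¹ᵁ W)) le_rfl =
        (ξ ≫ t).appLE U (ι ⁻¹ᵁ (a ⁻¹ᵁ W)) e' := by
      have e3 : p.appLE U W hWO ≫ a.app W ≫ ι.appLE (a ⁻¹ᵁ W) (ι ⁻¹ᵁ (a ⁻¹ᵁ W)) le_rfl =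
          ((ι ≫ a) ≫ p).appLE U (ι ⁻¹ᵁ (a ⁻¹ᵁ W)) hZO := by
        rw [Scheme.Hom.app_eq_appLE, Scheme.Hom.appLE_comp_appLE, Scheme.Hom.appLE_comp_appLE]
      rw [e3]
      exact appLE_congr' (by rw [Category.assoc, hap, hsq]) _ _ _
    apply splitCond_of_cokerProjective
    · rw [Scheme.Hom.app_eq_appLE, Scheme.Hom.app_eq_appLE, Scheme.Hom.appLE_comp_appLE,
        Scheme.Hom.appLE_comp_appLE]
      exact appLE_congr' hP.w _ _ _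
    · exact (pairOf a b hP.w W hW.hU hW.hV).π_surjective
    · exact appLE_injective_of_eq ξ (b ⁻¹ᵁ W) _ hZeq _
    · exact cokerProjective_transport t ξ U (hv ⟨U, hU⟩) (b ⁻¹ᵁ W) (ι ⁻¹ᵁ (a ⁻¹ᵁ W))
        (hWV.trans hβV) hZeq _ e' hc _
  · haveI := isClosedImmersion_of_isPushout hY hP
    obtain ⟨U, hU, hqU⟩ : ∃ U : Y.Opens, IsAffineOpen U ∧ p q ∈ U := by
      obtain ⟨_, ⟨U, hU, rfl⟩, hqU, -⟩ := Y.isBasis_affineOpens.exists_subset_of_mem_open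
        (Set.mem_univ (p q)) isOpen_univ
      exact ⟨U, hU, hqU⟩
    obtain ⟨O, hOdef⟩ : ∃ O : P.Opens, O = p ⁻¹ᵁ U ⊓
        ⟨(Set.range b)ᶜ, b.isClosedEmbedding.isClosed_range.isOpen_compl⟩ := ⟨_, rfl⟩
    have hqO : q ∈ O := by rw [hOdef]; exact ⟨hqU, hq⟩
    obtain ⟨W, hqW, hWO, hW⟩ := exists_isChart hY hP q O hqO
    have hbW : b ⁻¹ᵁ W = ⊥ := by
      ext τ
      simp only [TopologicalSpace.Opens.coe_bot, Set.mem_empty_iff_false, iff_false]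
      intro hτ
      have h1 : b τ ∈ O := hWO hτ
      rw [hOdef] at h1
      exact h1.2 ⟨τ, rfl⟩
    have hZW : ι ⁻¹ᵁ (a ⁻¹ᵁ W) = ⊥ := by
      have hZeq : ι ⁻¹ᵁ (a ⁻¹ᵁ W) = ξ ⁻¹ᵁ (b ⁻¹ᵁ W) := (pairOf a b hP.w W hW.hU hW.hV).eq
      rw [hZeq, hbW]
      rfl
    haveI : Subsingleton Γ(Z, ι ⁻¹ᵁ (a ⁻¹ᵁ W)) := by rw [hZW]; infer_instance
    exact ⟨W, U, hW, hWO.trans (hOdef.le.trans inf_le_left), hqW, hU,
      splitCond_of_subsingleton _ _ _ _ _⟩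

end Groth.Agent.Lib.Helper28.Pinch
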