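import Groth.Agent.Lib.Helper28.Pinch.Recog

/-!
# Charts of an arbitrary pushout along a closed immersion
-/

set_option autoImplicit false
universe u

open CategoryTheory Limits AlgebraicGeometry

namespace Groth.Agent.Lib.Helper28.Pinch

variable {X Y Z P : Scheme.{u}} {i : Z ⟶ X} {j : Z ⟶ Y}

/-- A fine pair with bijective comparison map whose opens are the full preimages is a chart. -/
theorem IsChart.of_fine {a' : X ⟶ P} {b' : Y ⟶ P} (hw : i ≫ a' = j ≫ b')
    (k : Glue.Fine i j a' b') (hU : a' ⁻¹ᵁ k.T' = k.β.U) (hV : b' ⁻¹ᵁ k.T' = k.β.V)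
    (hbij : Function.Bijective (Glue.Fine.lift hw k)) : IsChart a' b' hw k.T' := by
  obtain ⟨⟨U, V, hU₀, hV₀, heq⟩, T', hT', hU', hV'⟩ := k
  simp only at hU hV
  subst hU
  subst hV
  refine ⟨hT', hU₀, hV₀, ?_, ?_⟩
  · intro s h1 h2
    apply hbij.1
    rw [map_zero]
    apply FP.ext'
    · rw [map_zero]
      refine Eq.trans ?_ h2
      rw [Scheme.Hom.app_eq_appLE]
      rfl
    · rw [map_zero]
      refine Eq.trans ?_ h1
      rw [Scheme.Hom.app_eq_appLE]
      rfl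
  · intro r
    obtain ⟨s, hs⟩ := hbij.2 r
    refine ⟨s, ?_, ?_⟩
    · rw [Scheme.Hom.app_eq_appLE]
      exact congrArg (FP.pA _ _) hs
    · rw [Scheme.Hom.app_eq_appLE]
      exact congrArg (FP.pB _ _) hs

/-- If `f ≫ g` and `g` are open immersions with the same range then `f` is an isomorphism. -/
theorem isIso_of_comp_openImmersion {U V W : Scheme.{u}} (f : U ⟶ V) (g : V ⟶ W)
    [IsOpenImmersion g] [IsOpenImmersion (f ≫ g)] (h : Set.range (f ≫ g) = Set.range g) :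
    IsIso f := by
  rw [isIso_iff_isOpenImmersion_and_surjective]
  refine ⟨IsOpenImmersion.of_comp f g, ⟨fun v => ?_⟩⟩
  have : g v ∈ Set.range (f ≫ g) := by rw [h]; exact ⟨v, rfl⟩
  obtain ⟨w, hw⟩ := this
  rw [Scheme.Hom.comp_apply] at hw
  exact ⟨w, g.isOpenEmbedding.injective hw⟩

variable [IsClosedImmersion i] (hY : ∀ y : Y, ∃ β : APair i j, y ∈ β.V)
  {a : X ⟶ P} {b : Y ⟶ P} (hP : IsPushout i j a b)

include hY hP in
/-- The chart of a pushout attached to an adapted pair. -/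
theorem exists_isChart_of_pair (β : APair i j) :
    ∃ W : P.Opens, a ⁻¹ᵁ W = β.U ∧ b ⁻¹ᵁ W = β.V ∧ IsChart a b hP.w W ∧
      ∀ (O : P.Opens), Set.range (Glue.ι i j β) ⊆ (Glue.desc hY a b hP.w ⁻¹ᵁ O : Set _) →
        W ≤ O := by
  obtain ⟨D, hD⟩ : ∃ D : Glue.P i j ⟶ P, D = Glue.desc hY a b hP.w := ⟨_, rfl⟩
  have hDe : D = (isoOfIsPushout hY hP).hom := by
    rw [hD]
    apply Glue.hom_ext hY
    · rw [Glue.a_desc, a_isoOfIsPushout_hom]
    · rw [Glue.b_desc, b_isoOfIsPushout_hom]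
  haveI : IsIso D := by rw [hDe]; infer_instance
  have haD : Glue.a hY ≫ D = a := by rw [hD, Glue.a_desc]
  have hbD : Glue.b hY ≫ D = b := by rw [hD, Glue.b_desc]
  have hinj : Function.Injective D := D.homeomorph.injective
  haveI : IsAffine (APair.F.obj β) :=
    inferInstanceAs (IsAffine (Spec (CommRingCat.of (FP β.π β.φ))))
  haveI hιD : IsOpenImmersion (Glue.ι i j β ≫ D) := inferInstance
  have hrange : ∀ q : Glue.P i j, D q ∈ (Glue.ι i j β ≫ D).opensRange ↔
      q ∈ Set.range (Glue.ι i j β) := by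
    intro q
    constructor
    · rintro ⟨w, hw⟩
      rw [Scheme.Hom.comp_apply] at hw
      exact ⟨w, hinj hw⟩
    · rintro ⟨w, rfl⟩
      exact ⟨w, Scheme.Hom.comp_apply _ _ _⟩
  have hUeq : a ⁻¹ᵁ (Glue.ι i j β ≫ D).opensRange = β.U := by
    rw [← Glue.preimage_a hY β]
    ext x
    change a x ∈ (Glue.ι i j β ≫ D).opensRange ↔ Glue.a hY x ∈ Set.range (Glue.ι i j β)
    rw [← hrange, ← Scheme.Hom.comp_apply, haD]
  have hVeq : b ⁻¹ᵁ (Glue.ι i j β ≫ D).opensRange = β.V := by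
    rw [← Glue.preimage_b hY β]
    ext y
    change b y ∈ (Glue.ι i j β ≫ D).opensRange ↔ Glue.b hY y ∈ Set.range (Glue.ι i j β)
    rw [← hrange, ← Scheme.Hom.comp_apply, hbD]
  let k : Glue.Fine i j a b :=
    { β := β
      T' := (Glue.ι i j β ≫ D).opensRange
      hT' := isAffineOpen_opensRange _
      hU := hUeq.ge
      hV := hVeq.ge }
  have hg : Glue.ι i j β ≫ D =
      Spec.map (CommRingCat.ofHom (Glue.Fine.lift hP.w k)) ≫ k.hT'.fromSpec := by
    rw [hD]
    exact Glue.ι_desc hY a b hP.w k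
  have hiso : IsIso (Spec.map (CommRingCat.ofHom (Glue.Fine.lift hP.w k))) := by
    haveI : IsOpenImmersion (Spec.map (CommRingCat.ofHom (Glue.Fine.lift hP.w k)) ≫
        k.hT'.fromSpec) := by rw [← hg]; exact hιD
    refine isIso_of_comp_openImmersion _ k.hT'.fromSpec ?_
    rw [← hg, k.hT'.range_fromSpec]
    rfl
  have hbij : Function.Bijective (Glue.Fine.lift hP.w k) := by
    exact isIso_SpecMap_iff.mp hiso
  refine ⟨(Glue.ι i j β ≫ D).opensRange, hUeq, hVeq,
    IsChart.of_fine hP.w k hUeq hVeq hbij, ?_⟩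
  intro O hO
  rintro _ ⟨w, rfl⟩
  rw [Scheme.Hom.comp_apply]
  have := hO ⟨w, rfl⟩
  rw [← hD] at this
  exact this

include hY hP in
/-- **Charts of a pushout**: every point of a pushout along a closed immersion has arbitrarily
small chart neighbourhoods. -/
theorem exists_isChart (p : P) (O : P.Opens) (hp : p ∈ O) :
    ∃ W : P.Opens, p ∈ W ∧ W ≤ O ∧ IsChart a b hP.w W := by
  have hDe : Glue.desc hY a b hP.w = (isoOfIsPushout hY hP).hom := by
    apply Glue.hom_ext hY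
    · rw [Glue.a_desc, a_isoOfIsPushout_hom]
    · rw [Glue.b_desc, b_isoOfIsPushout_hom]
  haveI : IsIso (Glue.desc hY a b hP.w) := by rw [hDe]; infer_instance
  obtain ⟨p₀, rfl⟩ := (Glue.desc hY a b hP.w).homeomorph.surjective p
  obtain ⟨β, hβ1, hβ2⟩ := Glue.exists_chart_le p₀ (Glue.desc hY a b hP.w ⁻¹ᵁ O) hp
  obtain ⟨W, hU, hV, hW, hWO⟩ := exists_isChart_of_pair hY hP β
  refine ⟨W, ?_, hWO O hβ2, hW⟩
  -- the point lies in the chart
  rcases Glue.jointly_surjective hY p₀ with ⟨x, rfl⟩ | ⟨y, rfl⟩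
  · have hx : x ∈ β.U := Glue.mem_U_of_a_mem_range hY β x hβ1
    have h2 : x ∈ a ⁻¹ᵁ W := by rw [hU]; exact hx
    have h3 : a x = (Glue.desc hY a b hP.w) (Glue.a hY x) := by
      rw [← Scheme.Hom.comp_apply, Glue.a_desc]
    change (Glue.desc hY a b hP.w) (Glue.a hY x) ∈ W
    rw [← h3]
    exact h2
  · have hy : y ∈ β.V := Glue.mem_V_of_b_mem_range hY β y hβ1
    have h2 : y ∈ b ⁻¹ᵁ W := by rw [hV]; exact hy
    have h3 : b y = (Glue.desc hY a b hP.w) (Glue.b hY y) := by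
      rw [← Scheme.Hom.comp_apply, Glue.b_desc]
    change (Glue.desc hY a b hP.w) (Glue.b hY y) ∈ W
    rw [← h3]
    exact h2

end Groth.Agent.Lib.Helper28.Pinch
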