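import Groth.Agent.Lib.Helper28.Pinch.FP

/-!
# Localization of fibre products of rings
-/

set_option autoImplicit false
universe u

namespace Groth.Agent.Lib.Helper28.Pinch

namespace FP

variable {A A₀ B : Type u} [CommRing A] [CommRing A₀] [CommRing B]
variable (π : A →+* A₀) (φ : B →+* A₀)

/-- The element `(0, ε)` for `ε ∈ ker π`. -/
def ofKer (ε : A) (h : π ε = 0) : FP π φ := mk π φ 0 ε (by rw [map_zero, h])

@[simp] lemma pB_ofKer (ε : A) (h : π ε = 0) : pB π φ (ofKer π φ ε h) = 0 := rfl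
@[simp] lemma pA_ofKer (ε : A) (h : π ε = 0) : pA π φ (ofKer π φ ε h) = ε := rfl

lemma eq_ofKer_of_pB_eq_zero (x : FP π φ) (h : pB π φ x = 0) :
    ∃ (ε : A) (hε : π ε = 0), x = ofKer π φ ε hε := by
  refine ⟨pA π φ x, ?_, ?_⟩
  · rw [← comm, h, map_zero]
  · apply ext' <;> simp [h]

lemma mem_ker_pB_iff (x : FP π φ) : x ∈ RingHom.ker (pB π φ) ↔
    ∃ (ε : A) (hε : π ε = 0), x = ofKer π φ ε hε := by
  constructor
  · intro h; exact eq_ofKer_of_pB_eq_zero π φ x h
  · rintro ⟨ε, hε, rfl⟩; simp [RingHom.mem_ker]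

section Loc

variable {A' A₀' B' : Type u} [CommRing A'] [CommRing A₀'] [CommRing B']
variable [Algebra A A'] [Algebra A₀ A₀'] [Algebra B B']
variable (π' : A' →+* A₀') (φ' : B' →+* A₀')
variable (hA : π'.comp (algebraMap A A') = (algebraMap A₀ A₀').comp π)
variable (hB : φ'.comp (algebraMap B B') = (algebraMap A₀ A₀').comp φ)

/-- The map of fibre products induced by algebra maps. -/
def locMap : FP π φ →+* FP π' φ' :=
  map π φ π' φ' (algebraMap A A') (algebraMap A₀ A₀') (algebraMap B B') hA hB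

@[simp] lemma pB_locMap (x : FP π φ) :
    pB π' φ' (locMap π φ π' φ' hA hB x) = algebraMap B B' (pB π φ x) := rfl

@[simp] lemma pA_locMap (x : FP π φ) :
    pA π' φ' (locMap π φ π' φ' hA hB x) = algebraMap A A' (pA π φ x) := rfl

include hA hB in
/-- **Localization of a fibre product.** -/
theorem isLocalization_away (c : FP π φ) [IsLocalization.Away (pA π φ c) A']
    [IsLocalization.Away (π (pA π φ c)) A₀'] [IsLocalization.Away (pB π φ c) B'] :
    @IsLocalization.Away (FP π φ) _ c (FP π' φ') _ (locMap π φ π' φ' hA hB).toAlgebra := by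
  let _ := (locMap π φ π' φ' hA hB).toAlgebra
  have halg : ∀ x, algebraMap (FP π φ) (FP π' φ') x = locMap π φ π' φ' hA hB x := fun _ => rfl
  have hA' : ∀ a, π' (algebraMap A A' a) = algebraMap A₀ A₀' (π a) := fun a =>
    RingHom.congr_fun hA a
  have hB' : ∀ b, φ' (algebraMap B B' b) = algebraMap A₀ A₀' (φ b) := fun b =>
    RingHom.congr_fun hB b
  have hc : φ (pB π φ c) = π (pA π φ c) := comm π φ c
  apply IsLocalization.Away.mk c
  · -- unit
    have uA : IsUnit (algebraMap A A' (pA π φ c)) := IsLocalization.Away.algebraMap_isUnit _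
    have uB : IsUnit (algebraMap B B' (pB π φ c)) := IsLocalization.Away.algebraMap_isUnit _
    obtain ⟨vA, hvA⟩ := isUnit_iff_exists_inv.mp uA
    obtain ⟨vB, hvB⟩ := isUnit_iff_exists_inv.mp uB
    have hv : φ' vB = π' vA := by
      have h1 : φ' (algebraMap B B' (pB π φ c)) * φ' vB = 1 := by rw [← map_mul, hvB, map_one]
      have h2 : φ' (algebraMap B B' (pB π φ c)) * π' vA = 1 := by
        rw [hB', hc, ← hA', ← map_mul, hvA, map_one]
      calc φ' vB = φ' vB * (φ' (algebraMap B B' (pB π φ c)) * π' vA) := by rw [h2, mul_one]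
        _ = (φ' (algebraMap B B' (pB π φ c)) * φ' vB) * π' vA := by ring
        _ = π' vA := by rw [h1, one_mul]
    rw [isUnit_iff_exists_inv]
    refine ⟨mk π' φ' vB vA hv, ?_⟩
    apply ext'
    · rw [map_mul, halg, pB_locMap, pB_mk, hvB, map_one]
    · rw [map_mul, halg, pA_locMap, pA_mk, hvA, map_one]
  · -- surjectivity
    intro s
    obtain ⟨n₁, b, hb⟩ := IsLocalization.Away.surj (pB π φ c) (pB π' φ' s)
    obtain ⟨n₂, a, ha⟩ := IsLocalization.Away.surj (pA π φ c) (pA π' φ' s)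
    -- common exponent
    obtain ⟨n, hn⟩ : ∃ n, n = n₁ + n₂ := ⟨_, rfl⟩
    obtain ⟨b₁, hb₁⟩ : ∃ b₁, b₁ = b * (pB π φ c) ^ n₂ := ⟨_, rfl⟩
    obtain ⟨a₁, ha₁⟩ : ∃ a₁, a₁ = a * (pA π φ c) ^ n₁ := ⟨_, rfl⟩
    have hb' : pB π' φ' s * algebraMap B B' (pB π φ c) ^ n = algebraMap B B' b₁ := by
      rw [hb₁, map_mul, ← hb, map_pow, hn, pow_add]; ring
    have ha' : pA π' φ' s * algebraMap A A' (pA π φ c) ^ n = algebraMap A A' a₁ := by
      rw [ha₁, map_mul, ← ha, map_pow, hn, pow_add]; ring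
    have h0 : algebraMap A₀ A₀' (φ b₁) = algebraMap A₀ A₀' (π a₁) := by
      rw [← hB', ← hA', ← hb', ← ha', map_mul, map_mul, map_pow, map_pow, hB', hA', hc,
        comm π' φ' s]
    obtain ⟨m, hm⟩ := IsLocalization.Away.exists_of_eq (π (pA π φ c)) h0
    have hr : φ ((pB π φ c) ^ m * b₁) = π ((pA π φ c) ^ m * a₁) := by
      rw [map_mul, map_mul, map_pow, map_pow, hc, hm]
    refine ⟨n + m, mk π φ _ _ hr, ?_⟩
    apply ext'
    · rw [map_mul, map_pow, halg, halg, pB_locMap, pB_locMap, pB_mk, map_mul, map_pow, ← hb',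
        pow_add]; ring
    · rw [map_mul, map_pow, halg, halg, pA_locMap, pA_locMap, pA_mk, map_mul, map_pow, ← ha',
        pow_add]; ring
  · -- exists_of_eq
    intro r r' h
    rw [halg, halg] at h
    have h1 : algebraMap B B' (pB π φ r) = algebraMap B B' (pB π φ r') := by
      rw [← pB_locMap π φ π' φ' hA hB, h, pB_locMap]
    have h2 : algebraMap A A' (pA π φ r) = algebraMap A A' (pA π φ r') := by
      rw [← pA_locMap π φ π' φ' hA hB, h, pA_locMap]
    obtain ⟨n₁, hn₁⟩ := IsLocalization.Away.exists_of_eq (pB π φ c) h1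
    obtain ⟨n₂, hn₂⟩ := IsLocalization.Away.exists_of_eq (pA π φ c) h2
    refine ⟨n₁ + n₂, ?_⟩
    apply ext'
    · rw [map_mul, map_mul, map_pow, pow_add, mul_comm (_ ^ n₁), mul_assoc, hn₁, ← mul_assoc]
    · rw [map_mul, map_mul, map_pow, pow_add, mul_assoc, hn₂, ← mul_assoc]

end Loc

/-- Away from `Z`, the fibre product is `A`. -/
theorem isLocalization_away_ofKer {A' : Type u} [CommRing A'] [Algebra A A'] (ε : A) (hε : π ε = 0)
    [IsLocalization.Away ε A'] :
    @IsLocalization.Away (FP π φ) _ (ofKer π φ ε hε) A' _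
      ((algebraMap A A').comp (pA π φ)).toAlgebra := by
  let _ := ((algebraMap A A').comp (pA π φ)).toAlgebra
  have halg : ∀ x, algebraMap (FP π φ) A' x = algebraMap A A' (pA π φ x) := fun _ => rfl
  apply IsLocalization.Away.mk
  · rw [halg, pA_ofKer]; exact IsLocalization.Away.algebraMap_isUnit _
  · intro s
    obtain ⟨n, a, ha⟩ := IsLocalization.Away.surj ε s
    refine ⟨n + 1, ofKer π φ (a * ε) (by rw [map_mul, hε, mul_zero]), ?_⟩
    rw [halg, halg, pA_ofKer, pA_ofKer, map_mul, ← ha, pow_succ]; ring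
  · intro r r' h
    rw [halg, halg] at h
    obtain ⟨n, hn⟩ := IsLocalization.Away.exists_of_eq ε h
    refine ⟨n + 1, ?_⟩
    apply ext'
    · rw [map_mul, map_mul, map_pow, pB_ofKer, pow_succ, mul_zero, zero_mul, zero_mul]
    · rw [map_mul, map_mul, map_pow, pA_ofKer, pow_succ, mul_comm (ε ^ n), mul_assoc, hn,
        ← mul_assoc]

end FP

end Groth.Agent.Lib.Helper28.Pinch
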