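import Groth.Agent.Lib.Helper28.Pinch.FPSpec

/-!
# Further properties of fibre products of rings: pushout square, integrality
-/

set_option autoImplicit false
universe u

namespace Groth.Agent.Lib.Helper28.Pinch

namespace FP

open CategoryTheory Limits

variable {A A₀ B : Type u} [CommRing A] [CommRing A₀] [CommRing B]
variable (π : A →+* A₀) (φ : B →+* A₀)

lemma ker_le_ker_of_comp_eq {C : Type u} [CommRing C] (f : A →+* C) (g : B →+* C)
    (h : f.comp (pA π φ) = g.comp (pB π φ)) : RingHom.ker π ≤ RingHom.ker f := by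
  intro ε hε
  rw [RingHom.mem_ker] at hε ⊢
  have := RingHom.congr_fun h (ofKer π φ ε hε)
  simpa using this

/-- The square `R → A → A₀`, `R → B → A₀` is a pushout of commutative rings. -/
theorem isPushout (hπ : Function.Surjective π) :
    IsPushout (CommRingCat.ofHom (pA π φ)) (CommRingCat.ofHom (pB π φ))
      (CommRingCat.ofHom π) (CommRingCat.ofHom φ) := by
  have hw : CommRingCat.ofHom (pA π φ) ≫ CommRingCat.ofHom π =
      CommRingCat.ofHom (pB π φ) ≫ CommRingCat.ofHom φ := by
    rw [← CommRingCat.ofHom_comp, ← CommRingCat.ofHom_comp, comm']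
  have hcond : ∀ s : PushoutCocone (CommRingCat.ofHom (pA π φ)) (CommRingCat.ofHom (pB π φ)),
      s.inl.hom.comp (pA π φ) = s.inr.hom.comp (pB π φ) := fun s => by
    have := s.condition
    exact congrArg CommRingCat.Hom.hom this
  refine ⟨⟨hw⟩, ⟨PushoutCocone.IsColimit.mk _ (fun s => CommRingCat.ofHom
    (π.liftOfSurjective hπ ⟨s.inl.hom, ker_le_ker_of_comp_eq π φ _ _ (hcond s)⟩)) ?_ ?_ ?_⟩⟩
  · intro s
    ext x
    exact RingHom.liftOfSurjective_comp_apply π hπ _ x
  · intro s
    ext b
    obtain ⟨r, rfl⟩ := pB_surjective (φ := φ) hπ b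
    change (π.liftOfSurjective hπ _) (φ (pB π φ r)) = s.inr.hom (pB π φ r)
    rw [comm, RingHom.liftOfSurjective_comp_apply]
    exact RingHom.congr_fun (hcond s) r
  · intro s m h1 h2
    ext x
    obtain ⟨a, rfl⟩ := hπ x
    change m.hom (π a) = (π.liftOfSurjective hπ _) (π a)
    rw [RingHom.liftOfSurjective_comp_apply]
    have := congrArg CommRingCat.Hom.hom h1
    exact RingHom.congr_fun this a

/-- If `φ` is surjective, so is `pA`. -/
lemma pA_surjective (hφ : Function.Surjective φ) : Function.Surjective (pA π φ) := by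
  intro a
  obtain ⟨b, hb⟩ := hφ (π a)
  exact ⟨mk π φ b a hb, rfl⟩

/-- If `φ` is integral, so is `pA`. -/
theorem pA_isIntegral (hπ : Function.Surjective π) (hφ : φ.IsIntegral) : (pA π φ).IsIntegral := by
  intro a
  rcases subsingleton_or_nontrivial B with hs | hn
  · have h1 : π a = 0 := by
      have h10 : (1 : A₀) = 0 := by
        rw [← map_one φ, Subsingleton.elim (1 : B) 0, map_zero]
      rw [← mul_one (π a), h10, mul_zero]
    have : a = pA π φ (ofKer π φ a h1) := rfl
    rw [this]
    exact (pA π φ).isIntegralElem_map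
  haveI : Nontrivial (FP π φ) := (pB_surjective (φ := φ) hπ).nontrivial
  -- `π a` is integral over `B`
  obtain ⟨p, hpm, hp⟩ := hφ (π a)
  -- lift `p` to a monic polynomial over `R`
  obtain ⟨q, hq, hqm⟩ : ∃ q : Polynomial (FP π φ), q.map (pB π φ) = p ∧ q.Monic := by
    have := Polynomial.lifts_and_degree_eq_and_monic (f := pB π φ) (p := p)
      ((Polynomial.mem_lifts _).mpr (by
        exact (Polynomial.map_surjective _ (pB_surjective (φ := φ) hπ)) p)) hpm
    obtain ⟨q, hq, -, hqm⟩ := this
    exact ⟨q, hq, hqm⟩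
  -- `ε := q(a)` lies in the kernel of `π`
  obtain ⟨ε, hε⟩ : ∃ ε, ε = Polynomial.eval₂ (pA π φ) a q := ⟨_, rfl⟩
  have hε0 : π ε = 0 := by
    rw [hε, Polynomial.hom_eval₂, ← comm', ← Polynomial.eval₂_map, hq]
    exact hp
  by_cases hdeg : q.natDegree = 0
  · -- then `q = 1`, so the target ring is trivial-ish: `1 = ε`... handle directly
    have hq1 : q = 1 := by
      rw [Polynomial.eq_C_of_natDegree_eq_zero hdeg] 
      have := hqm.leadingCoeff
      rw [Polynomial.leadingCoeff, hdeg] at this
      rw [this, Polynomial.C_1]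
    -- `1 = ε ∈ ker π`, so `π 1 = 0`; use `X - r` with `r = (φ⁻¹.., a)`: simply use `X * 1 - ...`
    have h1 : π 1 = 0 := by
      rw [hq1, Polynomial.eval₂_one] at hε
      rw [← hε]; exact hε0
    refine ⟨Polynomial.X - Polynomial.C (ofKer π φ a (by
      rw [← mul_one a, map_mul, h1, mul_zero])), Polynomial.monic_X_sub_C _, ?_⟩
    simp
  · refine ⟨q - Polynomial.C (ofKer π φ ε hε0), ?_, ?_⟩
    · apply Polynomial.Monic.sub_of_left hqm
      rw [Polynomial.degree_eq_natDegree hqm.ne_zero]
      refine lt_of_le_of_lt Polynomial.degree_C_le ?_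
      exact_mod_cast Nat.pos_of_ne_zero hdeg
    · rw [Polynomial.eval₂_sub, Polynomial.eval₂_C, pA_ofKer, ← hε, sub_self]

end FP

end Groth.Agent.Lib.Helper28.Pinch
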