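import Groth.Agent.Lib.Helper28.Pinch.FPLoc

/-!
# Prime spectrum of fibre products of rings
-/

set_option autoImplicit false
universe u

namespace Groth.Agent.Lib.Helper28.Pinch

namespace FP

open PrimeSpectrum

variable {A A₀ B : Type u} [CommRing A] [CommRing A₀] [CommRing B]
variable (π : A →+* A₀) (φ : B →+* A₀)

/-- Joint surjectivity of `Spec A ⊔ Spec B → Spec (B ×_{A₀} A)`. -/
theorem exists_comap_eq (hπ : Function.Surjective π) (p : PrimeSpectrum (FP π φ)) :
    (∃ x : PrimeSpectrum A, comap (pA π φ) x = p) ∨ (∃ y : PrimeSpectrum B, comap (pB π φ) y = p) := by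
  by_cases h : RingHom.ker (pB π φ) ≤ p.asIdeal
  · right
    have : p ∈ Set.range (comap (pB π φ)) := by
      rw [range_comap_of_surjective _ _ (pB_surjective hπ)]
      exact h
    exact this
  · left
    obtain ⟨c, hc, hcp⟩ := SetLike.not_le_iff_exists.mp h
    obtain ⟨ε, hε, rfl⟩ := (mem_ker_pB_iff π φ c).mp hc
    letI : Algebra (FP π φ) (Localization.Away ε) :=
      ((algebraMap A (Localization.Away ε)).comp (pA π φ)).toAlgebra
    haveI : IsLocalization.Away (ofKer π φ ε hε) (Localization.Away ε) :=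
      isLocalization_away_ofKer π φ ε hε
    have hp : p ∈ Set.range (comap (algebraMap (FP π φ) (Localization.Away ε))) := by
      rw [localization_away_comap_range (Localization.Away ε) (ofKer π φ ε hε)]
      exact hcp
    obtain ⟨q, hq⟩ := hp
    exact ⟨comap (algebraMap A (Localization.Away ε)) q, hq⟩

/-- **Shrinking lemma**, `Y`-case. -/
theorem exists_basicOpen_of_mem_right (hπ : Function.Surjective π)
    (OX : TopologicalSpace.Opens (PrimeSpectrum A)) (OY : TopologicalSpace.Opens (PrimeSpectrum B))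
    (hO : ∀ z : PrimeSpectrum A₀, comap π z ∈ OX ↔ comap φ z ∈ OY)
    (y : PrimeSpectrum B) (hy : y ∈ OY) :
    ∃ c : FP π φ, y ∈ basicOpen (pB π φ c) ∧ basicOpen (pB π φ c) ≤ OY ∧
      basicOpen (pA π φ c) ≤ OX := by
  obtain ⟨_, ⟨g, rfl⟩, hyg, hgO⟩ := TopologicalSpace.Opens.isBasis_iff_nbhd.mp isBasis_basic_opens hy
  -- the ideal of the complement of OX
  obtain ⟨J, hJ⟩ : ∃ J : Ideal A, zeroLocus (J : Set A) = (OX : Set (PrimeSpectrum A))ᶜ := by
    refine ⟨vanishingIdeal ((OX : Set (PrimeSpectrum A))ᶜ), ?_⟩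
    rw [zeroLocus_vanishingIdeal_eq_closure]
    exact (OX.2.isClosed_compl).closure_eq
  have hrad : φ g ∈ (J.map π).radical := by
    rw [Ideal.radical_eq_sInf, Ideal.mem_sInf]
    rintro q ⟨hq, hqp⟩
    let z : PrimeSpectrum A₀ := ⟨q, hqp⟩
    have h1 : comap π z ∉ OX := by
      have : comap π z ∈ zeroLocus (J : Set A) := by
        rw [mem_zeroLocus]
        exact Ideal.map_le_iff_le_comap.mp hq
      rw [hJ] at this
      exact this
    have h2 : comap φ z ∉ OY := fun h => h1 ((hO z).mpr h)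
    have h3 : comap φ z ∉ basicOpen g := fun h => h2 (hgO h)
    rw [mem_basicOpen, not_not] at h3
    exact h3
  obtain ⟨n, hn⟩ := hrad
  have hn' : (φ g) ^ (n + 1) ∈ J.map π := by
    rw [pow_succ]; exact Ideal.mul_mem_right _ _ hn
  obtain ⟨a, haJ, ha⟩ := (Ideal.mem_map_iff_of_surjective π hπ).mp hn'
  refine ⟨mk π φ (g ^ (n + 1)) a (by rw [map_pow, ha]), ?_, ?_, ?_⟩
  · rw [pB_mk, basicOpen_pow _ _ (Nat.succ_pos n)]; exact hyg
  · rw [pB_mk, basicOpen_pow _ _ (Nat.succ_pos n)]; exact hgO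
  · rw [pA_mk]
    intro x hx
    by_contra hxO
    have : x ∈ zeroLocus (J : Set A) := by rw [hJ]; exact hxO
    exact hx (this haJ)

/-- **Shrinking lemma**, `X`-case. -/
theorem exists_basicOpen_of_mem_left (hπ : Function.Surjective π)
    (OX : TopologicalSpace.Opens (PrimeSpectrum A)) (OY : TopologicalSpace.Opens (PrimeSpectrum B))
    (hO : ∀ z : PrimeSpectrum A₀, comap π z ∈ OX ↔ comap φ z ∈ OY)
    (x : PrimeSpectrum A) (hx : x ∈ OX) :
    ∃ c : FP π φ, x ∈ basicOpen (pA π φ c) ∧ basicOpen (pA π φ c) ≤ OX ∧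
      basicOpen (pB π φ c) ≤ OY := by
  by_cases h : RingHom.ker π ≤ x.asIdeal
  · have : x ∈ Set.range (comap π) := by
      rw [range_comap_of_surjective _ _ hπ]; exact h
    obtain ⟨z, rfl⟩ := this
    obtain ⟨c, hc1, hc2, hc3⟩ := exists_basicOpen_of_mem_right π φ hπ OX OY hO (comap φ z)
      ((hO z).mp hx)
    refine ⟨c, ?_, hc3, hc2⟩
    rw [mem_basicOpen] at hc1 ⊢
    intro hmem
    apply hc1
    change φ (pB π φ c) ∈ z.asIdeal
    rw [comm]
    exact hmem
  · obtain ⟨e, he, hex⟩ := SetLike.not_le_iff_exists.mp h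
    obtain ⟨_, ⟨f, rfl⟩, hxf, hfO⟩ := TopologicalSpace.Opens.isBasis_iff_nbhd.mp isBasis_basic_opens hx
    refine ⟨ofKer π φ (e * f) (by rw [map_mul, he, zero_mul]), ?_, ?_, ?_⟩
    · rw [pA_ofKer, basicOpen_mul]
      exact ⟨hex, hxf⟩
    · rw [pA_ofKer, basicOpen_mul]
      exact inf_le_right.trans hfO
    · rw [pB_ofKer, basicOpen_zero]
      exact bot_le

end FP

end Groth.Agent.Lib.Helper28.Pinch
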