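import Groth.Agent.Lib.Helper28.Pinch.FPProps
import Mathlib.RingTheory.Adjoin.Tower
import Mathlib.RingTheory.RingHom.FiniteType

/-!
# Finite type fibre products of rings (Artin–Tate)
-/

set_option autoImplicit false
universe u

open CategoryTheory Limits

namespace Groth.Agent.Lib.Helper28.Pinch

section Cat

open CommRingCat

variable {k R A B A₀ : CommRingCat.{u}}
  (ρ : k ⟶ R) (α : R ⟶ A) (β : R ⟶ B) (π : A ⟶ A₀) (φ : B ⟶ A₀)

include π φ in
/-- In a fibre square with `π` surjective and `φ` integral, `α` is integral. -/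
theorem fibreSquare_isIntegral (hsq : α ≫ π = β ≫ φ)
    (surj : ∀ a b, φ.hom b = π.hom a → ∃ r, α.hom r = a ∧ β.hom r = b)
    (hπ : Function.Surjective π.hom) (hφ : φ.hom.IsIntegral) : α.hom.IsIntegral := by
  have hcomp : φ.hom.comp β.hom = π.hom.comp α.hom := (congrArg CommRingCat.Hom.hom hsq).symm
  let e : R →+* FP π.hom φ.hom := FP.lift π.hom φ.hom β.hom α.hom hcomp
  have he : Function.Surjective e := by
    intro x
    obtain ⟨r, hr1, hr2⟩ := surj (FP.pA _ _ x) (FP.pB _ _ x) (FP.comm _ _ x)
    exact ⟨r, FP.ext' _ _ hr2 hr1⟩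
  have h1 : α.hom = (FP.pA π.hom φ.hom).comp e := rfl
  rw [h1]
  exact RingHom.IsIntegral.trans _ _ (RingHom.isIntegral_of_surjective _ he)
    (FP.pA_isIntegral _ _ hπ hφ)

include π φ in
theorem fibreSquare_surjective
    (surj : ∀ a b, φ.hom b = π.hom a → ∃ r, α.hom r = a ∧ β.hom r = b)
    (hπ : Function.Surjective π.hom) : Function.Surjective β.hom := by
  intro b
  obtain ⟨a, ha⟩ := hπ (φ.hom b)
  obtain ⟨r, -, hr⟩ := surj a b ha.symm
  exact ⟨r, hr⟩

/-- **Artin–Tate for fibre squares**: over a Noetherian base, a fibre product of finite type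
algebras along a surjection and an integral map is of finite type. -/
theorem fibreSquare_finiteType [IsNoetherianRing k] (hsq : α ≫ π = β ≫ φ)
    (inj : ∀ r, α.hom r = 0 → β.hom r = 0 → r = 0)
    (surj : ∀ a b, φ.hom b = π.hom a → ∃ r, α.hom r = a ∧ β.hom r = b)
    (hπ : Function.Surjective π.hom) (hφ : φ.hom.IsIntegral)
    (hA : (ρ ≫ α).hom.FiniteType) (hB : (ρ ≫ β).hom.FiniteType) : ρ.hom.FiniteType := by
  have hαint := fibreSquare_isIntegral α β π φ hsq surj hπ hφ
  have hβsurj := fibreSquare_surjective α β π φ surj hπ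
  have hαft : α.hom.FiniteType := RingHom.FiniteType.of_comp_finiteType (f := ρ.hom) hA
  have hαfin : α.hom.Finite := RingHom.IsIntegral.to_finite hαint hαft
  letI : Algebra k R := ρ.hom.toAlgebra
  letI : Algebra k A := (ρ ≫ α).hom.toAlgebra
  letI : Algebra k B := (ρ ≫ β).hom.toAlgebra
  letI : Algebra R A := α.hom.toAlgebra
  letI : Algebra R B := β.hom.toAlgebra
  haveI : IsScalarTower k R A := .of_algebraMap_eq' rfl
  haveI : IsScalarTower k R B := .of_algebraMap_eq' rfl
  haveI : Algebra.FiniteType k A := hA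
  haveI : Algebra.FiniteType k B := hB
  haveI : Module.Finite R A := hαfin
  haveI : Module.Finite R B := Module.Finite.of_surjective (Algebra.linearMap R B) hβsurj
  haveI : IsScalarTower k R (B × A) := .of_algebraMap_eq' rfl
  have hinj : Function.Injective (algebraMap R (B × A)) := by
    rw [injective_iff_map_eq_zero]
    intro r hr
    have h1 : β.hom r = 0 := congrArg Prod.fst hr
    have h2 : α.hom r = 0 := congrArg Prod.snd hr
    exact inj r h2 h1
  have key := fg_of_fg_of_fg k R (B × A) (Algebra.FiniteType.out) (Module.Finite.fg_top) hinj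
  exact ⟨key⟩

end Cat

end Groth.Agent.Lib.Helper28.Pinch
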