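import Groth.Agent.Lib.Helper28.Pinch.BC
import Groth.Agent.Lib.Helper28.Pinch.FTAlg

/-!
# Finite type pushouts along closed immersions (Noetherian base)
-/

set_option autoImplicit false
universe u

open CategoryTheory Limits AlgebraicGeometry

namespace Groth.Agent.Lib.Helper28.Pinch

variable {X Y Z P : Scheme.{u}} {i : Z ⟶ X} {j : Z ⟶ Y} [IsClosedImmersion i]
  {a : X ⟶ P} {b : Y ⟶ P}

/-- The ring of a chart is of finite type over a Noetherian base if the two pieces are. -/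
theorem IsChart.finiteType_appLE [IsIntegralHom j] {hw : i ≫ a = j ≫ b} {W : P.Opens}
    (hW : IsChart a b hw W)
    {S : Scheme.{u}} (r : P ⟶ S) {O : S.Opens} (hO : IsAffineOpen O) (hWO : W ≤ r ⁻¹ᵁ O)
    [IsNoetherianRing Γ(S, O)]
    (hA : LocallyOfFiniteType (a ≫ r)) (hB : LocallyOfFiniteType (b ≫ r)) :
    (r.appLE O W hWO).hom.FiniteType := by
  have hjZ : i ⁻¹ᵁ (a ⁻¹ᵁ W) ≤ j ⁻¹ᵁ (b ⁻¹ᵁ W) := (pairOf a b hw W hW.hU hW.hV).ZU_le_j
  have hUO : a ⁻¹ᵁ W ≤ (a ≫ r) ⁻¹ᵁ O := a.preimage_mono hWO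
  have hVO : b ⁻¹ᵁ W ≤ (b ≫ r) ⁻¹ᵁ O := b.preimage_mono hWO
  have e1 : r.appLE O W hWO ≫ a.app W = (a ≫ r).appLE O (a ⁻¹ᵁ W) hUO := by
    rw [Scheme.Hom.app_eq_appLE, Scheme.Hom.appLE_comp_appLE]
  have e2 : r.appLE O W hWO ≫ b.app W = (b ≫ r).appLE O (b ⁻¹ᵁ W) hVO := by
    rw [Scheme.Hom.app_eq_appLE, Scheme.Hom.appLE_comp_appLE]
  refine fibreSquare_finiteType (ρ := r.appLE O W hWO) (α := a.app W) (β := b.app W)
    (π := i.appLE (a ⁻¹ᵁ W) (i ⁻¹ᵁ (a ⁻¹ᵁ W)) le_rfl)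
    (φ := j.appLE (b ⁻¹ᵁ W) (i ⁻¹ᵁ (a ⁻¹ᵁ W)) hjZ) ?_ hW.inj ?_
    (pairOf a b hw W hW.hU hW.hV).π_surjective
    (Glue.φ_isIntegral (pairOf a b hw W hW.hU hW.hV)) ?_ ?_
  · rw [Scheme.Hom.app_eq_appLE, Scheme.Hom.app_eq_appLE, Scheme.Hom.appLE_comp_appLE,
      Scheme.Hom.appLE_comp_appLE]
    exact appLE_congr' hw _ _ _
  · intro a₁ b₁ h
    obtain ⟨s, hs1, hs2⟩ := hW.surj (FP.mk _ _ b₁ a₁ h)
    exact ⟨s, hs1, hs2⟩
  · rw [e1]; exact Scheme.Hom.finiteType_appLE _ hO hW.hU hUO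
  · rw [e2]; exact Scheme.Hom.finiteType_appLE _ hO hW.hV hVO

/-- **Finite type pinchings**: over a locally Noetherian base, a pushout along a closed
immersion and an integral morphism is locally of finite type as soon as its two pieces are. -/
theorem locallyOfFiniteType_of_isPushout [IsIntegralHom j]
    (hY : ∀ y : Y, ∃ β : APair i j, y ∈ β.V) (hP : IsPushout i j a b)
    {S : Scheme.{u}} [IsLocallyNoetherian S] (r : P ⟶ S) (hA : LocallyOfFiniteType (a ≫ r))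
    (hB : LocallyOfFiniteType (b ≫ r)) : LocallyOfFiniteType r := by
  rw [HasRingHomProperty.iff_exists_appLE (P := @LocallyOfFiniteType)
    (RingHom.finiteType_stableUnderComposition.stableUnderCompositionWithLocalizationAway
      RingHom.finiteType_holdsForLocalizationAway).left]
  intro p
  obtain ⟨O, hO, hpO⟩ : ∃ O : S.Opens, IsAffineOpen O ∧ r p ∈ O := by
    obtain ⟨_, ⟨O, hO, rfl⟩, hpO, -⟩ := S.isBasis_affineOpens.exists_subset_of_mem_open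
      (Set.mem_univ (r p)) isOpen_univ
    exact ⟨O, hO, hpO⟩
  obtain ⟨W, hpW, hWO, hW⟩ := exists_isChart hY hP p (r ⁻¹ᵁ O) hpO
  haveI : IsNoetherianRing Γ(S, O) := IsLocallyNoetherian.component_noetherian ⟨O, hO⟩
  exact ⟨⟨O, hO⟩, ⟨W, hW.hW⟩, hpW, hWO, hW.finiteType_appLE r hO hWO hA hB⟩

end Groth.Agent.Lib.Helper28.Pinch
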