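import Groth.Agent.Lib.Helper28.Pinch.FiniteSet
import Groth.Agent.Lib.Helper28.Pinch.Union
import Groth.Agent.Lib.Helper28.Thick.Affine

/-!
# Finite sets of points in affine opens: closed covers
-/

set_option autoImplicit false
universe u

open CategoryTheory Limits AlgebraicGeometry

namespace Groth.Agent.Lib.Helper28.Pinch

variable {S : Scheme.{u}}

/-- A finite set `T` lies in an affine open of the closed subscheme `V(I)`. -/
def GoodFor (T : Set S) (I : S.IdealSheafData) : Prop :=
  ∃ U : I.subscheme.Opens, IsAffineOpen U ∧ I.subschemeι ⁻¹' T ⊆ (U : Set I.subscheme)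

theorem goodFor_top (T : Set S) : GoodFor T (⊤ : S.IdealSheafData) :=
  ⟨⊥, isAffineOpen_bot _, fun x _ => (IsEmpty.false x).elim⟩

theorem goodFor_inf (T : Set S) (hT : T.Finite) (I J : S.IdealSheafData)
    (hI : GoodFor T I) (hJ : GoodFor T J) : GoodFor T (I ⊓ J) := by
  have hE : ((I ⊓ J).subschemeι ⁻¹' T).Finite :=
    hT.preimage (Set.injOn_of_injective (I ⊓ J).subschemeι.isClosedEmbedding.injective)
  refine exists_isAffineOpen_of_finite _ _ _ _ (Union.isPushout I J) _ hE ?_ ?_
  · obtain ⟨U, hU, h⟩ := hI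
    refine ⟨U, hU, fun x hx => h ?_⟩
    change I.subschemeι x ∈ T
    rw [← Scheme.IdealSheafData.inclusion_subschemeι (inf_le_left : I ⊓ J ≤ I),
      Scheme.Hom.comp_apply]
    exact hx
  · obtain ⟨U, hU, h⟩ := hJ
    refine ⟨U, hU, fun x hx => h ?_⟩
    change J.subschemeι x ∈ T
    rw [← Scheme.IdealSheafData.inclusion_subschemeι (inf_le_right : I ⊓ J ≤ J),
      Scheme.Hom.comp_apply]
    exact hx

theorem goodFor_finset_inf {κ : Type*} (T : Set S) (hT : T.Finite) (I : κ → S.IdealSheafData)
    (s : Finset κ) (h : ∀ k ∈ s, GoodFor T (I k)) : GoodFor T (s.inf I) := by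
  classical
  induction s using Finset.induction_on with
  | empty =>
    rw [Finset.inf_empty]
    exact goodFor_top T
  | insert k s _ ih =>
    rw [Finset.inf_insert]
    exact goodFor_inf T hT _ _ (h k (Finset.mem_insert_self k s))
      (ih fun k' hk' => h k' (Finset.mem_insert_of_mem hk'))

/-- If `V(I)` is all of `S` topologically, goodness for `I` gives an affine open of `S`. -/
theorem exists_isAffineOpen_of_goodFor (T : Set S) (I : S.IdealSheafData)
    (hI : Function.Surjective I.subschemeι) (h : GoodFor T I) :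
    ∃ U : S.Opens, IsAffineOpen U ∧ T ⊆ (U : Set S) := by
  obtain ⟨U, hU, hTU⟩ := h
  have hhomeo : IsHomeomorph I.subschemeι :=
    isHomeomorph_iff_isEmbedding_surjective.mpr ⟨I.subschemeι.isEmbedding, hI⟩
  let O : S.Opens := ⟨I.subschemeι '' (U : Set I.subscheme), hhomeo.isOpenMap _ U.isOpen⟩
  have hO : I.subschemeι ⁻¹ᵁ O = U := by
    ext x
    constructor
    · rintro ⟨y, hy, hxy⟩
      rw [← I.subschemeι.isClosedEmbedding.injective hxy]
      exact hy
    · intro hx
      exact ⟨x, hx, rfl⟩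
  refine ⟨O, Thick.isAffineOpen_of_preimage I.subschemeι hI (hO ▸ hU), fun t ht => ?_⟩
  obtain ⟨y, rfl⟩ := hI t
  exact ⟨y, hTU ht, rfl⟩

end Groth.Agent.Lib.Helper28.Pinch
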