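import Groth.Agent.Lib.Helper28.Pinch.Main
import Groth.Agent.Lib.Helper28.Adapted

/-!
# Existence of adapted pairs in various situations
-/

set_option autoImplicit false
universe u

open CategoryTheory Limits AlgebraicGeometry

namespace Groth.Agent.Lib.Helper28.Pinch

variable {X Y Z : Scheme.{u}} (i : Z ⟶ X) (j : Z ⟶ Y)

/-- Adapted pairs from the fibre condition, for integral `j`. -/
theorem hY_of_fibre [IsClosedImmersion i] [IsIntegralHom j]
    (h : ∀ y : Y, ∃ U : X.Opens, IsAffineOpen U ∧ j ⁻¹' {y} ⊆ (i ⁻¹ᵁ U : Set ↑Z)) :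
    ∀ y : Y, ∃ β : APair i j, y ∈ β.V := by
  intro y
  obtain ⟨U, V, hU, hV, hy, e⟩ := Groth.Agent.Lib.Helper28.Adapted.adapted i j h y
  exact ⟨⟨U, V, hU, hV, e⟩, hy⟩

/-- Two closed immersions always admit adapted pairs. -/
theorem hY_of_isClosedImmersion [IsClosedImmersion i] [IsClosedImmersion j] :
    ∀ y : Y, ∃ β : APair i j, y ∈ β.V := by
  apply hY_of_fibre
  intro y
  by_cases hy : ∃ z, j z = y
  · obtain ⟨z, rfl⟩ := hy
    obtain ⟨_, ⟨U, hU, rfl⟩, hzU, -⟩ := X.isBasis_affineOpens.exists_subset_of_mem_open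
      (Set.mem_univ (i z)) isOpen_univ
    refine ⟨U, hU, ?_⟩
    intro z' hz'
    have : z' = z := j.isClosedEmbedding.injective hz'
    rw [this]
    exact hzU
  · refine ⟨⊥, isAffineOpen_bot X, ?_⟩
    intro z hz
    exact absurd ⟨z, hz⟩ hy

/-- If the square commutes and `a` is affine, adapted pairs exist for integral `j`. -/
theorem hY_of_isAffineHom [IsClosedImmersion i] [IsIntegralHom j] {P : Scheme.{u}}
    (a : X ⟶ P) (b : Y ⟶ P) [IsAffineHom a] (hw : i ≫ a = j ≫ b) :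
    ∀ y : Y, ∃ β : APair i j, y ∈ β.V := by
  apply hY_of_fibre
  intro y
  obtain ⟨_, ⟨W, hW, rfl⟩, hyW, -⟩ := P.isBasis_affineOpens.exists_subset_of_mem_open
    (Set.mem_univ (b y)) isOpen_univ
  refine ⟨a ⁻¹ᵁ W, hW.preimage a, ?_⟩
  intro z hz
  have hz' : j z = y := hz
  change a (i z) ∈ W
  rw [← Scheme.Hom.comp_apply, hw, Scheme.Hom.comp_apply, hz']
  exact hyW

/-- If the square commutes, `a` is affine and `b` is a closed immersion (or merely affine),
adapted pairs exist with no assumption on `j`. -/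
theorem hY_of_isAffineHom_of_isAffineHom [IsClosedImmersion i] {P : Scheme.{u}}
    (a : X ⟶ P) (b : Y ⟶ P) [IsAffineHom a] [IsAffineHom b] (hw : i ≫ a = j ≫ b) :
    ∀ y : Y, ∃ β : APair i j, y ∈ β.V := by
  intro y
  obtain ⟨_, ⟨W, hW, rfl⟩, hyW, -⟩ := P.isBasis_affineOpens.exists_subset_of_mem_open
    (Set.mem_univ (b y)) isOpen_univ
  refine ⟨⟨a ⁻¹ᵁ W, b ⁻¹ᵁ W, hW.preimage a, hW.preimage b, ?_⟩, hyW⟩
  rw [← Scheme.Hom.comp_preimage, ← Scheme.Hom.comp_preimage, hw]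

end Groth.Agent.Lib.Helper28.Pinch
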