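import Groth.Agent.Lib.Helper28.Pinch.Avoid
import Groth.Agent.Lib.Helper28.Pinch.Charts
import Groth.Agent.Lib.Helper28.Pinch.HY

/-!
# Finite sets of points in pushouts of two closed immersions
-/

set_option autoImplicit false
universe u

open CategoryTheory Limits AlgebraicGeometry

namespace Groth.Agent.Lib.Helper28.Pinch

/-- Adapted pairs containing given finite sets. -/
theorem exists_pair_of_finite {Y X₁ X₂ : Scheme.{u}} (θ₁ : Y ⟶ X₁) (θ₂ : Y ⟶ X₂)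
    [IsClosedImmersion θ₁] [IsClosedImmersion θ₂]
    (F₁ : Set X₁) (F₂ : Set X₂) (hF₁ : F₁.Finite) (hF₂ : F₂.Finite)
    (hcompat : ∀ y : Y, θ₁ y ∈ F₁ ↔ θ₂ y ∈ F₂)
    {U₁ : X₁.Opens} (hU₁ : IsAffineOpen U₁) (h₁ : F₁ ⊆ U₁)
    {U₂ : X₂.Opens} (hU₂ : IsAffineOpen U₂) (h₂ : F₂ ⊆ U₂) :
    ∃ β : APair θ₁ θ₂, F₁ ⊆ β.U ∧ F₂ ⊆ β.V := by
  have hFY : {y : Y | θ₁ y ∈ F₁}.Finite :=
    hF₁.preimage (Set.injOn_of_injective θ₁.isClosedEmbedding.injective)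
  -- step 1
  let O₁ : X₁.Opens := ⟨(θ₁ '' ((θ₂ ⁻¹ᵁ U₂ : Y.Opens) : Set Y)ᶜ)ᶜ,
    (θ₁.isClosedEmbedding.isClosedMap _ (θ₂ ⁻¹ᵁ U₂).isOpen.isClosed_compl).isOpen_compl⟩
  have hFO₁ : F₁ ⊆ O₁ := by
    rintro x hx ⟨y, hy, rfl⟩
    exact hy (h₂ ((hcompat y).mp hx))
  obtain ⟨g₁, hg₁F, hg₁O⟩ := exists_basicOpen_finite hU₁ F₁ hF₁ h₁ O₁ hFO₁
  have hU₁' : IsAffineOpen (X₁.basicOpen g₁) := hU₁.basicOpen g₁
  have hle : θ₁ ⁻¹ᵁ (X₁.basicOpen g₁) ≤ θ₂ ⁻¹ᵁ U₂ := by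
    intro y hy
    by_contra hy2
    exact hg₁O hy ⟨y, hy2, rfl⟩
  -- step 2
  have hY₂ : IsAffineOpen (θ₂ ⁻¹ᵁ U₂) := hU₂.preimage θ₂
  obtain ⟨gbar, hgbarF, hgbarO⟩ := exists_basicOpen_finite hY₂ {y : Y | θ₁ y ∈ F₁} hFY
    (fun y hy => h₂ ((hcompat y).mp hy)) (θ₁ ⁻¹ᵁ (X₁.basicOpen g₁)) (fun y hy => hg₁F hy)
  -- step 3
  obtain ⟨g₂, hg₂, hg₂F⟩ := exists_lift_basicOpen_finite θ₂ hU₂ gbar F₂ hF₂ h₂
    (fun y hy => hgbarF ((hcompat y).mpr hy))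
  -- step 4
  obtain ⟨h, hh, hhF⟩ := exists_lift_basicOpen_finite θ₁ hU₁'
    (Y.presheaf.map (homOfLE hle).op gbar) F₁ hF₁ hg₁F
    (fun y hy => by
      rw [Scheme.basicOpen_res]
      exact ⟨hg₁F hy, hgbarF hy⟩)
  refine ⟨⟨X₁.basicOpen h, X₂.basicOpen g₂, hU₁'.basicOpen h, hU₂.basicOpen g₂, ?_⟩, hhF, hg₂F⟩
  exact (Scheme.preimage_basicOpen θ₁ h).trans ((congrArg Y.basicOpen hh).trans
    ((Scheme.basicOpen_res _ _ _).trans ((inf_eq_right.mpr hgbarO).trans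
      ((congrArg Y.basicOpen hg₂).symm.trans (Scheme.preimage_basicOpen θ₂ g₂).symm))))

/-- **Finite sets of points of a pushout of two closed immersions lie in affine opens**, as soon
as their preimages do. -/
theorem exists_isAffineOpen_of_finite {Y X₁ X₂ X : Scheme.{u}} (θ₁ : Y ⟶ X₁) (θ₂ : Y ⟶ X₂)
    [IsClosedImmersion θ₁] [IsClosedImmersion θ₂]
    (φ₁ : X₁ ⟶ X) (φ₂ : X₂ ⟶ X) (hX : IsPushout θ₁ θ₂ φ₁ φ₂)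
    (E : Set X) (hE : E.Finite)
    (h₁ : ∃ U₁ : X₁.Opens, IsAffineOpen U₁ ∧ φ₁ ⁻¹' E ⊆ (U₁ : Set X₁))
    (h₂ : ∃ U₂ : X₂.Opens, IsAffineOpen U₂ ∧ φ₂ ⁻¹' E ⊆ (U₂ : Set X₂)) :
    ∃ U : X.Opens, IsAffineOpen U ∧ E ⊆ (U : Set X) := by
  have hY := hY_of_isClosedImmersion θ₁ θ₂
  haveI : IsClosedImmersion φ₁ := isClosedImmersion_left_of_isPushout hY hX
  haveI : IsClosedImmersion φ₂ := isClosedImmersion_of_isPushout hY hX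
  obtain ⟨U₁, hU₁, hF₁U⟩ := h₁
  obtain ⟨U₂, hU₂, hF₂U⟩ := h₂
  have hF₁ : (φ₁ ⁻¹' E).Finite :=
    hE.preimage (Set.injOn_of_injective φ₁.isClosedEmbedding.injective)
  have hF₂ : (φ₂ ⁻¹' E).Finite :=
    hE.preimage (Set.injOn_of_injective φ₂.isClosedEmbedding.injective)
  have hcompat : ∀ y : Y, θ₁ y ∈ φ₁ ⁻¹' E ↔ θ₂ y ∈ φ₂ ⁻¹' E := by
    intro y
    change φ₁ (θ₁ y) ∈ E ↔ φ₂ (θ₂ y) ∈ E
    rw [← Scheme.Hom.comp_apply, ← Scheme.Hom.comp_apply, hX.w]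
  obtain ⟨β, hβ₁, hβ₂⟩ := exists_pair_of_finite θ₁ θ₂ _ _ hF₁ hF₂ hcompat hU₁ hF₁U hU₂ hF₂U
  obtain ⟨W, hWU, hWV, hW, -⟩ := exists_isChart_of_pair hY hX β
  refine ⟨W, hW.hW, fun e he => ?_⟩
  rcases jointly_surjective_of_isPushout hY hX e with ⟨x, rfl⟩ | ⟨x, rfl⟩
  · have : x ∈ φ₁ ⁻¹ᵁ W := by rw [hWU]; exact hβ₁ he
    exact this
  · have : x ∈ φ₂ ⁻¹ᵁ W := by rw [hWV]; exact hβ₂ he
    exact this

end Groth.Agent.Lib.Helper28.Pinch
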