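import Groth.Agent.Lib.Helper28.Pinch.BCAlg

/-!
# Flatness of fibre products of rings
-/

set_option autoImplicit false
universe u

open CategoryTheory Limits TensorProduct

namespace Groth.Agent.Lib.Helper28.Pinch

section Mod

variable {R : Type u} [CommRing R] {K M N : Type u} [AddCommGroup K] [AddCommGroup M]
  [AddCommGroup N] [Module R K] [Module R M] [Module R N]

/-- A product of flat modules is flat. -/
theorem flat_prod [Module.Flat R M] [Module.Flat R N] : Module.Flat R (M × N) := by
  rw [Module.Flat.iff_lTensor_preserves_injective_linearMap]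
  intro P₁ P₂ _ _ _ _ u hu
  have h1 : Function.Injective (u.lTensor M) :=
    Module.Flat.lTensor_preserves_injective_linearMap u hu
  have h2 : Function.Injective (u.lTensor N) :=
    Module.Flat.lTensor_preserves_injective_linearMap u hu
  have key : ∀ x : (M × N) ⊗[R] P₁, TensorProduct.prodLeft R R M N P₂ (u.lTensor (M × N) x) =
      ((u.lTensor M).prodMap (u.lTensor N)) (TensorProduct.prodLeft R R M N P₁ x) := by
    intro x
    induction x with
    | zero => simp only [map_zero]
    | tmul m p => obtain ⟨m, n⟩ := m; simp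
    | add x y hx hy => rw [map_add, map_add, hx, hy, map_add, map_add]
  intro x y hxy
  apply (TensorProduct.prodLeft R R M N P₁).injective
  apply Function.Injective.prodMap h1 h2
  have := congrArg (TensorProduct.prodLeft R R M N P₂) hxy
  rw [key, key] at this
  exact this

/-- The kernel of a surjection of flat modules is flat. -/
theorem flat_of_exact (g : K →ₗ[R] M) (f : M →ₗ[R] N) (hg : Function.Injective g)
    (hf : Function.Surjective f) (H : Function.Exact g f) [Module.Flat R M] [Module.Flat R N] :
    Module.Flat R K := by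
  rw [Module.Flat.iff_rTensor_preserves_injective_linearMap]
  intro P₁ P₂ _ _ _ _ u hu
  have h1 : Function.Injective (g.lTensor P₁) :=
    LinearMap.lTensor_injective_of_exact_of_flat f hf g hg H P₁
  have h2 : Function.Injective (u.rTensor M) :=
    Module.Flat.rTensor_preserves_injective_linearMap u hu
  have h3 : (u.rTensor M) ∘ₗ (g.lTensor P₁) = (g.lTensor P₂) ∘ₗ (u.rTensor K) := by
    rw [LinearMap.rTensor_comp_lTensor, LinearMap.lTensor_comp_rTensor]
  intro x y hxy
  apply h1
  apply h2
  have e1 := LinearMap.congr_fun h3 x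
  have e2 := LinearMap.congr_fun h3 y
  simp only [LinearMap.comp_apply] at e1 e2
  rw [e1, e2, hxy]

end Mod

section Cat

open CommRingCat

variable {k R A B A₀ : CommRingCat.{u}}
  (ρ : k ⟶ R) (α : R ⟶ A) (β : R ⟶ B) (π : A ⟶ A₀) (φ : B ⟶ A₀)

/-- **Flatness of fibre squares of rings.** -/
theorem fibreSquare_flat (hsq : α ≫ π = β ≫ φ)
    (inj : ∀ r, α.hom r = 0 → β.hom r = 0 → r = 0)
    (surj : ∀ a b, φ.hom b = π.hom a → ∃ r, α.hom r = a ∧ β.hom r = b)
    (hπ : Function.Surjective π.hom)
    (hA : (ρ ≫ α).hom.Flat) (hB : (ρ ≫ β).hom.Flat) (h₀ : (ρ ≫ α ≫ π).hom.Flat) :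
    ρ.hom.Flat := by
  letI : Algebra k R := ρ.hom.toAlgebra
  letI : Algebra k A := (ρ ≫ α).hom.toAlgebra
  letI : Algebra k B := (ρ ≫ β).hom.toAlgebra
  letI : Algebra k A₀ := (ρ ≫ α ≫ π).hom.toAlgebra
  let αa : R →ₐ[k] A := { α.hom with commutes' := fun _ => rfl }
  let βa : R →ₐ[k] B := { β.hom with commutes' := fun _ => rfl }
  let πa : A →ₐ[k] A₀ := { π.hom with commutes' := fun _ => rfl }
  let φa : B →ₐ[k] A₀ := { φ.hom with
    commutes' := fun c => (congrArg (fun f => f.hom (ρ.hom c)) hsq).symm }
  have hsq₀ : ∀ r, πa (αa r) = φa (βa r) := fun r => congrArg (fun f => f.hom r) hsq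
  haveI : Module.Flat k A := hA
  haveI : Module.Flat k B := hB
  haveI : Module.Flat k A₀ := h₀
  haveI : Module.Flat k (B × A) := flat_prod
  exact flat_of_exact (gLin αa βa) (fLin πa φa) (gLin_injective αa βa inj)
    (fLin_surjective πa φa hπ) (exact_gLin_fLin αa βa πa φa hsq₀ surj)

end Cat

end Groth.Agent.Lib.Helper28.Pinch
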