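import Groth.Agent.Lib.Helper28.Pinch.BC
import Groth.Agent.Lib.Helper28.Pinch.FlatAlg

/-!
# Flatness of pushouts along closed immersions
-/

set_option autoImplicit false
universe u

open CategoryTheory Limits AlgebraicGeometry

namespace Groth.Agent.Lib.Helper28.Pinch

variable {X Y Z P : Scheme.{u}} {i : Z ⟶ X} {j : Z ⟶ Y} [IsClosedImmersion i]
  {a : X ⟶ P} {b : Y ⟶ P}

/-- The ring of a chart is flat over the base if the three pieces are. -/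
theorem IsChart.flat_appLE {hw : i ≫ a = j ≫ b} {W : P.Opens} (hW : IsChart a b hw W)
    {S : Scheme.{u}} (r : P ⟶ S) {O : S.Opens} (hO : IsAffineOpen O) (hWO : W ≤ r ⁻¹ᵁ O)
    (hA : Flat (a ≫ r)) (hB : Flat (b ≫ r)) (h₀ : Flat ((i ≫ a) ≫ r)) :
    (r.appLE O W hWO).hom.Flat := by
  have hjZ : i ⁻¹ᵁ (a ⁻¹ᵁ W) ≤ j ⁻¹ᵁ (b ⁻¹ᵁ W) := (pairOf a b hw W hW.hU hW.hV).ZU_le_j
  have hZaff : IsAffineOpen (i ⁻¹ᵁ (a ⁻¹ᵁ W)) := hW.hU.preimage i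
  have hUO : a ⁻¹ᵁ W ≤ (a ≫ r) ⁻¹ᵁ O := a.preimage_mono hWO
  have hVO : b ⁻¹ᵁ W ≤ (b ≫ r) ⁻¹ᵁ O := b.preimage_mono hWO
  have hZO : i ⁻¹ᵁ (a ⁻¹ᵁ W) ≤ ((i ≫ a) ≫ r) ⁻¹ᵁ O := (i ≫ a).preimage_mono hWO
  have e1 : r.appLE O W hWO ≫ a.app W = (a ≫ r).appLE O (a ⁻¹ᵁ W) hUO := by
    rw [Scheme.Hom.app_eq_appLE, Scheme.Hom.appLE_comp_appLE]
  have e2 : r.appLE O W hWO ≫ b.app W = (b ≫ r).appLE O (b ⁻¹ᵁ W) hVO := by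
    rw [Scheme.Hom.app_eq_appLE, Scheme.Hom.appLE_comp_appLE]
  have e3 : r.appLE O W hWO ≫ a.app W ≫ i.appLE (a ⁻¹ᵁ W) (i ⁻¹ᵁ (a ⁻¹ᵁ W)) le_rfl =
      ((i ≫ a) ≫ r).appLE O (i ⁻¹ᵁ (a ⁻¹ᵁ W)) hZO := by
    rw [Scheme.Hom.app_eq_appLE, Scheme.Hom.appLE_comp_appLE, Scheme.Hom.appLE_comp_appLE]
  refine fibreSquare_flat (ρ := r.appLE O W hWO) (α := a.app W) (β := b.app W)
    (π := i.appLE (a ⁻¹ᵁ W) (i ⁻¹ᵁ (a ⁻¹ᵁ W)) le_rfl)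
    (φ := j.appLE (b ⁻¹ᵁ W) (i ⁻¹ᵁ (a ⁻¹ᵁ W)) hjZ) ?_ hW.inj ?_
    (pairOf a b hw W hW.hU hW.hV).π_surjective ?_ ?_ ?_
  · rw [Scheme.Hom.app_eq_appLE, Scheme.Hom.app_eq_appLE, Scheme.Hom.appLE_comp_appLE,
      Scheme.Hom.appLE_comp_appLE]
    exact appLE_congr' hw _ _ _
  · intro a₁ b₁ h
    obtain ⟨s, hs1, hs2⟩ := hW.surj (FP.mk _ _ b₁ a₁ h)
    exact ⟨s, hs1, hs2⟩
  · rw [e1]; exact Flat.flat_appLE _ hO hW.hU hUO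
  · rw [e2]; exact Flat.flat_appLE _ hO hW.hV hVO
  · rw [e3]; exact Flat.flat_appLE _ hO hZaff hZO

/-- **Flatness of pinchings**: a pushout along a closed immersion is flat over a base as soon
as its three pieces are. -/
theorem flat_of_isPushout (hY : ∀ y : Y, ∃ β : APair i j, y ∈ β.V) (hP : IsPushout i j a b)
    {S : Scheme.{u}} (r : P ⟶ S) (hA : Flat (a ≫ r)) (hB : Flat (b ≫ r))
    (h₀ : Flat ((i ≫ a) ≫ r)) : Flat r := by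
  rw [HasRingHomProperty.iff_exists_appLE (P := @Flat)
    (RingHom.Flat.stableUnderComposition.stableUnderCompositionWithLocalizationAway
      RingHom.Flat.holdsForLocalizationAway).left]
  intro p
  obtain ⟨O, hO, hpO⟩ : ∃ O : S.Opens, IsAffineOpen O ∧ r p ∈ O := by
    obtain ⟨_, ⟨O, hO, rfl⟩, hpO, -⟩ := S.isBasis_affineOpens.exists_subset_of_mem_open
      (Set.mem_univ (r p)) isOpen_univ
    exact ⟨O, hO, hpO⟩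
  obtain ⟨W, hpW, hWO, hW⟩ := exists_isChart hY hP p (r ⁻¹ᵁ O) hpO
  exact ⟨⟨O, hO⟩, ⟨W, hW.hW⟩, hpW, hWO, hW.flat_appLE r hO hWO hA hB h₀⟩

end Groth.Agent.Lib.Helper28.Pinch
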