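import Mathlib

/-!
# General scheme-theoretic lemmas for the pinching construction
-/

set_option autoImplicit false
universe u

open CategoryTheory Limits AlgebraicGeometry

namespace Groth.Agent.Lib.Helper28.Pinch

/-- A pair of jointly surjective morphisms `a : X ⟶ S`, `b : Y ⟶ S` which is locally
"jointly injective on sections" is jointly epimorphic in the category of schemes. -/
theorem hom_ext_of_jointly {S T X Y : Scheme.{u}} (a : X ⟶ S) (b : Y ⟶ S)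
    (hsurj : ∀ s : S, s ∈ Set.range a ∨ s ∈ Set.range b)
    (hloc : ∀ (s : S) (O : S.Opens), s ∈ O →
      ∃ (W X' Y' : Scheme.{u}) (ι : W ⟶ S) (_ : IsOpenImmersion ι)
        (a' : X' ⟶ W) (b' : Y' ⟶ W) (uX : X' ⟶ X) (uY : Y' ⟶ Y),
        s ∈ Set.range ι ∧ Set.range ι ⊆ O ∧ a' ≫ ι = uX ≫ a ∧ b' ≫ ι = uY ≫ b ∧
        ∀ r : Γ(W, ⊤), a'.appTop r = 0 → b'.appTop r = 0 → r = 0)
    (h h' : S ⟶ T) (ha : a ≫ h = a ≫ h') (hb : b ≫ h = b ≫ h') : h = h' := by
  have hpt : ∀ s : S, h s = h' s := by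
    intro s
    rcases hsurj s with ⟨x, rfl⟩ | ⟨y, rfl⟩
    · rw [← Scheme.Hom.comp_apply, ← Scheme.Hom.comp_apply, ha]
    · rw [← Scheme.Hom.comp_apply, ← Scheme.Hom.comp_apply, hb]
  apply Scheme.hom_ext_of_forall
  intro s
  obtain ⟨T', hT', hsT'⟩ : ∃ T' : T.Opens, IsAffineOpen T' ∧ h s ∈ T' := by
    obtain ⟨_, ⟨T', hT', rfl⟩, hsT', -⟩ :=
      T.isBasis_affineOpens.exists_subset_of_mem_open (Set.mem_univ (h s)) isOpen_univ
    exact ⟨T', hT', hsT'⟩
  have hsO : s ∈ h ⁻¹ᵁ T' ⊓ h' ⁻¹ᵁ T' := by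
    refine ⟨hsT', ?_⟩
    change h' s ∈ T'
    rw [← hpt]; exact hsT'
  obtain ⟨W, X', Y', ι, hι, a', b', uX, uY, hs, hsub, hca, hcb, hinj⟩ := hloc s _ hsO
  refine ⟨ι.opensRange, hs, ?_⟩
  suffices hh : ι ≫ h = ι ≫ h' by
    rw [← cancel_epi ι.isoOpensRange.hom, ← Category.assoc, ← Category.assoc,
      Scheme.Hom.isoOpensRange_hom_ι]
    exact hh
  have hr : Set.range (ι ≫ h) ⊆ Set.range T'.ι := by
    rintro _ ⟨w, rfl⟩
    rw [Scheme.Opens.range_ι]
    exact (hsub ⟨w, rfl⟩).1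
  have hr' : Set.range (ι ≫ h') ⊆ Set.range T'.ι := by
    rintro _ ⟨w, rfl⟩
    rw [Scheme.Opens.range_ι]
    exact (hsub ⟨w, rfl⟩).2
  obtain ⟨k, hk⟩ : ∃ k : W ⟶ T', k ≫ T'.ι = ι ≫ h :=
    ⟨IsOpenImmersion.lift T'.ι (ι ≫ h) hr, IsOpenImmersion.lift_fac _ _ _⟩
  obtain ⟨k', hk'⟩ : ∃ k' : W ⟶ T', k' ≫ T'.ι = ι ≫ h' :=
    ⟨IsOpenImmersion.lift T'.ι (ι ≫ h') hr', IsOpenImmersion.lift_fac _ _ _⟩
  suffices hkk : k = k' by rw [← hk, hkk, hk']
  haveI : IsAffine T' := hT'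
  have hak : a' ≫ k = a' ≫ k' := by
    rw [← cancel_mono T'.ι, Category.assoc, Category.assoc, hk, hk', reassoc_of% hca,
      reassoc_of% hca, ha]
  have hbk : b' ≫ k = b' ≫ k' := by
    rw [← cancel_mono T'.ι, Category.assoc, Category.assoc, hk, hk', reassoc_of% hcb,
      reassoc_of% hcb, hb]
  apply ext_of_isAffine
  ext r
  apply eq_of_sub_eq_zero
  apply hinj
  · rw [map_sub, sub_eq_zero]
    have := congrArg (fun f => (Scheme.Hom.appTop f).hom r) hak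
    simpa using this
  · rw [map_sub, sub_eq_zero]
    have := congrArg (fun f => (Scheme.Hom.appTop f).hom r) hbk
    simpa using this

/-- A criterion for being an open immersion: the source is covered by open immersions
`k c : Wc c ⟶ W` such that `k c ≫ g` is an open immersion and `range (k c)` is saturated. -/
theorem isOpenImmersion_of_cover {W W'' : Scheme.{u}} (g : W ⟶ W'') {I : Type*}
    (Wc : I → Scheme.{u}) (k : ∀ c, Wc c ⟶ W) [∀ c, IsOpenImmersion (k c)]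
    [∀ c, IsOpenImmersion (k c ≫ g)]
    (hcov : ∀ w : W, ∃ c, w ∈ Set.range (k c))
    (hsat : ∀ c (w : W), g w ∈ Set.range (k c ≫ g) → w ∈ Set.range (k c)) :
    IsOpenImmersion g := by
  apply IsZariskiLocalAtTarget.of_forall_source_exists_preimage (P := @IsOpenImmersion)
  intro w
  obtain ⟨c, w', rfl⟩ := hcov w
  refine ⟨(k c ≫ g).opensRange, ⟨w', rfl⟩, ?_⟩
  have hr : Set.range (g ⁻¹ᵁ (k c ≫ g).opensRange).ι = Set.range (k c) := by
    rw [Scheme.Opens.range_ι]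
    apply Set.Subset.antisymm
    · intro w hw
      exact hsat c w hw
    · rintro _ ⟨w'', rfl⟩
      exact ⟨w'', rfl⟩
  have he := IsOpenImmersion.isoOfRangeEq_hom_fac (g ⁻¹ᵁ (k c ≫ g).opensRange).ι (k c) hr
  rw [← he, Category.assoc]
  infer_instance

end Groth.Agent.Lib.Helper28.Pinch
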