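import Groth.Agent.Lib.Helper28.Pinch.PairDir

/-!
# The global pinching: construction of `P`, `a`, `b`
-/

set_option autoImplicit false
universe u

open CategoryTheory Limits AlgebraicGeometry

namespace Groth.Agent.Lib.Helper28.Pinch

variable {X Y Z : Scheme.{u}} (i : Z ⟶ X) (j : Z ⟶ Y) [IsClosedImmersion i]

namespace Glue

/-- The pinching. -/
noncomputable def P : Scheme.{u} := colimit (APair.F : APair i j ⥤ Scheme.{u})

/-- The open immersions of the local pinchings. -/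
noncomputable def ι (β : APair i j) : APair.F.obj β ⟶ P i j := colimit.ι APair.F β

instance (β : APair i j) : IsOpenImmersion (ι i j β) :=
  inferInstanceAs (IsOpenImmersion (colimit.ι (APair.F : APair i j ⥤ Scheme.{u}) β))

lemma F_map_ι {β β' : APair i j} (f : β ⟶ β') : APair.F.map f ≫ ι i j β' = ι i j β :=
  colimit.w APair.F f

lemma ι_jointly_surjective (p : P i j) : ∃ (β : APair i j) (w : APair.F.obj β), ι i j β w = p :=
  Scheme.IsLocallyDirected.ι_jointly_surjective (APair.F : APair i j ⥤ Scheme.{u}) p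

lemma ι_eq_ι_iff {β β' : APair i j} {w : APair.F.obj β} {w' : APair.F.obj β'} :
    ι i j β w = ι i j β' w' ↔ ∃ (β'' : APair i j) (f : β'' ⟶ β) (f' : β'' ⟶ β')
      (w'' : APair.F.obj β''), APair.F.map f w'' = w ∧ APair.F.map f' w'' = w' :=
  Scheme.IsLocallyDirected.ι_eq_ι_iff (APair.F : APair i j ⥤ Scheme.{u})

variable {i j} in
/-- Every point of `X` lies in some adapted pair. -/
theorem exists_mem_U (hY : ∀ y : Y, ∃ β : APair i j, y ∈ β.V) (x : X) :
    ∃ β : APair i j, x ∈ β.U := by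
  by_cases hx : x ∈ Set.range i
  · obtain ⟨z, rfl⟩ := hx
    obtain ⟨β, hβ⟩ := hY (j z)
    refine ⟨β, ?_⟩
    have : z ∈ j ⁻¹ᵁ β.V := hβ
    rw [← β.eq] at this
    exact this
  · have hopen : IsOpen (Set.range i)ᶜ := i.isClosedEmbedding.isClosed_range.isOpen_compl
    obtain ⟨U, hU, hxU, hUsub⟩ : ∃ U : X.Opens, IsAffineOpen U ∧ x ∈ U ∧
        (U : Set X) ⊆ (Set.range i)ᶜ := by
      obtain ⟨_, ⟨U, hU, rfl⟩, hxU, hUsub⟩ :=
        X.isBasis_affineOpens.exists_subset_of_mem_open hx hopen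
      exact ⟨U, hU, hxU, hUsub⟩
    refine ⟨⟨U, ⊥, hU, isAffineOpen_bot Y, ?_⟩, hxU⟩
    ext z
    simp only [Scheme.Hom.preimage_bot, TopologicalSpace.Opens.coe_bot, Set.mem_empty_iff_false,
      iff_false]
    intro hz
    exact hUsub hz ⟨z, rfl⟩

section Covers

variable {i j}
variable (hY : ∀ y : Y, ∃ β : APair i j, y ∈ β.V)

/-- The cover of `X` by the `β.U`. -/
noncomputable def coverX : X.OpenCover :=
  X.openCoverOfIsOpenCover (fun β : APair i j => β.U) (TopologicalSpace.IsOpenCover.mk (by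
    rw [eq_top_iff]
    intro x _
    obtain ⟨β, hβ⟩ := exists_mem_U hY x
    exact TopologicalSpace.Opens.mem_iSup.mpr ⟨β, hβ⟩))

/-- The cover of `Y` by the `β.V`. -/
noncomputable def coverY : Y.OpenCover :=
  Y.openCoverOfIsOpenCover (fun β : APair i j => β.V) (TopologicalSpace.IsOpenCover.mk (by
    rw [eq_top_iff]
    intro y _
    obtain ⟨β, hβ⟩ := hY y
    exact TopologicalSpace.Opens.mem_iSup.mpr ⟨β, hβ⟩))

instance : Preorder (coverX hY).I₀ := inferInstanceAs (Preorder (APair i j))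
instance : Preorder (coverY hY).I₀ := inferInstanceAs (Preorder (APair i j))

omit [IsClosedImmersion i] in
lemma inter_eq (β β' : APair i j) : i ⁻¹ᵁ (β.U ⊓ β'.U) = j ⁻¹ᵁ (β.V ⊓ β'.V) := by
  rw [Scheme.Hom.preimage_inf, Scheme.Hom.preimage_inf, β.eq, β'.eq]

noncomputable instance : (coverX hY).LocallyDirected where
  trans {β β'} f := X.homOfLE (leOfHom f).1
  trans_id β := X.homOfLE_rfl _
  trans_comp f g := (X.homOfLE_homOfLE _ _).symm
  w f := X.homOfLE_ι _
  directed {β β'} x := by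
    obtain ⟨p, hp⟩ : ∃ p : X, p = (pullback.fst ((coverX hY).f β) ((coverX hY).f β') ≫
      (coverX hY).f β) x := ⟨_, rfl⟩
    have hpU : p ∈ β.U := by
      rw [hp, Scheme.Hom.comp_apply]
      exact (pullback.fst ((coverX hY).f β) ((coverX hY).f β') x).2
    have hpU' : p ∈ β'.U := by
      rw [hp, pullback.condition, Scheme.Hom.comp_apply]
      exact (pullback.snd ((coverX hY).f β) ((coverX hY).f β') x).2
    obtain ⟨c, hc1, hc2, hc3⟩ := β.exists_basic_of_mem_left (β.U ⊓ β'.U) (β.V ⊓ β'.V)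
      (inter_eq β β') p ⟨hpU, hpU'⟩ hpU
    have hle : β.basic c ≤ β := β.basic_le c
    have hle' : β.basic c ≤ β' := ⟨hc2.trans inf_le_right, hc3.trans inf_le_right⟩
    refine ⟨β.basic c, homOfLE hle, homOfLE hle', ⟨p, hc1⟩, ?_⟩
    apply (pullback.fst ((coverX hY).f β) ((coverX hY).f β') ≫
      (coverX hY).f β).isOpenEmbedding.injective
    rw [← hp, ← Scheme.Hom.comp_apply, pullback.lift_fst_assoc]
    exact congrArg (fun f : ((β.basic c).U : Scheme.{u}) ⟶ X => f ⟨p, hc1⟩) (X.homOfLE_ι hle.1)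
  property_trans f := by
    change IsOpenImmersion (X.homOfLE _)
    infer_instance

noncomputable instance : (coverY hY).LocallyDirected where
  trans {β β'} f := Y.homOfLE (leOfHom f).2
  trans_id β := Y.homOfLE_rfl _
  trans_comp f g := (Y.homOfLE_homOfLE _ _).symm
  w f := Y.homOfLE_ι _
  directed {β β'} x := by
    obtain ⟨p, hp⟩ : ∃ p : Y, p = (pullback.fst ((coverY hY).f β) ((coverY hY).f β') ≫
      (coverY hY).f β) x := ⟨_, rfl⟩
    have hpV : p ∈ β.V := by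
      rw [hp, Scheme.Hom.comp_apply]
      exact (pullback.fst ((coverY hY).f β) ((coverY hY).f β') x).2
    have hpV' : p ∈ β'.V := by
      rw [hp, pullback.condition, Scheme.Hom.comp_apply]
      exact (pullback.snd ((coverY hY).f β) ((coverY hY).f β') x).2
    obtain ⟨c, hc1, hc2, hc3⟩ := β.exists_basic_of_mem_right (β.U ⊓ β'.U) (β.V ⊓ β'.V)
      (inter_eq β β') p ⟨hpV, hpV'⟩ hpV
    have hle : β.basic c ≤ β := β.basic_le c
    have hle' : β.basic c ≤ β' := ⟨hc2.trans inf_le_right, hc3.trans inf_le_right⟩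
    refine ⟨β.basic c, homOfLE hle, homOfLE hle', ⟨p, hc1⟩, ?_⟩
    apply (pullback.fst ((coverY hY).f β) ((coverY hY).f β') ≫
      (coverY hY).f β).isOpenEmbedding.injective
    rw [← hp, ← Scheme.Hom.comp_apply, pullback.lift_fst_assoc]
    exact congrArg (fun f : ((β.basic c).V : Scheme.{u}) ⟶ Y => f ⟨p, hc1⟩) (Y.homOfLE_ι hle.2)
  property_trans f := by
    change IsOpenImmersion (Y.homOfLE _)
    infer_instance

/-- The local pieces of `a`. -/
noncomputable def ga (β : APair i j) : (β.U : Scheme.{u}) ⟶ P i j := β.U.toSpecΓ ≫ β.a' ≫ ι i j β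

/-- The local pieces of `b`. -/
noncomputable def gb (β : APair i j) : (β.V : Scheme.{u}) ⟶ P i j := β.V.toSpecΓ ≫ β.b' ≫ ι i j β

lemma ga_compat {β β' : (coverX hY).I₀} (f : β ⟶ β') :
    (coverX hY).trans f ≫ ga (i := i) (j := j) β' = ga β := by
  have h : β.U ≤ β'.U := (leOfHom f).1
  change X.homOfLE h ≫ β'.U.toSpecΓ ≫ β'.a' ≫ ι i j β' = β.U.toSpecΓ ≫ β.a' ≫ ι i j β
  calc X.homOfLE h ≫ β'.U.toSpecΓ ≫ β'.a' ≫ ι i j β'
      = (X.homOfLE h ≫ β'.U.toSpecΓ) ≫ β'.a' ≫ ι i j β' := by simp only [Category.assoc]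
    _ = (β.U.toSpecΓ ≫ Spec.map (X.presheaf.map (homOfLE h).op)) ≫ β'.a' ≫ ι i j β' := by
        rw [Scheme.Opens.toSpecΓ_SpecMap_presheaf_map]
    _ = β.U.toSpecΓ ≫ (Spec.map (X.presheaf.map (homOfLE h).op) ≫ β'.a') ≫ ι i j β' := by
        simp only [Category.assoc]
    _ = β.U.toSpecΓ ≫ (β.a' ≫ APair.F.map f) ≫ ι i j β' := by rw [APair.a'_F_map]
    _ = β.U.toSpecΓ ≫ β.a' ≫ ι i j β := by rw [Category.assoc, F_map_ι]

lemma gb_compat {β β' : (coverY hY).I₀} (f : β ⟶ β') :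
    (coverY hY).trans f ≫ gb (i := i) (j := j) β' = gb β := by
  have h : β.V ≤ β'.V := (leOfHom f).2
  change Y.homOfLE h ≫ β'.V.toSpecΓ ≫ β'.b' ≫ ι i j β' = β.V.toSpecΓ ≫ β.b' ≫ ι i j β
  calc Y.homOfLE h ≫ β'.V.toSpecΓ ≫ β'.b' ≫ ι i j β'
      = (Y.homOfLE h ≫ β'.V.toSpecΓ) ≫ β'.b' ≫ ι i j β' := by simp only [Category.assoc]
    _ = (β.V.toSpecΓ ≫ Spec.map (Y.presheaf.map (homOfLE h).op)) ≫ β'.b' ≫ ι i j β' := by
        rw [Scheme.Opens.toSpecΓ_SpecMap_presheaf_map]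
    _ = β.V.toSpecΓ ≫ (Spec.map (Y.presheaf.map (homOfLE h).op) ≫ β'.b') ≫ ι i j β' := by
        simp only [Category.assoc]
    _ = β.V.toSpecΓ ≫ (β.b' ≫ APair.F.map f) ≫ ι i j β' := by rw [APair.b'_F_map]
    _ = β.V.toSpecΓ ≫ β.b' ≫ ι i j β := by rw [Category.assoc, F_map_ι]

/-- The morphism `X ⟶ P`. -/
noncomputable def a : X ⟶ P i j :=
  (coverX hY).glueMorphismsOfLocallyDirected (ga (i := i) (j := j)) (ga_compat hY)

/-- The morphism `Y ⟶ P`. -/
noncomputable def b : Y ⟶ P i j :=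
  (coverY hY).glueMorphismsOfLocallyDirected (gb (i := i) (j := j)) (gb_compat hY)

lemma ι_a (β : APair i j) : β.U.ι ≫ a hY = β.U.toSpecΓ ≫ β.a' ≫ ι i j β :=
  (coverX hY).map_glueMorphismsOfLocallyDirected (ga (i := i) (j := j)) (ga_compat hY) β

lemma ι_b (β : APair i j) : β.V.ι ≫ b hY = β.V.toSpecΓ ≫ β.b' ≫ ι i j β :=
  (coverY hY).map_glueMorphismsOfLocallyDirected (gb (i := i) (j := j)) (gb_compat hY) β

lemma fromSpec_a (β : APair i j) : β.hU.fromSpec ≫ a hY = β.a' ≫ ι i j β := by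
  rw [IsAffineOpen.fromSpec, Category.assoc, ι_a, IsAffineOpen.isoSpec_inv_toSpecΓ_assoc]

lemma fromSpec_b (β : APair i j) : β.hV.fromSpec ≫ b hY = β.b' ≫ ι i j β := by
  rw [IsAffineOpen.fromSpec, Category.assoc, ι_b, IsAffineOpen.isoSpec_inv_toSpecΓ_assoc]

end Covers

end Glue

end Groth.Agent.Lib.Helper28.Pinch
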