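import Groth.Agent.Lib.Helper28.Pinch.Glue

/-!
# The global pinching: commutativity and topology
-/

set_option autoImplicit false
universe u

open CategoryTheory Limits AlgebraicGeometry

namespace Groth.Agent.Lib.Helper28.Pinch

variable {X Y Z : Scheme.{u}} {i : Z ⟶ X} {j : Z ⟶ Y}

namespace APair

lemma SpecMap_π_a' (β : APair i j) :
    Spec.map (i.appLE β.U β.ZU β.ZU_le_i) ≫ β.a' =
      Spec.map (j.appLE β.V β.ZU β.ZU_le_j) ≫ β.b' := by
  change Spec.map (i.appLE β.U β.ZU β.ZU_le_i) ≫ Spec.map (CommRingCat.ofHom (FP.pA β.π β.φ)) =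
    Spec.map (j.appLE β.V β.ZU β.ZU_le_j) ≫ Spec.map (CommRingCat.ofHom (FP.pB β.π β.φ))
  rw [← Spec.map_comp, ← Spec.map_comp]
  congr 1
  ext x
  exact (FP.comm β.π β.φ x).symm

/-- Joint injectivity on global sections. -/
lemma appTop_injective (β : APair i j) (r : Γ(Spec (CommRingCat.of (FP β.π β.φ)), ⊤))
    (h1 : (Spec.map (CommRingCat.ofHom (FP.pA β.π β.φ))).appTop r = 0)
    (h2 : (Spec.map (CommRingCat.ofHom (FP.pB β.π β.φ))).appTop r = 0) : r = 0 := by
  have hinj : Function.Injective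
      (Scheme.ΓSpecIso (CommRingCat.of (FP β.π β.φ))).hom :=
    (ConcreteCategory.bijective_of_isIso _).1
  refine hinj (Eq.trans ?_ (map_zero _).symm)
  apply FP.ext'
  · have := congrArg (fun f => f.hom r)
      (Scheme.ΓSpecIso_naturality (CommRingCat.ofHom (FP.pB β.π β.φ)))
    simp only [CommRingCat.hom_comp, RingHom.comp_apply] at this
    rw [map_zero]
    refine this.symm.trans ?_
    rw [h2, map_zero]
  · have := congrArg (fun f => f.hom r)
      (Scheme.ΓSpecIso_naturality (CommRingCat.ofHom (FP.pA β.π β.φ)))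
    simp only [CommRingCat.hom_comp, RingHom.comp_apply] at this
    rw [map_zero]
    refine this.symm.trans ?_
    rw [h1, map_zero]

end APair

namespace Glue

variable [IsClosedImmersion i] (hY : ∀ y : Y, ∃ β : APair i j, y ∈ β.V)

/-- The square commutes. -/
theorem comm : i ≫ a hY = j ≫ b hY := by
  apply Scheme.hom_ext_of_forall
  intro z
  obtain ⟨β, hβ⟩ := hY (j z)
  have hz : z ∈ β.ZU := by rw [β.ZU_eq_j]; exact hβ
  refine ⟨β.ZU, hz, ?_⟩
  rw [← β.hZU.toSpecΓ_fromSpec]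
  simp only [Category.assoc]
  congr 1
  rw [← IsAffineOpen.SpecMap_appLE_fromSpec_assoc i β.hU β.hZU β.ZU_le_i,
    ← IsAffineOpen.SpecMap_appLE_fromSpec_assoc j β.hV β.hZU β.ZU_le_j, fromSpec_a, fromSpec_b,
    ← Category.assoc, ← Category.assoc, β.SpecMap_π_a']

lemma a_fromSpec_apply (β : APair i j) (x : Spec Γ(X, β.U)) :
    a hY (β.hU.fromSpec x) = ι i j β (β.a' x) := by
  rw [← Scheme.Hom.comp_apply, fromSpec_a, Scheme.Hom.comp_apply]

lemma b_fromSpec_apply (β : APair i j) (y : Spec Γ(Y, β.V)) :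
    b hY (β.hV.fromSpec y) = ι i j β (β.b' y) := by
  rw [← Scheme.Hom.comp_apply, fromSpec_b, Scheme.Hom.comp_apply]

/-- `a` and `b` are jointly surjective. -/
theorem jointly_surjective (p : P i j) : p ∈ Set.range (a hY) ∨ p ∈ Set.range (b hY) := by
  obtain ⟨β, w, rfl⟩ := ι_jointly_surjective i j p
  rcases β.exists_a'_or_b' w with ⟨x, rfl⟩ | ⟨y, rfl⟩
  · left; exact ⟨β.hU.fromSpec x, a_fromSpec_apply hY β x⟩
  · right; exact ⟨β.hV.fromSpec y, b_fromSpec_apply hY β y⟩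

/-- The preimage of the chart `β` under `a` is `β.U`. -/
theorem preimage_a (β : APair i j) : a hY ⁻¹ᵁ (ι i j β).opensRange = β.U := by
  apply le_antisymm
  · intro x hx
    obtain ⟨w, hw⟩ := hx
    obtain ⟨β', hβ'⟩ := exists_mem_U hY x
    have hxr : x ∈ Set.range β'.hU.fromSpec := by rw [β'.hU.range_fromSpec]; exact hβ'
    obtain ⟨p, rfl⟩ := hxr
    rw [a_fromSpec_apply] at hw
    obtain ⟨β'', f, f', w'', h1, h2⟩ := (ι_eq_ι_iff i j).mp hw
    obtain ⟨c, hc1, hc2, hc3⟩ := APair.exists_basic_F_map f' w''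
    rw [h2, APair.fromSpec_a'_mem_basicOpen] at hc3
    exact (leOfHom f).1 (hc1 hc3)
  · intro x hx
    have hxr : x ∈ Set.range β.hU.fromSpec := by rw [β.hU.range_fromSpec]; exact hx
    obtain ⟨p, rfl⟩ := hxr
    exact ⟨β.a' p, (a_fromSpec_apply hY β p).symm⟩

/-- The preimage of the chart `β` under `b` is `β.V`. -/
theorem preimage_b (β : APair i j) : b hY ⁻¹ᵁ (ι i j β).opensRange = β.V := by
  apply le_antisymm
  · intro y hy
    obtain ⟨w, hw⟩ := hy
    obtain ⟨β', hβ'⟩ := hY y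
    have hyr : y ∈ Set.range β'.hV.fromSpec := by rw [β'.hV.range_fromSpec]; exact hβ'
    obtain ⟨p, rfl⟩ := hyr
    rw [b_fromSpec_apply] at hw
    obtain ⟨β'', f, f', w'', h1, h2⟩ := (ι_eq_ι_iff i j).mp hw
    obtain ⟨c, hc1, hc2, hc3⟩ := APair.exists_basic_F_map f' w''
    rw [h2, APair.fromSpec_b'_mem_basicOpen] at hc3
    exact (leOfHom f).2 (hc2 hc3)
  · intro y hy
    have hyr : y ∈ Set.range β.hV.fromSpec := by rw [β.hV.range_fromSpec]; exact hy
    obtain ⟨p, rfl⟩ := hyr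
    exact ⟨β.b' p, (b_fromSpec_apply hY β p).symm⟩

/-- The charts form a basis of `P`. -/
theorem exists_chart_le (p : P i j) (O : (P i j).Opens) (hp : p ∈ O) :
    ∃ β : APair i j, p ∈ Set.range (ι i j β) ∧ Set.range (ι i j β) ⊆ O := by
  obtain ⟨β₀, w, rfl⟩ := ι_jointly_surjective i j p
  have hw : w ∈ (ι i j β₀) ⁻¹ᵁ O := hp
  obtain ⟨_, ⟨c, rfl⟩, hwc, hcO⟩ :=
    TopologicalSpace.Opens.isBasis_iff_nbhd.mp PrimeSpectrum.isBasis_basic_opens hw
  have hr := APair.range_F_map_of_basic (homOfLE (β₀.basic_le c)) c rfl rfl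
  refine ⟨β₀.basic c, ?_, ?_⟩
  · have : w ∈ Set.range (APair.F.map (homOfLE (β₀.basic_le c))) := by rw [hr]; exact hwc
    obtain ⟨w', rfl⟩ := this
    refine ⟨w', ?_⟩
    rw [← Scheme.Hom.comp_apply, F_map_ι]
  · rintro _ ⟨w', rfl⟩
    rw [← F_map_ι i j (homOfLE (β₀.basic_le c)), Scheme.Hom.comp_apply]
    have : APair.F.map (homOfLE (β₀.basic_le c)) w' ∈
        (PrimeSpectrum.basicOpen c : Set (PrimeSpectrum (FP β₀.π β₀.φ))) := by
      rw [← hr]; exact ⟨w', rfl⟩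
    exact hcO this

end Glue

end Groth.Agent.Lib.Helper28.Pinch
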