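import Groth.Agent.Lib.Helper28.Pinch.BC
import Mathlib.AlgebraicGeometry.Morphisms.Finite
import Mathlib.AlgebraicGeometry.Morphisms.Etale
import Mathlib.AlgebraicGeometry.Morphisms.IsIso

/-!
# Local-to-global principles over an affine cover with affine preimages
-/

set_option autoImplicit false
universe u

open CategoryTheory Limits AlgebraicGeometry

namespace Groth.Agent.Lib.Helper28.Pinch

/-- Finiteness can be checked on an affine cover of the target. -/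
theorem isFinite_of_forall_exists {T W : Scheme.{u}} (h : T ⟶ W)
    (H : ∀ w : W, ∃ W₀ : W.Opens, w ∈ W₀ ∧ IsAffineOpen W₀ ∧ IsAffineOpen (h ⁻¹ᵁ W₀) ∧
      (h.app W₀).hom.Finite) : IsFinite h := by
  choose U hxU hU hfU hfin using H
  have hsup : ⨆ w, ((⟨U w, hU w⟩ : W.affineOpens) : W.Opens) = ⊤ :=
    top_le_iff.mp (fun x _ ↦ by simpa using ⟨x, hxU x⟩)
  rw [HasAffineProperty.iff_of_iSup_eq_top (P := @IsFinite) (fun w => ⟨U w, hU w⟩) hsup]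
  intro w
  refine ⟨hfU w, ?_⟩
  rw [morphismRestrict_appTop]
  refine (RingHom.finite_respectsIso.cancel_right_isIso _ _).mpr ?_
  change (Scheme.Hom.app h ((U w).ι ''ᵁ ⊤)).hom.Finite
  rw [Scheme.Opens.ι_image_top]
  exact hfin w

/-- Étaleness can be checked on an affine cover of the target with affine preimages. -/
theorem etale_of_forall_exists {T W : Scheme.{u}} (h : T ⟶ W)
    (H : ∀ w : W, ∃ W₀ : W.Opens, w ∈ W₀ ∧ IsAffineOpen W₀ ∧ IsAffineOpen (h ⁻¹ᵁ W₀) ∧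
      (h.app W₀).hom.Etale) : Etale h := by
  choose U hxU hU hfU hfin using H
  have hsup : ⨆ w, U w = ⊤ :=
    top_le_iff.mp (fun x _ ↦ by simpa using ⟨x, hxU x⟩)
  rw [IsZariskiLocalAtTarget.iff_of_iSup_eq_top (P := @Etale) U hsup]
  intro w
  haveI : IsAffine (U w).toScheme := hU w
  haveI : IsAffine (h ⁻¹ᵁ U w).toScheme := hfU w
  rw [HasRingHomProperty.iff_of_isAffine (P := @Etale)]
  rw [morphismRestrict_appTop]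
  refine (RingHom.Etale.respectsIso.cancel_right_isIso _ _).mpr ?_
  change (Scheme.Hom.app h ((U w).ι ''ᵁ ⊤)).hom.Etale
  rw [Scheme.Opens.ι_image_top]
  exact hfin w

/-- If the sections of `U` over suitable affine opens form a pushout of the sections of `T` and
`X` over `W`, the comparison with the sections of the fibre product is an isomorphism. -/
theorem isIso_appLE_of_isPushout {U Q T X W : Scheme.{u}} {fst : Q ⟶ T} {snd : Q ⟶ X}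
    {h : T ⟶ W} {a : X ⟶ W} (H : IsPullback fst snd h a) (φ : U ⟶ Q)
    {W₀ : W.Opens} {T₀ : T.Opens} {X₀ : X.Opens}
    (hT : T₀ ≤ h ⁻¹ᵁ W₀) (hX : X₀ ≤ a ⁻¹ᵁ W₀) (hW₀ : IsAffineOpen W₀) (hT₀ : IsAffineOpen T₀)
    (hX₀ : IsAffineOpen X₀) {Q₀ : Q.Opens} (hQ₀ : Q₀ = fst ⁻¹ᵁ T₀ ⊓ snd ⁻¹ᵁ X₀) (V : U.Opens)
    (eQ : V ≤ φ ⁻¹ᵁ Q₀) (e₁ : V ≤ (φ ≫ fst) ⁻¹ᵁ T₀) (e₂ : V ≤ (φ ≫ snd) ⁻¹ᵁ X₀)
    (po : IsPushout (h.appLE W₀ T₀ hT) (a.appLE W₀ X₀ hX) ((φ ≫ fst).appLE T₀ V e₁)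
      ((φ ≫ snd).appLE X₀ V e₂)) :
    IsIso (φ.appLE Q₀ V eQ) := by
  obtain ⟨-, po₁⟩ := sect_isPushout H hX hT hQ₀ hW₀ hX₀ hT₀ (hQ₀.le.trans inf_le_left)
    (hQ₀.le.trans inf_le_right)
  have h1 : fst.appLE T₀ Q₀ (hQ₀.le.trans inf_le_left) ≫ φ.appLE Q₀ V eQ =
      (φ ≫ fst).appLE T₀ V e₁ := Scheme.Hom.appLE_comp_appLE ..
  have h2 : snd.appLE X₀ Q₀ (hQ₀.le.trans inf_le_right) ≫ φ.appLE Q₀ V eQ =
      (φ ≫ snd).appLE X₀ V e₂ := Scheme.Hom.appLE_comp_appLE ..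
  have : φ.appLE Q₀ V eQ = (po₁.isoIsPushout _ _ po).hom :=
    po₁.hom_ext (by rw [h1, IsPushout.inl_isoIsPushout_hom])
      (by rw [h2, IsPushout.inr_isoIsPushout_hom])
  rw [this]
  infer_instance

/-- A commutative square which, over an affine cover of the base with affine preimages, induces
pushout squares of rings of sections, is cartesian. -/
theorem isPullback_of_forall_isPushout {U T X W : Scheme.{u}} (p₁ : U ⟶ T) (p₂ : U ⟶ X)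
    (h : T ⟶ W) (a : X ⟶ W) (w : p₁ ≫ h = p₂ ≫ a)
    (H : ∀ x : W, ∃ W₀ : W.Opens, x ∈ W₀ ∧ IsAffineOpen W₀ ∧ IsAffineOpen (h ⁻¹ᵁ W₀) ∧
      IsAffineOpen (a ⁻¹ᵁ W₀) ∧ IsAffineOpen (p₁ ⁻¹ᵁ (h ⁻¹ᵁ W₀)) ∧
      ∃ e : p₁ ⁻¹ᵁ (h ⁻¹ᵁ W₀) ≤ p₂ ⁻¹ᵁ (a ⁻¹ᵁ W₀),
        IsPushout (h.app W₀) (a.app W₀) (p₁.app (h ⁻¹ᵁ W₀))
          (p₂.appLE (a ⁻¹ᵁ W₀) (p₁ ⁻¹ᵁ (h ⁻¹ᵁ W₀)) e)) :
    IsPullback p₁ p₂ h a := by
  suffices hiso : IsIso (pullback.lift p₁ p₂ w) from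
    IsPullback.of_iso_pullback ⟨w⟩ (asIso (pullback.lift p₁ p₂ w)) (pullback.lift_fst ..)
      (pullback.lift_snd ..)
  obtain ⟨φ, hφ⟩ : ∃ φ : U ⟶ pullback h a, φ = pullback.lift p₁ p₂ w := ⟨_, rfl⟩
  rw [← hφ]
  have hφ₁ : φ ≫ pullback.fst h a = p₁ := by rw [hφ]; exact pullback.lift_fst ..
  have hφ₂ : φ ≫ pullback.snd h a = p₂ := by rw [hφ]; exact pullback.lift_snd ..
  choose W₀ hxW hW hT hX hU e hpo using H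
  have hpb := IsPullback.of_hasPullback h a
  have key : ∀ x : W, IsAffineOpen (pullback.fst h a ⁻¹ᵁ (h ⁻¹ᵁ W₀ x) ⊓
      pullback.snd h a ⁻¹ᵁ (a ⁻¹ᵁ W₀ x)) := fun x =>
    (sect_isPushout hpb (le_refl (a ⁻¹ᵁ W₀ x)) (le_refl (h ⁻¹ᵁ W₀ x)) rfl (hW x) (hX x) (hT x)
      inf_le_left inf_le_right).1
  have hsup : ⨆ q : ↑(pullback h a), ((⟨_, key (h (pullback.fst h a q))⟩ :
      (pullback h a).affineOpens) : (pullback h a).Opens) = ⊤ := by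
    refine top_le_iff.mp (fun q _ ↦ ?_)
    simp only [TopologicalSpace.Opens.mem_iSup]
    refine ⟨q, hxW _, ?_⟩
    change a (pullback.snd h a q) ∈ W₀ (h (pullback.fst h a q))
    have hc : a (pullback.snd h a q) = h (pullback.fst h a q) := by
      rw [← Scheme.Hom.comp_apply, ← Scheme.Hom.comp_apply, pullback.condition]
    rw [hc]
    exact hxW _
  change MorphismProperty.isomorphisms Scheme φ
  rw [HasAffineProperty.iff_of_iSup_eq_top (P := MorphismProperty.isomorphisms Scheme) _ hsup]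
  intro q
  obtain ⟨x, hx⟩ : ∃ x : W, x = h (pullback.fst h a q) := ⟨_, rfl⟩
  rw [← hx]
  have hV : φ ⁻¹ᵁ (pullback.fst h a ⁻¹ᵁ (h ⁻¹ᵁ W₀ x) ⊓ pullback.snd h a ⁻¹ᵁ (a ⁻¹ᵁ W₀ x)) =
      p₁ ⁻¹ᵁ (h ⁻¹ᵁ W₀ x) := by
    change (φ ≫ pullback.fst h a) ⁻¹ᵁ (h ⁻¹ᵁ W₀ x) ⊓ (φ ≫ pullback.snd h a) ⁻¹ᵁ (a ⁻¹ᵁ W₀ x) = _
    rw [hφ₁, hφ₂]
    exact inf_eq_left.mpr (e x)
  refine ⟨?_, ?_⟩
  · change IsAffineOpen (φ ⁻¹ᵁ (pullback.fst h a ⁻¹ᵁ (h ⁻¹ᵁ W₀ x) ⊓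
      pullback.snd h a ⁻¹ᵁ (a ⁻¹ᵁ W₀ x)))
    rw [hV]
    exact hU x
  · rw [morphismRestrict_appTop]
    refine @IsIso.comp_isIso _ _ _ _ _ _ _ ?_ (Functor.map_isIso _ _)
    change IsIso (Scheme.Hom.app φ
        ((pullback.fst h a ⁻¹ᵁ (h ⁻¹ᵁ W₀ x) ⊓ pullback.snd h a ⁻¹ᵁ (a ⁻¹ᵁ W₀ x)).ι ''ᵁ ⊤))
    rw [Scheme.Opens.ι_image_top, Scheme.Hom.app_eq_appLE]
    refine (Scheme.Hom.appLE_congr φ le_rfl rfl hV (fun f => IsIso f)).mpr ?_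
    have e₁ : p₁ ⁻¹ᵁ (h ⁻¹ᵁ W₀ x) ≤ (φ ≫ pullback.fst h a) ⁻¹ᵁ (h ⁻¹ᵁ W₀ x) := by rw [hφ₁]
    have e₂ : p₁ ⁻¹ᵁ (h ⁻¹ᵁ W₀ x) ≤ (φ ≫ pullback.snd h a) ⁻¹ᵁ (a ⁻¹ᵁ W₀ x) := by
      rw [hφ₂]; exact e x
    refine isIso_appLE_of_isPushout hpb φ (le_refl (h ⁻¹ᵁ W₀ x)) (le_refl (a ⁻¹ᵁ W₀ x)) (hW x)
      (hT x) (hX x) rfl _ _ e₁ e₂ ?_
    have h3 : (φ ≫ pullback.fst h a).appLE (h ⁻¹ᵁ W₀ x) (p₁ ⁻¹ᵁ (h ⁻¹ᵁ W₀ x)) e₁ =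
        p₁.app (h ⁻¹ᵁ W₀ x) := by
      rw [Scheme.Hom.app_eq_appLE]
      exact appLE_congr' hφ₁ _ _ _
    have h4 : (φ ≫ pullback.snd h a).appLE (a ⁻¹ᵁ W₀ x) (p₁ ⁻¹ᵁ (h ⁻¹ᵁ W₀ x)) e₂ =
        p₂.appLE (a ⁻¹ᵁ W₀ x) (p₁ ⁻¹ᵁ (h ⁻¹ᵁ W₀ x)) (e x) := appLE_congr' hφ₂ _ _ _
    rw [h3, h4, ← Scheme.Hom.app_eq_appLE, ← Scheme.Hom.app_eq_appLE]
    exact hpo x

end Groth.Agent.Lib.Helper28.Pinch
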