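import Groth.Agent.Lib.Helper28.Pinch.BC
import Groth.Agent.Lib.Helper28.Pinch.HY

/-!
# Morphisms of pushouts along closed immersions
-/

set_option autoImplicit false
universe u

open CategoryTheory Limits AlgebraicGeometry

namespace Groth.Agent.Lib.Helper28.Pinch

section Morph

variable {X Y Z W X' Y' Z' W' : Scheme.{u}}
  {i : Z ⟶ X} {j : Z ⟶ Y} {a : X ⟶ W} {b : Y ⟶ W}
  {i' : Z' ⟶ X'} {j' : Z' ⟶ Y'} {a' : X' ⟶ W'} {b' : Y' ⟶ W'}
  (f : X' ⟶ X) (g : Y' ⟶ Y) (c : Z' ⟶ Z) (h : W' ⟶ W)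
  (hi : i' ≫ f = c ≫ i) (hj : j' ≫ g = c ≫ j)

include hi hj in
/-- Pull back an adapted pair along affine morphisms. -/
def APair.pullback [IsAffineHom f] [IsAffineHom g] (β : APair i j) : APair i' j' where
  U := f ⁻¹ᵁ β.U
  V := g ⁻¹ᵁ β.V
  hU := β.hU.preimage f
  hV := β.hV.preimage g
  eq := by
    rw [← Scheme.Hom.comp_preimage, ← Scheme.Hom.comp_preimage, hi, hj,
      Scheme.Hom.comp_preimage, Scheme.Hom.comp_preimage, β.eq]

include hi hj in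
theorem hY_pullback [IsAffineHom f] [IsAffineHom g]
    (hY : ∀ y : Y, ∃ β : APair i j, y ∈ β.V) : ∀ y' : Y', ∃ β' : APair i' j', y' ∈ β'.V := by
  intro y'
  obtain ⟨β, hβ⟩ := hY (g y')
  exact ⟨APair.pullback f g c hi hj β, hβ⟩

variable [IsClosedImmersion i] [IsClosedImmersion i']
  (hY : ∀ y : Y, ∃ β : APair i j, y ∈ β.V) (hP : IsPushout i j a b)
  (hY' : ∀ y : Y', ∃ β : APair i' j', y ∈ β.V) (hP' : IsPushout i' j' a' b')
  (ha : a' ≫ h = f ≫ a) (hb : b' ≫ h = g ≫ b)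

include hi hj hY' ha hb in
/-- The preimage of a chart under a morphism of pushouts with affine components is a chart. -/
theorem isChart_preimage [IsAffineHom f] [IsAffineHom g] {W₀ : W.Opens}
    (hW₀ : IsChart a b hP.w W₀) : IsChart a' b' hP'.w (h ⁻¹ᵁ W₀) := by
  obtain ⟨W₁, hU, hV, hW₁, -⟩ := exists_isChart_of_pair hY' hP'
    (APair.pullback f g c hi hj (pairOf a b hP.w W₀ hW₀.hU hW₀.hV))
  have : W₁ = h ⁻¹ᵁ W₀ := by
    ext p
    rcases jointly_surjective_of_isPushout hY' hP' p with ⟨x, rfl⟩ | ⟨y, rfl⟩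
    · change x ∈ a' ⁻¹ᵁ W₁ ↔ x ∈ (a' ≫ h) ⁻¹ᵁ W₀
      rw [hU, ha]
      rfl
    · change y ∈ b' ⁻¹ᵁ W₁ ↔ y ∈ (b' ≫ h) ⁻¹ᵁ W₀
      rw [hV, hb]
      rfl
  rw [← this]
  exact hW₁

end Morph

end Groth.Agent.Lib.Helper28.Pinch
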