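import Groth.Agent.Lib.Helper28.Pinch.Morph
import Groth.Agent.Lib.Helper28.Milnor.Cat
import Groth.Agent.Lib.Helper28.Pinch.LocalGlobal

/-!
# Finite étale morphisms of pushouts along closed immersions
-/

set_option autoImplicit false
universe u

open CategoryTheory Limits AlgebraicGeometry

namespace Groth.Agent.Lib.Helper28.Pinch

section MorphEt

variable {X Y Z W X' Y' Z' W' : Scheme.{u}}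
  {i : Z ⟶ X} {j : Z ⟶ Y} {a : X ⟶ W} {b : Y ⟶ W}
  {i' : Z' ⟶ X'} {j' : Z' ⟶ Y'} {a' : X' ⟶ W'} {b' : Y' ⟶ W'}
  (f : X' ⟶ X) (g : Y' ⟶ Y) (c : Z' ⟶ Z) (h : W' ⟶ W)
  (hX : IsPullback i' c f i) (hYp : IsPullback j' c g j)
  [IsClosedImmersion i] [IsClosedImmersion i']
  (hP : IsPushout i j a b)
  (hY' : ∀ y : Y', ∃ β : APair i' j', y ∈ β.V) (hP' : IsPushout i' j' a' b')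
  (ha : a' ≫ h = f ≫ a) (hb : b' ≫ h = g ≫ b)

include hX hYp hY' ha hb in
/-- Over a chart, a morphism of pushouts with finite étale components is finite étale, and the
squares of rings over the two components are cocartesian. -/
theorem chart_finite_etale [IsFinite f] [Etale f] [IsFinite g] [Etale g] {W₀ : W.Opens}
    (hW₀ : IsChart a b hP.w W₀) (eX : a' ⁻¹ᵁ (h ⁻¹ᵁ W₀) ≤ f ⁻¹ᵁ (a ⁻¹ᵁ W₀))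
    (eY : b' ⁻¹ᵁ (h ⁻¹ᵁ W₀) ≤ g ⁻¹ᵁ (b ⁻¹ᵁ W₀)) :
    IsChart a' b' hP'.w (h ⁻¹ᵁ W₀) ∧ (h.app W₀).hom.Finite ∧ (h.app W₀).hom.Etale ∧
      IsPushout (a.app W₀) (h.app W₀) (f.appLE (a ⁻¹ᵁ W₀) (a' ⁻¹ᵁ (h ⁻¹ᵁ W₀)) eX)
        (a'.app (h ⁻¹ᵁ W₀)) ∧
      IsPushout (b.app W₀) (h.app W₀) (g.appLE (b ⁻¹ᵁ W₀) (b' ⁻¹ᵁ (h ⁻¹ᵁ W₀)) eY)
        (b'.app (h ⁻¹ᵁ W₀)) := by
  have hW₁ : IsChart a' b' hP'.w (h ⁻¹ᵁ W₀) :=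
    isChart_preimage f g c h hX.w hYp.w hP hY' hP' ha hb hW₀
  refine ⟨hW₁, ?_⟩
  have hX₁ : a' ⁻¹ᵁ (h ⁻¹ᵁ W₀) = f ⁻¹ᵁ (a ⁻¹ᵁ W₀) := by
    change (a' ≫ h) ⁻¹ᵁ W₀ = (f ≫ a) ⁻¹ᵁ W₀
    rw [ha]
  have hY₁ : b' ⁻¹ᵁ (h ⁻¹ᵁ W₀) = g ⁻¹ᵁ (b ⁻¹ᵁ W₀) := by
    change (b' ≫ h) ⁻¹ᵁ W₀ = (g ≫ b) ⁻¹ᵁ W₀
    rw [hb]
  have hZ₁ : i' ⁻¹ᵁ (a' ⁻¹ᵁ (h ⁻¹ᵁ W₀)) = c ⁻¹ᵁ (i ⁻¹ᵁ (a ⁻¹ᵁ W₀)) := by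
    rw [hX₁]
    change (i' ≫ f) ⁻¹ᵁ (a ⁻¹ᵁ W₀) = (c ≫ i) ⁻¹ᵁ (a ⁻¹ᵁ W₀)
    rw [hX.w]
  have eZ : i' ⁻¹ᵁ (a' ⁻¹ᵁ (h ⁻¹ᵁ W₀)) ≤ c ⁻¹ᵁ (i ⁻¹ᵁ (a ⁻¹ᵁ W₀)) := hZ₁.le
  have hjZ : i ⁻¹ᵁ (a ⁻¹ᵁ W₀) ≤ j ⁻¹ᵁ (b ⁻¹ᵁ W₀) :=
    (pairOf a b hP.w W₀ hW₀.hU hW₀.hV).ZU_le_j
  have hjZ' : i' ⁻¹ᵁ (a' ⁻¹ᵁ (h ⁻¹ᵁ W₀)) ≤ j' ⁻¹ᵁ (b' ⁻¹ᵁ (h ⁻¹ᵁ W₀)) :=
    (pairOf a' b' hP'.w (h ⁻¹ᵁ W₀) hW₁.hU hW₁.hV).ZU_le_j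
  have hZaff : IsAffineOpen (i ⁻¹ᵁ (a ⁻¹ᵁ W₀)) := hW₀.hU.preimage i
  -- the two cocartesian squares over `Z`
  obtain ⟨-, poA⟩ := sect_isPushout hX (US := a ⁻¹ᵁ W₀) (UT := i ⁻¹ᵁ (a ⁻¹ᵁ W₀))
    (UX := a' ⁻¹ᵁ (h ⁻¹ᵁ W₀)) (UY := i' ⁻¹ᵁ (a' ⁻¹ᵁ (h ⁻¹ᵁ W₀))) le_rfl eX
    (by rw [left_eq_inf]; exact eZ) hW₀.hU hZaff hW₁.hU le_rfl eZ
  obtain ⟨-, poB⟩ := sect_isPushout hYp (US := b ⁻¹ᵁ W₀) (UT := i ⁻¹ᵁ (a ⁻¹ᵁ W₀))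
    (UX := b' ⁻¹ᵁ (h ⁻¹ᵁ W₀)) (UY := i' ⁻¹ᵁ (a' ⁻¹ᵁ (h ⁻¹ᵁ W₀))) hjZ eY
    (le_antisymm (le_inf hjZ' eZ)
      (inf_le_left.trans (pairOf a' b' hP'.w (h ⁻¹ᵁ W₀) hW₁.hU hW₁.hV).eq.ge))
    hW₀.hV hZaff hW₁.hV hjZ' eZ
  have fA : (f.appLE (a ⁻¹ᵁ W₀) (a' ⁻¹ᵁ (h ⁻¹ᵁ W₀)) eX).hom.Finite := by
    have h1 := IsFinite.finite_app f (a ⁻¹ᵁ W₀) hW₀.hU
    rw [Scheme.Hom.app_eq_appLE] at h1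
    exact (Scheme.Hom.appLE_congr f le_rfl rfl hX₁.symm (fun f => f.hom.Finite)).mp h1
  have fB : (g.appLE (b ⁻¹ᵁ W₀) (b' ⁻¹ᵁ (h ⁻¹ᵁ W₀)) eY).hom.Finite := by
    have h1 := IsFinite.finite_app g (b ⁻¹ᵁ W₀) hW₀.hV
    rw [Scheme.Hom.app_eq_appLE] at h1
    exact (Scheme.Hom.appLE_congr g le_rfl rfl hY₁.symm (fun f => f.hom.Finite)).mp h1
  have eA : (f.appLE (a ⁻¹ᵁ W₀) (a' ⁻¹ᵁ (h ⁻¹ᵁ W₀)) eX).hom.Etale :=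
    HasRingHomProperty.appLE (P := @Etale) f inferInstance ⟨_, hW₀.hU⟩ ⟨_, hW₁.hU⟩ eX
  have eB : (g.appLE (b ⁻¹ᵁ W₀) (b' ⁻¹ᵁ (h ⁻¹ᵁ W₀)) eY).hom.Etale :=
    HasRingHomProperty.appLE (P := @Etale) g inferInstance ⟨_, hW₀.hV⟩ ⟨_, hW₁.hV⟩ eY
  exact Groth.Agent.Lib.Helper28.Milnor.finite_etale_of_fibreSquares
    (α := a.app W₀) (β := b.app W₀)
    (π := i.appLE (a ⁻¹ᵁ W₀) (i ⁻¹ᵁ (a ⁻¹ᵁ W₀)) le_rfl)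
    (φ := j.appLE (b ⁻¹ᵁ W₀) (i ⁻¹ᵁ (a ⁻¹ᵁ W₀)) hjZ)
    (α' := a'.app (h ⁻¹ᵁ W₀)) (β' := b'.app (h ⁻¹ᵁ W₀))
    (π' := i'.appLE (a' ⁻¹ᵁ (h ⁻¹ᵁ W₀)) (i' ⁻¹ᵁ (a' ⁻¹ᵁ (h ⁻¹ᵁ W₀))) le_rfl)
    (φ' := j'.appLE (b' ⁻¹ᵁ (h ⁻¹ᵁ W₀)) (i' ⁻¹ᵁ (a' ⁻¹ᵁ (h ⁻¹ᵁ W₀))) hjZ')
    (uR := h.app W₀) (uA := f.appLE (a ⁻¹ᵁ W₀) (a' ⁻¹ᵁ (h ⁻¹ᵁ W₀)) eX)
    (uB := g.appLE (b ⁻¹ᵁ W₀) (b' ⁻¹ᵁ (h ⁻¹ᵁ W₀)) eY)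
    (u₀ := c.appLE (i ⁻¹ᵁ (a ⁻¹ᵁ W₀)) (i' ⁻¹ᵁ (a' ⁻¹ᵁ (h ⁻¹ᵁ W₀))) eZ)
    (by rw [Scheme.Hom.app_eq_appLE, Scheme.Hom.app_eq_appLE, Scheme.Hom.app_eq_appLE]
        exact appLE_comm ha.symm _ _ _ _ _ _ _ _)
    (by rw [Scheme.Hom.app_eq_appLE, Scheme.Hom.app_eq_appLE, Scheme.Hom.app_eq_appLE]
        exact appLE_comm hb.symm _ _ _ _ _ _ _ _)
    (appLE_comm hX.w.symm _ _ _ _ _ _ _ _)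
    (appLE_comm hYp.w.symm _ _ _ _ _ _ _ _)
    (by rw [Scheme.Hom.app_eq_appLE, Scheme.Hom.app_eq_appLE, Scheme.Hom.appLE_comp_appLE,
          Scheme.Hom.appLE_comp_appLE]
        exact appLE_congr' hP.w _ _ _)
    (by rw [Scheme.Hom.app_eq_appLE, Scheme.Hom.app_eq_appLE, Scheme.Hom.appLE_comp_appLE,
          Scheme.Hom.appLE_comp_appLE]
        exact appLE_congr' hP'.w _ _ _)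
    (pairOf a b hP.w W₀ hW₀.hU hW₀.hV).π_surjective
    hW₀.inj
    (fun a₁ b₁ h => by
      obtain ⟨s, hs1, hs2⟩ := hW₀.surj (FP.mk _ _ b₁ a₁ h)
      exact ⟨s, hs1, hs2⟩)
    (pairOf a' b' hP'.w (h ⁻¹ᵁ W₀) hW₁.hU hW₁.hV).π_surjective
    hW₁.inj
    (fun a₁ b₁ h => by
      obtain ⟨s, hs1, hs2⟩ := hW₁.surj (FP.mk _ _ b₁ a₁ h)
      exact ⟨s, hs1, hs2⟩)
    poA.flip poB.flip fA eA fB eB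

include hX hYp hP hY' hP' ha hb in
/-- A morphism of pushouts (along closed immersions) whose components are finite étale and
compatible over the gluing locus is finite étale, and the squares over the components are
cartesian. -/
theorem finite_etale_of_morph [IsFinite f] [Etale f] [IsFinite g] [Etale g]
    (hY : ∀ y : Y, ∃ β : APair i j, y ∈ β.V) :
    IsFinite h ∧ Etale h ∧ IsPullback a' f h a ∧ IsPullback b' g h b := by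
  have eX : ∀ W₀ : W.Opens, a' ⁻¹ᵁ (h ⁻¹ᵁ W₀) ≤ f ⁻¹ᵁ (a ⁻¹ᵁ W₀) := fun W₀ => by
    change (a' ≫ h) ⁻¹ᵁ W₀ ≤ (f ≫ a) ⁻¹ᵁ W₀
    rw [ha]
  have eY : ∀ W₀ : W.Opens, b' ⁻¹ᵁ (h ⁻¹ᵁ W₀) ≤ g ⁻¹ᵁ (b ⁻¹ᵁ W₀) := fun W₀ => by
    change (b' ≫ h) ⁻¹ᵁ W₀ ≤ (g ≫ b) ⁻¹ᵁ W₀
    rw [hb]
  have key : ∀ w : W, ∃ W₀ : W.Opens, w ∈ W₀ ∧ IsChart a b hP.w W₀ := fun w => by
    obtain ⟨W₀, hw, -, hW₀⟩ := exists_isChart hY hP w ⊤ trivial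
    exact ⟨W₀, hw, hW₀⟩
  refine ⟨?_, ?_, ?_, ?_⟩
  · apply isFinite_of_forall_exists
    intro w
    obtain ⟨W₀, hw, hW₀⟩ := key w
    obtain ⟨hW₁, hfin, -, -, -⟩ := chart_finite_etale f g c h hX hYp hP hY' hP' ha hb hW₀
      (eX W₀) (eY W₀)
    exact ⟨W₀, hw, hW₀.hW, hW₁.hW, hfin⟩
  · apply etale_of_forall_exists
    intro w
    obtain ⟨W₀, hw, hW₀⟩ := key w
    obtain ⟨hW₁, -, het, -, -⟩ := chart_finite_etale f g c h hX hYp hP hY' hP' ha hb hW₀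
      (eX W₀) (eY W₀)
    exact ⟨W₀, hw, hW₀.hW, hW₁.hW, het⟩
  · apply isPullback_of_forall_isPushout _ _ _ _ ha
    intro w
    obtain ⟨W₀, hw, hW₀⟩ := key w
    obtain ⟨hW₁, -, -, hpo, -⟩ := chart_finite_etale f g c h hX hYp hP hY' hP' ha hb hW₀
      (eX W₀) (eY W₀)
    exact ⟨W₀, hw, hW₀.hW, hW₁.hW, hW₀.hU, hW₁.hU, eX W₀, hpo.flip⟩
  · apply isPullback_of_forall_isPushout _ _ _ _ hb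
    intro w
    obtain ⟨W₀, hw, hW₀⟩ := key w
    obtain ⟨hW₁, -, -, -, hpo⟩ := chart_finite_etale f g c h hX hYp hP hY' hP' ha hb hW₀
      (eX W₀) (eY W₀)
    exact ⟨W₀, hw, hW₀.hW, hW₁.hW, hW₀.hV, hW₁.hV, eY W₀, hpo.flip⟩

end MorphEt

end Groth.Agent.Lib.Helper28.Pinch
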