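import Groth.Agent.Lib.Helper28.Pinch.Morph
import Groth.Agent.Lib.Helper28.Milnor.Cat2
import Groth.Agent.Lib.Helper28.Pinch.LocalGlobal

/-!
# Properties of morphisms of pushouts along closed immersions (chart level)
-/

set_option autoImplicit false
universe u

open CategoryTheory Limits AlgebraicGeometry

namespace Groth.Agent.Lib.Helper28.Pinch

section MorphProps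

variable {X Y Z W X' Y' Z' W' : Scheme.{u}}
  {i : Z ⟶ X} {j : Z ⟶ Y} {a : X ⟶ W} {b : Y ⟶ W}
  {i' : Z' ⟶ X'} {j' : Z' ⟶ Y'} {a' : X' ⟶ W'} {b' : Y' ⟶ W'}
  (f : X' ⟶ X) (g : Y' ⟶ Y) (c : Z' ⟶ Z) (h : W' ⟶ W)
  (hX : IsPullback i' c f i) (hYp : IsPullback j' c g j)
  [IsClosedImmersion i] [IsClosedImmersion i']
  (hP : IsPushout i j a b) (hP' : IsPushout i' j' a' b')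
  (ha : a' ≫ h = f ≫ a) (hb : b' ≫ h = g ≫ b)

include hX hYp ha hb in
/-- Over a pair of charts, the five properties of a morphism of pushouts are equivalent to those
of its components. -/
theorem chart_props {W₀ : W.Opens} {W₁ : W'.Opens}
    (hW₀ : IsChart a b hP.w W₀) (hW₁ : IsChart a' b' hP'.w W₁) (e : W₁ ≤ h ⁻¹ᵁ W₀)
    (eX : a' ⁻¹ᵁ W₁ ≤ f ⁻¹ᵁ (a ⁻¹ᵁ W₀)) (eY : b' ⁻¹ᵁ W₁ ≤ g ⁻¹ᵁ (b ⁻¹ᵁ W₀)) :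
    ((h.appLE W₀ W₁ e).hom.FiniteType ↔
      (g.appLE (b ⁻¹ᵁ W₀) (b' ⁻¹ᵁ W₁) eY).hom.FiniteType ∧
        (f.appLE (a ⁻¹ᵁ W₀) (a' ⁻¹ᵁ W₁) eX).hom.FiniteType) ∧
    ((h.appLE W₀ W₁ e).hom.Flat ↔
      (g.appLE (b ⁻¹ᵁ W₀) (b' ⁻¹ᵁ W₁) eY).hom.Flat ∧
        (f.appLE (a ⁻¹ᵁ W₀) (a' ⁻¹ᵁ W₁) eX).hom.Flat) ∧
    ((h.appLE W₀ W₁ e).hom.Flat ∧ (h.appLE W₀ W₁ e).hom.FinitePresentation ↔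
      ((g.appLE (b ⁻¹ᵁ W₀) (b' ⁻¹ᵁ W₁) eY).hom.Flat ∧
        (g.appLE (b ⁻¹ᵁ W₀) (b' ⁻¹ᵁ W₁) eY).hom.FinitePresentation) ∧
      ((f.appLE (a ⁻¹ᵁ W₀) (a' ⁻¹ᵁ W₁) eX).hom.Flat ∧
        (f.appLE (a ⁻¹ᵁ W₀) (a' ⁻¹ᵁ W₁) eX).hom.FinitePresentation)) ∧
    ((h.appLE W₀ W₁ e).hom.Smooth ↔
      (g.appLE (b ⁻¹ᵁ W₀) (b' ⁻¹ᵁ W₁) eY).hom.Smooth ∧
        (f.appLE (a ⁻¹ᵁ W₀) (a' ⁻¹ᵁ W₁) eX).hom.Smooth) ∧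
    ((h.appLE W₀ W₁ e).hom.Etale ↔
      (g.appLE (b ⁻¹ᵁ W₀) (b' ⁻¹ᵁ W₁) eY).hom.Etale ∧
        (f.appLE (a ⁻¹ᵁ W₀) (a' ⁻¹ᵁ W₁) eX).hom.Etale) := by
  have eZ : i' ⁻¹ᵁ (a' ⁻¹ᵁ W₁) ≤ c ⁻¹ᵁ (i ⁻¹ᵁ (a ⁻¹ᵁ W₀)) := by
    have h1 : i' ⁻¹ᵁ (a' ⁻¹ᵁ W₁) ≤ i' ⁻¹ᵁ (f ⁻¹ᵁ (a ⁻¹ᵁ W₀)) := fun z hz => eX hz
    refine h1.trans (le_of_eq ?_)
    change (i' ≫ f) ⁻¹ᵁ (a ⁻¹ᵁ W₀) = (c ≫ i) ⁻¹ᵁ (a ⁻¹ᵁ W₀)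
    rw [hX.w]
  have hjZ : i ⁻¹ᵁ (a ⁻¹ᵁ W₀) ≤ j ⁻¹ᵁ (b ⁻¹ᵁ W₀) :=
    (pairOf a b hP.w W₀ hW₀.hU hW₀.hV).ZU_le_j
  have hjZ' : i' ⁻¹ᵁ (a' ⁻¹ᵁ W₁) ≤ j' ⁻¹ᵁ (b' ⁻¹ᵁ W₁) :=
    (pairOf a' b' hP'.w W₁ hW₁.hU hW₁.hV).ZU_le_j
  have hZaff : IsAffineOpen (i ⁻¹ᵁ (a ⁻¹ᵁ W₀)) := hW₀.hU.preimage i
  -- the two cocartesian squares over `Z`
  obtain ⟨-, poA⟩ := sect_isPushout hX (US := a ⁻¹ᵁ W₀) (UT := i ⁻¹ᵁ (a ⁻¹ᵁ W₀))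
    (UX := a' ⁻¹ᵁ W₁) (UY := i' ⁻¹ᵁ (a' ⁻¹ᵁ W₁)) le_rfl eX
    (by rw [left_eq_inf]; exact eZ) hW₀.hU hZaff hW₁.hU le_rfl eZ
  obtain ⟨-, poB⟩ := sect_isPushout hYp (US := b ⁻¹ᵁ W₀) (UT := i ⁻¹ᵁ (a ⁻¹ᵁ W₀))
    (UX := b' ⁻¹ᵁ W₁) (UY := i' ⁻¹ᵁ (a' ⁻¹ᵁ W₁)) hjZ eY
    (le_antisymm (le_inf hjZ' eZ)
      (inf_le_left.trans (pairOf a' b' hP'.w W₁ hW₁.hU hW₁.hV).eq.ge))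
    hW₀.hV hZaff hW₁.hV hjZ' eZ
  exact Groth.Agent.Lib.Helper28.Milnor.props_of_fibreSquares
    (α := a.app W₀) (β := b.app W₀)
    (π := i.appLE (a ⁻¹ᵁ W₀) (i ⁻¹ᵁ (a ⁻¹ᵁ W₀)) le_rfl)
    (φ := j.appLE (b ⁻¹ᵁ W₀) (i ⁻¹ᵁ (a ⁻¹ᵁ W₀)) hjZ)
    (α' := a'.app W₁) (β' := b'.app W₁)
    (π' := i'.appLE (a' ⁻¹ᵁ W₁) (i' ⁻¹ᵁ (a' ⁻¹ᵁ W₁)) le_rfl)
    (φ' := j'.appLE (b' ⁻¹ᵁ W₁) (i' ⁻¹ᵁ (a' ⁻¹ᵁ W₁)) hjZ')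
    (uR := h.appLE W₀ W₁ e) (uA := f.appLE (a ⁻¹ᵁ W₀) (a' ⁻¹ᵁ W₁) eX)
    (uB := g.appLE (b ⁻¹ᵁ W₀) (b' ⁻¹ᵁ W₁) eY)
    (u₀ := c.appLE (i ⁻¹ᵁ (a ⁻¹ᵁ W₀)) (i' ⁻¹ᵁ (a' ⁻¹ᵁ W₁)) eZ)
    (by rw [Scheme.Hom.app_eq_appLE, Scheme.Hom.app_eq_appLE]
        exact appLE_comm ha.symm _ _ _ _ _ _ _ _)
    (by rw [Scheme.Hom.app_eq_appLE, Scheme.Hom.app_eq_appLE]
        exact appLE_comm hb.symm _ _ _ _ _ _ _ _)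
    (appLE_comm hX.w.symm _ _ _ _ _ _ _ _)
    (appLE_comm hYp.w.symm _ _ _ _ _ _ _ _)
    (by rw [Scheme.Hom.app_eq_appLE, Scheme.Hom.app_eq_appLE, Scheme.Hom.appLE_comp_appLE,
          Scheme.Hom.appLE_comp_appLE]
        exact appLE_congr' hP.w _ _ _)
    (by rw [Scheme.Hom.app_eq_appLE, Scheme.Hom.app_eq_appLE, Scheme.Hom.appLE_comp_appLE,
          Scheme.Hom.appLE_comp_appLE]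
        exact appLE_congr' hP'.w _ _ _)
    (pairOf a b hP.w W₀ hW₀.hU hW₀.hV).π_surjective
    hW₀.inj
    (fun a₁ b₁ h => by
      obtain ⟨s, hs1, hs2⟩ := hW₀.surj (FP.mk _ _ b₁ a₁ h)
      exact ⟨s, hs1, hs2⟩)
    (pairOf a' b' hP'.w W₁ hW₁.hU hW₁.hV).π_surjective
    hW₁.inj
    (fun a₁ b₁ h => by
      obtain ⟨s, hs1, hs2⟩ := hW₁.surj (FP.mk _ _ b₁ a₁ h)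
      exact ⟨s, hs1, hs2⟩)
    poA.flip poB.flip

variable (hY : ∀ y : Y, ∃ β : APair i j, y ∈ β.V) (hY' : ∀ y : Y', ∃ β : APair i' j', y ∈ β.V)

include hP hP' hY hY' ha hb in
/-- Every point of the source pushout has a chart mapping into a chart of the target. -/
theorem exists_chart_pair (p' : W') :
    ∃ (W₀ : W.Opens) (W₁ : W'.Opens), p' ∈ W₁ ∧ IsChart a b hP.w W₀ ∧ IsChart a' b' hP'.w W₁ ∧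
      W₁ ≤ h ⁻¹ᵁ W₀ ∧ a' ⁻¹ᵁ W₁ ≤ f ⁻¹ᵁ (a ⁻¹ᵁ W₀) ∧ b' ⁻¹ᵁ W₁ ≤ g ⁻¹ᵁ (b ⁻¹ᵁ W₀) := by
  obtain ⟨W₀, hw₀, -, hW₀⟩ := exists_isChart hY hP (h p') ⊤ trivial
  obtain ⟨W₁, hw₁, e, hW₁⟩ := exists_isChart hY' hP' p' (h ⁻¹ᵁ W₀) hw₀
  have e1 : a' ⁻¹ᵁ (h ⁻¹ᵁ W₀) = f ⁻¹ᵁ (a ⁻¹ᵁ W₀) := by
    change (a' ≫ h) ⁻¹ᵁ W₀ = (f ≫ a) ⁻¹ᵁ W₀
    rw [ha]
  have e2 : b' ⁻¹ᵁ (h ⁻¹ᵁ W₀) = g ⁻¹ᵁ (b ⁻¹ᵁ W₀) := by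
    change (b' ≫ h) ⁻¹ᵁ W₀ = (g ≫ b) ⁻¹ᵁ W₀
    rw [hb]
  exact ⟨W₀, W₁, hw₁, hW₀, hW₁, e,
    fun x hx => e1.le (show x ∈ a' ⁻¹ᵁ (h ⁻¹ᵁ W₀) from e hx),
    fun x hx => e2.le (show x ∈ b' ⁻¹ᵁ (h ⁻¹ᵁ W₀) from e hx)⟩

include hP hP' hY hY' ha hb in
/-- Generic local-to-global principle: from the components to the morphism of pushouts. -/
theorem morph_of_components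
    {P₁ P₂ : MorphismProperty Scheme.{u}}
    {Q₁ Q₂ : ∀ {R S : Type u} [CommRing R] [CommRing S], (R →+* S) → Prop}
    [HasRingHomProperty P₁ Q₁] [HasRingHomProperty P₂ Q₂]
    (hQ₂ : RingHom.StableUnderCompositionWithLocalizationAwaySource Q₂)
    (key : ∀ (W₀ : W.Opens) (W₁ : W'.Opens), IsChart a b hP.w W₀ → IsChart a' b' hP'.w W₁ →
      ∀ (e : W₁ ≤ h ⁻¹ᵁ W₀) (eX : a' ⁻¹ᵁ W₁ ≤ f ⁻¹ᵁ (a ⁻¹ᵁ W₀))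
        (eY : b' ⁻¹ᵁ W₁ ≤ g ⁻¹ᵁ (b ⁻¹ᵁ W₀)),
      Q₁ (g.appLE (b ⁻¹ᵁ W₀) (b' ⁻¹ᵁ W₁) eY).hom → Q₂ (g.appLE (b ⁻¹ᵁ W₀) (b' ⁻¹ᵁ W₁) eY).hom →
      Q₁ (f.appLE (a ⁻¹ᵁ W₀) (a' ⁻¹ᵁ W₁) eX).hom → Q₂ (f.appLE (a ⁻¹ᵁ W₀) (a' ⁻¹ᵁ W₁) eX).hom →
      Q₂ (h.appLE W₀ W₁ e).hom)
    (hf₁ : P₁ f) (hf₂ : P₂ f) (hg₁ : P₁ g) (hg₂ : P₂ g) : P₂ h := by
  rw [HasRingHomProperty.iff_exists_appLE (P := P₂) hQ₂]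
  intro p'
  obtain ⟨W₀, W₁, hp', hW₀, hW₁, e, eX, eY⟩ :=
    exists_chart_pair f g h hP hP' ha hb hY hY' p'
  refine ⟨⟨W₀, hW₀.hW⟩, ⟨W₁, hW₁.hW⟩, hp', e, ?_⟩
  exact key W₀ W₁ hW₀ hW₁ e eX eY
    (HasRingHomProperty.appLE (P := P₁) g hg₁ ⟨_, hW₀.hV⟩ ⟨_, hW₁.hV⟩ eY)
    (HasRingHomProperty.appLE (P := P₂) g hg₂ ⟨_, hW₀.hV⟩ ⟨_, hW₁.hV⟩ eY)
    (HasRingHomProperty.appLE (P := P₁) f hf₁ ⟨_, hW₀.hU⟩ ⟨_, hW₁.hU⟩ eX)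
    (HasRingHomProperty.appLE (P := P₂) f hf₂ ⟨_, hW₀.hU⟩ ⟨_, hW₁.hU⟩ eX)

include hP hP' hY hY' ha hb in
/-- Generic local-to-global principle: from the morphism of pushouts to its components. -/
theorem components_of_morph
    {P₁ P₂ : MorphismProperty Scheme.{u}}
    {Q₁ Q₂ : ∀ {R S : Type u} [CommRing R] [CommRing S], (R →+* S) → Prop}
    [HasRingHomProperty P₁ Q₁] [HasRingHomProperty P₂ Q₂]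
    (hQ₂ : RingHom.StableUnderCompositionWithLocalizationAwaySource Q₂)
    (key : ∀ (W₀ : W.Opens) (W₁ : W'.Opens), IsChart a b hP.w W₀ → IsChart a' b' hP'.w W₁ →
      ∀ (e : W₁ ≤ h ⁻¹ᵁ W₀) (eX : a' ⁻¹ᵁ W₁ ≤ f ⁻¹ᵁ (a ⁻¹ᵁ W₀))
        (eY : b' ⁻¹ᵁ W₁ ≤ g ⁻¹ᵁ (b ⁻¹ᵁ W₀)),
      Q₁ (h.appLE W₀ W₁ e).hom → Q₂ (h.appLE W₀ W₁ e).hom →
      Q₂ (g.appLE (b ⁻¹ᵁ W₀) (b' ⁻¹ᵁ W₁) eY).hom ∧ Q₂ (f.appLE (a ⁻¹ᵁ W₀) (a' ⁻¹ᵁ W₁) eX).hom)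
    (hh₁ : P₁ h) (hh₂ : P₂ h) : P₂ f ∧ P₂ g := by
  constructor
  · rw [HasRingHomProperty.iff_exists_appLE (P := P₂) hQ₂]
    intro x'
    obtain ⟨W₀, W₁, hp', hW₀, hW₁, e, eX, eY⟩ :=
      exists_chart_pair f g h hP hP' ha hb hY hY' (a' x')
    refine ⟨⟨_, hW₀.hU⟩, ⟨_, hW₁.hU⟩, hp', eX, ?_⟩
    exact (key W₀ W₁ hW₀ hW₁ e eX eY
      (HasRingHomProperty.appLE (P := P₁) h hh₁ ⟨_, hW₀.hW⟩ ⟨_, hW₁.hW⟩ e)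
      (HasRingHomProperty.appLE (P := P₂) h hh₂ ⟨_, hW₀.hW⟩ ⟨_, hW₁.hW⟩ e)).2
  · rw [HasRingHomProperty.iff_exists_appLE (P := P₂) hQ₂]
    intro y'
    obtain ⟨W₀, W₁, hp', hW₀, hW₁, e, eX, eY⟩ :=
      exists_chart_pair f g h hP hP' ha hb hY hY' (b' y')
    refine ⟨⟨_, hW₀.hV⟩, ⟨_, hW₁.hV⟩, hp', eY, ?_⟩
    exact (key W₀ W₁ hW₀ hW₁ e eX eY
      (HasRingHomProperty.appLE (P := P₁) h hh₁ ⟨_, hW₀.hW⟩ ⟨_, hW₁.hW⟩ e)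
      (HasRingHomProperty.appLE (P := P₂) h hh₂ ⟨_, hW₀.hW⟩ ⟨_, hW₁.hW⟩ e)).1

end MorphProps

end Groth.Agent.Lib.Helper28.Pinch
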