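import Groth.Agent.Lib.Helper28.Pinch.BC
import Groth.Agent.Lib.Helper28.Pinch.HY

/-!
# Base change of pushouts: formulation in `Over` categories
-/

set_option autoImplicit false
universe u

open CategoryTheory Limits AlgebraicGeometry

namespace Groth.Agent.Lib.Helper28.Pinch

/-- The naturality square of `Over.pullback g` is cartesian. -/
theorem isPullback_overPullback_map {S S' : Scheme.{u}} (g : S' ⟶ S) {A B : Over S} (φ : A ⟶ B) :
    IsPullback (pullback.fst A.hom g) ((Over.pullback g).map φ).left φ.left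
      (pullback.fst B.hom g) := by
  refine IsPullback.of_bot (v₂₁ := pullback.snd B.hom g) (v₂₂ := B.hom) (h₃₁ := g) ?_ ?_
    (IsPullback.of_hasPullback B.hom g)
  · have h1 : ((Over.pullback g).map φ).left ≫ pullback.snd B.hom g = pullback.snd A.hom g :=
      pullback.lift_snd _ _ _
    have h2 : φ.left ≫ B.hom = A.hom := Over.w φ
    rw [h1, h2]
    exact IsPullback.of_hasPullback A.hom g
  · exact (pullback.lift_fst _ _ _).symm

/-- The square of `pullback.map` over identities is cartesian. -/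
theorem isPullback_map_id {A B S S' : Scheme.{u}} (p : A ⟶ S) (qB : B ⟶ S) (g : S' ⟶ S)
    (φ : A ⟶ B) (h1 : p ≫ 𝟙 S = φ ≫ qB) (h2 : g ≫ 𝟙 S = 𝟙 S' ≫ g) :
    IsPullback (pullback.fst p g) (pullback.map p g qB g φ (𝟙 S') (𝟙 S) h1 h2) φ
      (pullback.fst qB g) := by
  refine IsPullback.of_bot (v₂₁ := pullback.snd qB g) (v₂₂ := qB) (h₃₁ := g) ?_ ?_
    (IsPullback.of_hasPullback qB g)
  · have e1 : pullback.map p g qB g φ (𝟙 S') (𝟙 S) h1 h2 ≫ pullback.snd qB g = pullback.snd p g := by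
      rw [pullback.map, pullback.lift_snd, Category.comp_id]
    have e2 : φ ≫ qB = p := by rw [← h1, Category.comp_id]
    rw [e1, e2]
    exact IsPullback.of_hasPullback p g
  · rw [pullback.map, pullback.lift_fst]

lemma map_id_fst {A B S S' : Scheme.{u}} (p : A ⟶ S) (qB : B ⟶ S) (g : S' ⟶ S)
    (φ : A ⟶ B) (h1 : p ≫ 𝟙 S = φ ≫ qB) (h2 : g ≫ 𝟙 S = 𝟙 S' ≫ g) :
    pullback.map p g qB g φ (𝟙 S') (𝟙 S) h1 h2 ≫ pullback.fst qB g = pullback.fst p g ≫ φ := by
  unfold pullback.map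
  simp only [pullback.lift_fst]

lemma map_id_snd {A B S S' : Scheme.{u}} (p : A ⟶ S) (qB : B ⟶ S) (g : S' ⟶ S)
    (φ : A ⟶ B) (h1 : p ≫ 𝟙 S = φ ≫ qB) (h2 : g ≫ 𝟙 S = 𝟙 S' ≫ g) :
    pullback.map p g qB g φ (𝟙 S') (𝟙 S) h1 h2 ≫ pullback.snd qB g = pullback.snd p g := by
  unfold pullback.map
  simp only [pullback.lift_snd, Category.comp_id]

/-- Composition of `pullback.map`s over identities. -/
lemma map_id_comp {A B C S S' : Scheme.{u}} (pA : A ⟶ S) (pB : B ⟶ S) (pC : C ⟶ S)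
    (g : S' ⟶ S) (φ : A ⟶ B) (ψ : B ⟶ C) (χ : A ⟶ C) (hχ : φ ≫ ψ = χ)
    (h1 : pA ≫ 𝟙 S = φ ≫ pB) (h2 : g ≫ 𝟙 S = 𝟙 S' ≫ g)
    (h3 : pB ≫ 𝟙 S = ψ ≫ pC) (h5 : pA ≫ 𝟙 S = χ ≫ pC) :
    pullback.map pA g pB g φ (𝟙 S') (𝟙 S) h1 h2 ≫ pullback.map pB g pC g ψ (𝟙 S') (𝟙 S) h3 h2 =
      pullback.map pA g pC g χ (𝟙 S') (𝟙 S) h5 h2 := by
  apply pullback.hom_ext
  · rw [Category.assoc, map_id_fst, ← Category.assoc, map_id_fst, Category.assoc, hχ, map_id_fst]
  · rw [Category.assoc, map_id_snd, map_id_snd, map_id_snd]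

/-- **Flat base change of pinchings in `Over S`.** -/
theorem isPushout_overPullback {S S' : Scheme.{u}} (g : S' ⟶ S)
    {Y X₁ X₂ X : Over S} (θ₁ : Y ⟶ X₁) (θ₂ : Y ⟶ X₂) [IsClosedImmersion θ₁.left]
    (hY : ∀ y : X₂.left, ∃ β : APair θ₁.left θ₂.left, y ∈ β.V)
    (φ₁ : X₁ ⟶ X) (φ₂ : X₂ ⟶ X) (hX : IsPushout θ₁ θ₂ φ₁ φ₂)
    (hflat : Flat g ∨ Flat Y.hom) :
    IsPushout ((Over.pullback g).map θ₁) ((Over.pullback g).map θ₂)
      ((Over.pullback g).map φ₁) ((Over.pullback g).map φ₂) := by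
  haveI : PreservesColimitsOfSize.{0, 0} (Over.forget S) :=
    (Over.forgetAdjStar S).leftAdjoint_preservesColimits
  have hP : IsPushout θ₁.left θ₂.left φ₁.left φ₂.left := hX.map (Over.forget S)
  have hcomm : (Over.pullback g).map θ₁ ≫ (Over.pullback g).map φ₁ =
      (Over.pullback g).map θ₂ ≫ (Over.pullback g).map φ₂ := by
    rw [← Functor.map_comp, ← Functor.map_comp, hX.w]
  refine IsPushout.of_map (Over.forget S') hcomm ?_
  change IsPushout ((Over.pullback g).map θ₁).left ((Over.pullback g).map θ₂).left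
    ((Over.pullback g).map φ₁).left ((Over.pullback g).map φ₂).left
  refine isPushout_baseChange X.hom g (IsPullback.of_hasPullback X.hom g)
    (isPullback_overPullback_map g φ₁) (isPullback_overPullback_map g φ₂)
    (c' := ((Over.pullback g).map (θ₁ ≫ φ₁)).left) (isPullback_overPullback_map g (θ₁ ≫ φ₁))
    (pullback.lift_fst _ _ _) ?_ (pullback.lift_fst _ _ _) ?_ hY hP ?_
  · rw [Functor.map_comp]; rfl
  · rw [hX.w, Functor.map_comp]; rfl
  · rcases hflat with h | h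
    · exact Or.inl h
    · right
      have : (θ₁.left ≫ φ₁.left) ≫ X.hom = Y.hom := by
        rw [Category.assoc, Over.w φ₁, Over.w θ₁]
      rw [this]
      exact h

end Groth.Agent.Lib.Helper28.Pinch
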