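import Groth.Agent.Lib.Helper28.Pinch.PShMain
import Groth.Agent.Lib.Helper28.Pinch.OverBC

/-!
# Base change of pinchings as pushouts of ringed spaces
-/

set_option autoImplicit false
universe u

open CategoryTheory Limits AlgebraicGeometry

namespace Groth.Agent.Lib.Helper28.Pinch

/-- The base change of a pinching of `S`-schemes with `Z` flat over `S` is a pushout of ringed
spaces. -/
theorem isPushout_sheafedSpace_overPullback {S X Z Z' X' : Scheme.{u}}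
    (fX : X ⟶ S) (fZ' : Z' ⟶ S) (fX' : X' ⟶ S) (ι : Z ⟶ X) (q : Z ⟶ Z') (π : X ⟶ X')
    (ι' : Z' ⟶ X') [IsClosedImmersion ι] [IsClosedImmersion ι'] [IsAffineHom q] [IsAffineHom π]
    (hq : q ≫ fZ' = ι ≫ fX) (hπ : π ≫ fX' = fX) (hι' : ι' ≫ fX' = fZ')
    (hP : IsPushout ι q π ι') [Flat (ι ≫ fX)] {T : Scheme.{u}} (g : T ⟶ S) :
    IsPushout
      (FSh.map ((Over.pullback g).map (Over.homMk ι rfl : Over.mk (ι ≫ fX) ⟶ Over.mk fX)).left)
      (FSh.map ((Over.pullback g).map (Over.homMk q hq : Over.mk (ι ≫ fX) ⟶ Over.mk fZ')).left)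
      (FSh.map ((Over.pullback g).map (Over.homMk π hπ : Over.mk fX ⟶ Over.mk fX')).left)
      (FSh.map ((Over.pullback g).map (Over.homMk ι' hι' : Over.mk fZ' ⟶ Over.mk fX')).left) := by
  have hY := hY_of_isAffineHom_of_isAffineHom ι q π ι' hP.w
  haveI : PreservesColimitsOfSize.{0, 0} (Over.forget S) :=
    (Over.forgetAdjStar S).leftAdjoint_preservesColimits
  haveI : PreservesColimitsOfSize.{0, 0} (Over.forget T) :=
    (Over.forgetAdjStar T).leftAdjoint_preservesColimits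
  obtain ⟨θ₁, hθ₁⟩ : ∃ θ₁ : Over.mk (ι ≫ fX) ⟶ Over.mk fX, θ₁ = Over.homMk ι rfl := ⟨_, rfl⟩
  obtain ⟨θ₂, hθ₂⟩ : ∃ θ₂ : Over.mk (ι ≫ fX) ⟶ Over.mk fZ', θ₂ = Over.homMk q hq := ⟨_, rfl⟩
  obtain ⟨φ₁, hφ₁⟩ : ∃ φ₁ : Over.mk fX ⟶ Over.mk fX', φ₁ = Over.homMk π hπ := ⟨_, rfl⟩
  obtain ⟨φ₂, hφ₂⟩ : ∃ φ₂ : Over.mk fZ' ⟶ Over.mk fX', φ₂ = Over.homMk ι' hι' := ⟨_, rfl⟩
  rw [← hθ₁, ← hθ₂, ← hφ₁, ← hφ₂]
  have hθ₁l : θ₁.left = ι := by rw [hθ₁]; rfl
  have hθ₂l : θ₂.left = q := by rw [hθ₂]; rfl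
  have hφ₁l : φ₁.left = π := by rw [hφ₁]; rfl
  have hφ₂l : φ₂.left = ι' := by rw [hφ₂]; rfl
  haveI : IsClosedImmersion θ₁.left := by rw [hθ₁l]; infer_instance
  have hw : θ₁ ≫ φ₁ = θ₂ ≫ φ₂ := by
    apply Over.OverMorphism.ext
    change θ₁.left ≫ φ₁.left = θ₂.left ≫ φ₂.left
    rw [hθ₁l, hθ₂l, hφ₁l, hφ₂l, hP.w]
  have hXo : IsPushout θ₁ θ₂ φ₁ φ₂ := by
    refine IsPushout.of_map (Over.forget S) hw ?_
    change IsPushout θ₁.left θ₂.left φ₁.left φ₂.left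
    rw [hθ₁l, hθ₂l, hφ₁l, hφ₂l]
    exact hP
  have hY₀ : ∀ y : (Over.mk fZ').left, ∃ β : APair θ₁.left θ₂.left, y ∈ β.V := by
    rw [hθ₁l, hθ₂l]; exact hY
  have hT := isPushout_overPullback g θ₁ θ₂ hY₀ φ₁ φ₂ hXo (Or.inr ‹Flat (ι ≫ fX)›)
  have hPT : IsPushout ((Over.pullback g).map θ₁).left ((Over.pullback g).map θ₂).left
      ((Over.pullback g).map φ₁).left ((Over.pullback g).map φ₂).left := hT.map (Over.forget T)
  -- properties of the base-changed morphisms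
  have sq₁ := isPullback_overPullback_map g θ₁
  have sq₂ := isPullback_overPullback_map g θ₂
  have sq₃ := isPullback_overPullback_map g φ₁
  have sq₄ := isPullback_overPullback_map g φ₂
  rw [hθ₁l] at sq₁
  rw [hθ₂l] at sq₂
  rw [hφ₁l] at sq₃
  rw [hφ₂l] at sq₄
  haveI : IsClosedImmersion ((Over.pullback g).map θ₁).left :=
    MorphismProperty.of_isPullback (P := @IsClosedImmersion) sq₁ inferInstance
  haveI : IsAffineHom ((Over.pullback g).map θ₂).left :=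
    MorphismProperty.of_isPullback (P := @IsAffineHom) sq₂ inferInstance
  haveI : IsAffineHom ((Over.pullback g).map φ₁).left :=
    MorphismProperty.of_isPullback (P := @IsAffineHom) sq₃ inferInstance
  haveI : IsClosedImmersion ((Over.pullback g).map φ₂).left :=
    MorphismProperty.of_isPullback (P := @IsClosedImmersion) sq₄ inferInstance
  have hYT := hY_of_isAffineHom_of_isAffineHom _ _ _ _ hPT.w
  exact isPushout_sheafedSpace hYT hPT

end Groth.Agent.Lib.Helper28.Pinch
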