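import Groth.Agent.Lib.Helper28.Pinch.Charts

/-!
# Sections of the structure sheaf of a pinching over arbitrary opens
-/

set_option autoImplicit false
universe u

open CategoryTheory Limits AlgebraicGeometry TopologicalSpace

namespace Groth.Agent.Lib.Helper28.Pinch

namespace PShSec

variable {X Y Z P : Scheme.{u}} {i : Z ⟶ X} {j : Z ⟶ Y} [IsClosedImmersion i]
  (hY : ∀ y : Y, ∃ β : APair i j, y ∈ β.V) {a : X ⟶ P} {b : Y ⟶ P} (hP : IsPushout i j a b)

lemma app_map_apply {A B : Scheme.{u}} (f : A ⟶ B) {U V : B.Opens} (h : V ≤ U) (r : Γ(B, U)) :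
    (f.app V).hom ((B.presheaf.map (homOfLE h).op).hom r) =
      (A.presheaf.map (homOfLE (f.preimage_mono h)).op).hom ((f.app U).hom r) := by
  have := congrArg (fun k => k.hom r) (f.naturality (homOfLE h).op)
  simp only [CommRingCat.hom_comp, RingHom.comp_apply] at this
  exact this

lemma map_map_apply {A : Scheme.{u}} {U V W : A.Opens} (h : V ≤ U) (h' : W ≤ V) (r : Γ(A, U)) :
    (A.presheaf.map (homOfLE h').op).hom ((A.presheaf.map (homOfLE h).op).hom r) =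
      (A.presheaf.map (homOfLE (h'.trans h)).op).hom r := by
  rw [← RingHom.comp_apply, ← CommRingCat.hom_comp, ← Functor.map_comp]
  rfl

include hY hP in
/-- Sections of the pinching are determined by their pullbacks to `X` and `Y`. -/
theorem sections_inj (U : P.Opens) (r : Γ(P, U)) (h1 : (a.app U).hom r = 0)
    (h2 : (b.app U).hom r = 0) : r = 0 := by
  refine TopCat.Presheaf.section_ext P.sheaf U r 0 ?_
  intro p hp
  obtain ⟨W, hpW, hWU, hW⟩ := exists_isChart hY hP p U hp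
  have hres : (P.presheaf.map (homOfLE hWU).op).hom r = 0 := by
    apply hW.inj
    · change (a.app W).hom _ = 0
      rw [app_map_apply, h1, map_zero]
    · change (b.app W).hom _ = 0
      rw [app_map_apply, h2, map_zero]
  change P.presheaf.germ U p hp r = P.presheaf.germ U p hp 0
  rw [← TopCat.Presheaf.germ_res_apply P.presheaf (homOfLE hWU) p hpW r]
  change P.presheaf.germ W p hpW ((P.presheaf.map (homOfLE hWU).op).hom r) = _
  rw [hres, map_zero, map_zero]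

include hP in
omit [IsClosedImmersion i] in
lemma preimage_le (U : P.Opens) : i ⁻¹ᵁ (a ⁻¹ᵁ U) ≤ j ⁻¹ᵁ (b ⁻¹ᵁ U) := by
  rw [← Scheme.Hom.comp_preimage, ← Scheme.Hom.comp_preimage, hP.w]

include hY hP in
/-- Compatible sections on `X` and `Y` glue to a section of the pinching. -/
theorem sections_surj (U : P.Opens) (s : Γ(X, a ⁻¹ᵁ U)) (t : Γ(Y, b ⁻¹ᵁ U))
    (h : (i.app (a ⁻¹ᵁ U)).hom s =
      (j.appLE (b ⁻¹ᵁ U) (i ⁻¹ᵁ (a ⁻¹ᵁ U)) (preimage_le hP U)).hom t) :
    ∃ r : Γ(P, U), (a.app U).hom r = s ∧ (b.app U).hom r = t := by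
  let ι := {W : P.Opens // W ≤ U ∧ IsChart a b hP.w W}
  have hex : ∀ W : ι, ∃ r : Γ(P, W.1),
      (a.app W.1).hom r = (X.presheaf.map (homOfLE (a.preimage_mono W.2.1)).op).hom s ∧
      (b.app W.1).hom r = (Y.presheaf.map (homOfLE (b.preimage_mono W.2.1)).op).hom t := by
    rintro ⟨W, hWU, hW⟩
    have hZle : i ⁻¹ᵁ (a ⁻¹ᵁ W) ≤ i ⁻¹ᵁ (a ⁻¹ᵁ U) := i.preimage_mono (a.preimage_mono hWU)
    have h' : (Z.presheaf.map (homOfLE hZle).op).hom ((i.app (a ⁻¹ᵁ U)).hom s) =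
        (Z.presheaf.map (homOfLE hZle).op).hom
          ((j.appLE (b ⁻¹ᵁ U) (i ⁻¹ᵁ (a ⁻¹ᵁ U)) (preimage_le hP U)).hom t) :=
      congrArg (fun x => (Z.presheaf.map (homOfLE hZle).op).hom x) h
    have e1 : (Z.presheaf.map (homOfLE hZle).op).hom ((i.app (a ⁻¹ᵁ U)).hom s) =
        (i.appLE (a ⁻¹ᵁ W) (i ⁻¹ᵁ (a ⁻¹ᵁ W)) le_rfl).hom
          ((X.presheaf.map (homOfLE (a.preimage_mono hWU)).op).hom s) := by
      rw [← RingHom.comp_apply, ← CommRingCat.hom_comp, ← RingHom.comp_apply,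
        ← CommRingCat.hom_comp, Scheme.Hom.map_appLE]
      rfl
    have e2 : (Z.presheaf.map (homOfLE hZle).op).hom
        ((j.appLE (b ⁻¹ᵁ U) (i ⁻¹ᵁ (a ⁻¹ᵁ U)) (preimage_le hP U)).hom t) =
        (j.appLE (b ⁻¹ᵁ W) (i ⁻¹ᵁ (a ⁻¹ᵁ W)) (preimage_le hP W)).hom
          ((Y.presheaf.map (homOfLE (b.preimage_mono hWU)).op).hom t) := by
      rw [← RingHom.comp_apply, ← CommRingCat.hom_comp, ← RingHom.comp_apply,
        ← CommRingCat.hom_comp, Scheme.Hom.map_appLE, Scheme.Hom.appLE_map]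
    rw [e1, e2] at h'
    obtain ⟨r, hr1, hr2⟩ := hW.surj (FP.mk _ _
      ((Y.presheaf.map (homOfLE (b.preimage_mono hWU)).op).hom t)
      ((X.presheaf.map (homOfLE (a.preimage_mono hWU)).op).hom s) h'.symm)
    exact ⟨r, hr1, hr2⟩
  choose rW hrW1 hrW2 using hex
  have hcompat : TopCat.Presheaf.IsCompatible P.sheaf.obj (fun W : ι => W.1) rW := by
    intro W W'
    have hsub : (P.presheaf.map (homOfLE (inf_le_left : W.1 ⊓ W'.1 ≤ W.1)).op).hom (rW W) -
        (P.presheaf.map (homOfLE (inf_le_right : W.1 ⊓ W'.1 ≤ W'.1)).op).hom (rW W') = 0 := by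
      apply sections_inj hY hP
      · rw [map_sub, app_map_apply, app_map_apply, hrW1, hrW1, map_map_apply, map_map_apply,
          sub_self]
      · rw [map_sub, app_map_apply, app_map_apply, hrW2, hrW2, map_map_apply, map_map_apply,
          sub_self]
    exact sub_eq_zero.mp hsub
  have hcover : U ≤ ⨆ W : ι, W.1 := by
    intro p hp
    obtain ⟨W, hpW, hWU, hW⟩ := exists_isChart hY hP p U hp
    exact Opens.mem_iSup.2 ⟨⟨W, hWU, hW⟩, hpW⟩
  obtain ⟨r, hr, -⟩ := TopCat.Sheaf.existsUnique_gluing' P.sheaf (fun W : ι => W.1) U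
    (fun W => homOfLE W.2.1) hcover rW hcompat
  have hr' : ∀ W : ι, (P.presheaf.map (homOfLE W.2.1).op).hom r = rW W := hr
  refine ⟨r, ?_, ?_⟩
  · refine TopCat.Sheaf.eq_of_locally_eq' X.sheaf (fun W : ι => a ⁻¹ᵁ W.1) (a ⁻¹ᵁ U)
      (fun W => homOfLE (a.preimage_mono W.2.1)) ?_ _ _ fun W => ?_
    · intro x hx
      obtain ⟨W, hpW, hWU, hW⟩ := exists_isChart hY hP (a x) U hx
      exact Opens.mem_iSup.2 ⟨⟨W, hWU, hW⟩, hpW⟩
    · change (X.presheaf.map (homOfLE (a.preimage_mono W.2.1)).op).hom ((a.app U).hom r) =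
        (X.presheaf.map (homOfLE (a.preimage_mono W.2.1)).op).hom s
      rw [← app_map_apply a W.2.1 r, hr' W, hrW1]
  · refine TopCat.Sheaf.eq_of_locally_eq' Y.sheaf (fun W : ι => b ⁻¹ᵁ W.1) (b ⁻¹ᵁ U)
      (fun W => homOfLE (b.preimage_mono W.2.1)) ?_ _ _ fun W => ?_
    · intro y hy
      obtain ⟨W, hpW, hWU, hW⟩ := exists_isChart hY hP (b y) U hy
      exact Opens.mem_iSup.2 ⟨⟨W, hWU, hW⟩, hpW⟩
    · change (Y.presheaf.map (homOfLE (b.preimage_mono W.2.1)).op).hom ((b.app U).hom r) =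
        (Y.presheaf.map (homOfLE (b.preimage_mono W.2.1)).op).hom t
      rw [← app_map_apply b W.2.1 r, hr' W, hrW2]

end PShSec

end Groth.Agent.Lib.Helper28.Pinch
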