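import Groth.Agent.Lib.Helper28.Pinch.Charts

/-!
# The underlying topological space of a pinching is a topological pushout
-/

set_option autoImplicit false
universe u

open CategoryTheory Limits AlgebraicGeometry TopologicalSpace

namespace Groth.Agent.Lib.Helper28.Pinch

namespace PShTop

variable {X Y Z P : Scheme.{u}} {i : Z ⟶ X} {j : Z ⟶ Y} [IsClosedImmersion i]
  (hY : ∀ y : Y, ∃ β : APair i j, y ∈ β.V) {a : X ⟶ P} {b : Y ⟶ P} (hP : IsPushout i j a b)

include hP in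
omit [IsClosedImmersion i] in
lemma comm_apply (z : Z) : a (i z) = b (j z) := by
  rw [← Scheme.Hom.comp_apply, hP.w, Scheme.Hom.comp_apply]

include hY hP in
lemma exists_of_eq (x : X) (y : Y) (h : a x = b y) : ∃ z, i z = x ∧ j z = y := by
  have hpb := isPullback_of_isPushout hY hP
  obtain ⟨w, hw1, hw2⟩ := Scheme.Pullback.exists_preimage_pullback x y h
  refine ⟨hpb.isoPullback.inv w, ?_, ?_⟩
  · rw [← Scheme.Hom.comp_apply, hpb.isoPullback_inv_fst]; exact hw1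
  · rw [← Scheme.Hom.comp_apply, hpb.isoPullback_inv_snd]; exact hw2

include hY hP in
/-- **Shrinking**: a compatible pair of opens of `X` and `Y` contains the preimages of an open
neighbourhood of any point in the image. -/
theorem exists_opens (OX : X.Opens) (OY : Y.Opens) (hO : i ⁻¹ᵁ OX = j ⁻¹ᵁ OY) (p : P)
    (hp : (∃ x ∈ OX, a x = p) ∨ (∃ y ∈ OY, b y = p)) :
    ∃ t : P.Opens, p ∈ t ∧ a ⁻¹ᵁ t ≤ OX ∧ b ⁻¹ᵁ t ≤ OY := by
  obtain ⟨W, hpW, -, hW⟩ := exists_isChart hY hP p ⊤ trivial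
  have key : ∀ c : FP (pairOf a b hP.w W hW.hU hW.hV).π (pairOf a b hP.w W hW.hU hW.hV).φ,
      X.basicOpen (FP.pA _ _ c) ≤ OX → Y.basicOpen (FP.pB _ _ c) ≤ OY →
      ((∃ x, x ∈ X.basicOpen (FP.pA _ _ c) ∧ a x = p) ∨
        (∃ y, y ∈ Y.basicOpen (FP.pB _ _ c) ∧ b y = p)) →
      ∃ t : P.Opens, p ∈ t ∧ a ⁻¹ᵁ t ≤ OX ∧ b ⁻¹ᵁ t ≤ OY := by
    intro c hc1 hc2 hc3
    obtain ⟨s, hs1, hs2⟩ := hW.surj c
    have e1 : a ⁻¹ᵁ P.basicOpen s = X.basicOpen (FP.pA _ _ c) := by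
      rw [Scheme.preimage_basicOpen, hs1]
      rfl
    have e2 : b ⁻¹ᵁ P.basicOpen s = Y.basicOpen (FP.pB _ _ c) := by
      rw [Scheme.preimage_basicOpen, hs2]
      rfl
    refine ⟨P.basicOpen s, ?_, e1.le.trans hc1, e2.le.trans hc2⟩
    rcases hc3 with ⟨x, hx, rfl⟩ | ⟨y, hy, rfl⟩
    · have : x ∈ a ⁻¹ᵁ P.basicOpen s := by rw [e1]; exact hx
      exact this
    · have : y ∈ b ⁻¹ᵁ P.basicOpen s := by rw [e2]; exact hy
      exact this
  rcases hp with ⟨x, hx, rfl⟩ | ⟨y, hy, rfl⟩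
  · obtain ⟨c, hc1, hc2, hc3⟩ := APair.exists_basic_of_mem_left
      (pairOf a b hP.w W hW.hU hW.hV) OX OY hO x hx hpW
    exact key c hc2 hc3 (Or.inl ⟨x, hc1, rfl⟩)
  · obtain ⟨c, hc1, hc2, hc3⟩ := APair.exists_basic_of_mem_right
      (pairOf a b hP.w W hW.hU hW.hV) OX OY hO y hy hpW
    exact key c hc2 hc3 (Or.inr ⟨y, hc1, rfl⟩)

include hY hP in
/-- A subset of the pinching whose preimages in `X` and `Y` are open is open. -/
theorem isOpen_of_preimage (O : Set P) (hOX : IsOpen (a ⁻¹' O)) (hOY : IsOpen (b ⁻¹' O)) :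
    IsOpen O := by
  rw [isOpen_iff_forall_mem_open]
  intro p hp
  have hO : i ⁻¹ᵁ (⟨a ⁻¹' O, hOX⟩ : X.Opens) = j ⁻¹ᵁ (⟨b ⁻¹' O, hOY⟩ : Y.Opens) := by
    ext z
    change a (i z) ∈ O ↔ b (j z) ∈ O
    rw [comm_apply hP]
  have hp' : (∃ x ∈ (⟨a ⁻¹' O, hOX⟩ : X.Opens), a x = p) ∨
      (∃ y ∈ (⟨b ⁻¹' O, hOY⟩ : Y.Opens), b y = p) := by
    rcases jointly_surjective_of_isPushout hY hP p with ⟨x, rfl⟩ | ⟨y, rfl⟩
    · exact Or.inl ⟨x, hp, rfl⟩
    · exact Or.inr ⟨y, hp, rfl⟩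
  obtain ⟨t, hpt, ht1, ht2⟩ := exists_opens hY hP _ _ hO p hp'
  refine ⟨t, ?_, t.isOpen, hpt⟩
  intro p' hp't
  rcases jointly_surjective_of_isPushout hY hP p' with ⟨x, rfl⟩ | ⟨y, rfl⟩
  · exact ht1 hp't
  · exact ht2 hp't

include hY hP in
lemma not_mem_range_of_eq {x x' : X} (hx : x ∉ Set.range i) (h : a x = a x') :
    x' ∉ Set.range i := by
  rintro ⟨z', rfl⟩
  rw [comm_apply hP] at h
  obtain ⟨z, hz, -⟩ := exists_of_eq hY hP x (j z') h
  exact hx ⟨z, hz⟩

include hY hP in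
lemma mem_of_eq_of_mem {x x' : X} (hx : x ∉ Set.range i) (h : a x = a x') (O : Set X)
    (hO : IsOpen O) (hxO : x ∈ O) : x' ∈ O := by
  have hcl : IsClosed (Set.range i) := i.isClosedEmbedding.isClosed_range
  let OX : X.Opens := ⟨O ∩ (Set.range i)ᶜ, hO.inter hcl.isOpen_compl⟩
  have hOe : i ⁻¹ᵁ OX = j ⁻¹ᵁ (⊥ : Y.Opens) := by
    ext z
    constructor
    · rintro ⟨-, hz⟩
      exact absurd ⟨z, rfl⟩ hz
    · intro hz
      exact absurd hz (by simp)
  obtain ⟨t, hpt, ht1, -⟩ := exists_opens hY hP OX ⊥ hOe (a x) (Or.inl ⟨x, ⟨hxO, hx⟩, rfl⟩)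
  have : x' ∈ a ⁻¹ᵁ t := by
    change a x' ∈ t
    rw [← h]; exact hpt
  exact (ht1 this).1

include hY hP in
/-- `a` is injective away from the image of `i`. -/
theorem eq_of_eq_of_not_mem {x x' : X} (hx : x ∉ Set.range i) (h : a x = a x') : x = x' := by
  have hx' := not_mem_range_of_eq hY hP hx h
  apply Inseparable.eq
  rw [inseparable_iff_forall_isOpen]
  intro O hO
  exact ⟨mem_of_eq_of_mem hY hP hx h O hO, mem_of_eq_of_mem hY hP hx' h.symm O hO⟩

include hY hP in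
/-- Maps out of `X` and `Y` agreeing on `Z` are constant on the fibres of `a`. -/
lemma map_eq_of_eq {T : Type*} (α : X → T) (γ : Y → T) (h : ∀ z, α (i z) = γ (j z)) {x x' : X}
    (hxx : a x = a x') : α x = α x' := by
  by_cases hx : x ∈ Set.range i
  · obtain ⟨z, rfl⟩ := hx
    rw [comm_apply hP] at hxx
    obtain ⟨z', hz'1, hz'2⟩ := exists_of_eq hY hP x' (j z) hxx.symm
    rw [← hz'1, h, h, hz'2]
  · rw [eq_of_eq_of_not_mem hY hP hx hxx]

include hY hP in
/-- **The pinching is a topological pushout** (function-level form). -/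
theorem exists_desc {T : Type*} [TopologicalSpace T] (α : X → T) (γ : Y → T) (hα : Continuous α)
    (hγ : Continuous γ) (h : ∀ z, α (i z) = γ (j z)) :
    ∃ d : P → T, Continuous d ∧ (∀ x, d (a x) = α x) ∧ (∀ y, d (b y) = γ y) := by
  have : IsClosedImmersion b := isClosedImmersion_of_isPushout hY hP
  classical
  let d : P → T := fun p => if hp : ∃ x, a x = p then α hp.choose else
    γ ((jointly_surjective_of_isPushout hY hP p).resolve_left hp).choose
  have hda : ∀ x, d (a x) = α x := by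
    intro x
    have hp : ∃ x', a x' = a x := ⟨x, rfl⟩
    simp only [d, dif_pos hp]
    exact map_eq_of_eq hY hP α γ h hp.choose_spec
  have hdb : ∀ y, d (b y) = γ y := by
    intro y
    by_cases hp : ∃ x, a x = b y
    · simp only [d, dif_pos hp]
      obtain ⟨z, hz1, hz2⟩ := exists_of_eq hY hP _ _ hp.choose_spec
      rw [← hz1, h, hz2]
    · simp only [d, dif_neg hp]
      have := ((jointly_surjective_of_isPushout hY hP (b y)).resolve_left hp).choose_spec
      rw [b.isClosedEmbedding.injective this]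
  refine ⟨d, ?_, hda, hdb⟩
  rw [continuous_def]
  intro O hO
  apply isOpen_of_preimage hY hP
  · have : a ⁻¹' (d ⁻¹' O) = α ⁻¹' O := by
      ext x
      simp only [Set.mem_preimage, hda]
    rw [this]
    exact hO.preimage hα
  · have : b ⁻¹' (d ⁻¹' O) = γ ⁻¹' O := by
      ext y
      simp only [Set.mem_preimage, hdb]
    rw [this]
    exact hO.preimage hγ

end PShTop

end Groth.Agent.Lib.Helper28.Pinch
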