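import Groth.Agent.Lib.Helper28.Pinch.PShPush
import Groth.Agent.Lib.Helper28.Pinch.PShTop
import Groth.Agent.Lib.Helper28.Pinch.PShSec
import Groth.Agent.Lib.Helper28.Pinch.ShSp
import Groth.Agent.Lib.Helper28.Pinch.BC

/-!
# Pinchings of schemes are pushouts of ringed spaces
-/

set_option autoImplicit false
universe u

open CategoryTheory Limits AlgebraicGeometry TopologicalSpace Opposite

namespace Groth.Agent.Lib.Helper28.Pinch

theorem isPullback_of_elementwise {A B C D : CommRingCat.{u}} (f : A ⟶ B) (g : A ⟶ C) (h : B ⟶ D)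
    (k : C ⟶ D) (comm : f ≫ h = g ≫ k)
    (inj : ∀ x y : A, f.hom x = f.hom y → g.hom x = g.hom y → x = y)
    (surj : ∀ (x : B) (y : C), h.hom x = k.hom y → ∃ z, f.hom z = x ∧ g.hom z = y) :
    IsPullback f g h k := by
  refine IsPullback.of_map (forget CommRingCat) comm ?_
  rw [Types.isPullback_iff]
  refine ⟨?_, ?_, ?_⟩
  · rw [← Functor.map_comp, ← Functor.map_comp, comm]
  · rintro x y ⟨h1, h2⟩
    exact inj x y h1 h2
  · intro x y hxy
    exact surj x y hxy

variable {X Y Z P : Scheme.{u}} {i : Z ⟶ X} {j : Z ⟶ Y} [IsClosedImmersion i]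
  (hY : ∀ y : Y, ∃ β : APair i j, y ∈ β.V) {a : X ⟶ P} {b : Y ⟶ P} (hP : IsPushout i j a b)

include hY hP in
/-- The underlying square of topological spaces of a pinching is a pushout. -/
theorem isPushout_base : IsPushout i.base j.base a.base b.base := by
  have hw : i.base ≫ a.base = j.base ≫ b.base := by
    rw [← Scheme.Hom.comp_base, ← Scheme.Hom.comp_base, hP.w]
  have key : ∀ s : PushoutCocone i.base j.base, ∃ d : P.carrier ⟶ s.pt,
      a.base ≫ d = s.inl ∧ b.base ≫ d = s.inr := by
    intro s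
    obtain ⟨d, hd, hda, hdb⟩ := PShTop.exists_desc hY hP (fun x => s.inl x) (fun y => s.inr y)
      s.inl.hom.continuous s.inr.hom.continuous (fun z => by
        have := congrArg (fun f => f z) s.condition
        exact this)
    refine ⟨TopCat.ofHom ⟨d, hd⟩, ?_, ?_⟩
    · ext x; exact hda x
    · ext y; exact hdb y
  choose d hd1 hd2 using key
  refine ⟨⟨hw⟩, ⟨PushoutCocone.IsColimit.mk _ d hd1 hd2 ?_⟩⟩
  intro s m hm1 hm2
  ext p
  rcases jointly_surjective_of_isPushout hY hP p with ⟨x, rfl⟩ | ⟨y, rfl⟩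
  · have h1 := congrArg (fun f => f x) (hm1.trans (hd1 s).symm)
    exact h1
  · have h1 := congrArg (fun f => f y) (hm2.trans (hd2 s).symm)
    exact h1

include hY hP in
/-- Sections of a pinching over an arbitrary open form a cartesian square. -/
theorem isPullback_sections (U : P.Opens) :
    IsPullback (a.app U) (b.app U) (i.app (a ⁻¹ᵁ U))
      (j.appLE (b ⁻¹ᵁ U) (i ⁻¹ᵁ (a ⁻¹ᵁ U)) (PShSec.preimage_le hP U)) := by
  refine isPullback_of_elementwise _ _ _ _ ?_ ?_ ?_
  · rw [Scheme.Hom.app_eq_appLE, Scheme.Hom.app_eq_appLE, Scheme.Hom.app_eq_appLE]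
    exact appLE_comm hP.w _ _ _ _ _ _ _ _
  · intro x y h1 h2
    have := PShSec.sections_inj hY hP U (x - y) (by rw [map_sub, h1, sub_self])
      (by rw [map_sub, h2, sub_self])
    exact sub_eq_zero.mp this
  · intro s t h
    exact PShSec.sections_surj hY hP U s t h

include hY hP in
/-- **A pinching of schemes is a pushout of ringed spaces.** -/
theorem isPushout_sheafedSpace :
    IsPushout (FSh.map i) (FSh.map j) (FSh.map a) (FSh.map b) := by
  have hw : FSh.map i ≫ FSh.map a = FSh.map j ≫ FSh.map b := by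
    rw [← Functor.map_comp, ← Functor.map_comp, hP.w]
  refine IsPushout.of_map (SheafedSpace.forgetToPresheafedSpace (C := CommRingCat.{u})) hw ?_
  have hw' : (FSh.map i).hom ≫ (FSh.map a).hom = (FSh.map j).hom ≫ (FSh.map b).hom :=
    congrArg InducedCategory.Hom.hom hw
  refine PSh.isPushout_of_sections (FSh.map i).hom (FSh.map j).hom (FSh.map a).hom (FSh.map b).hom
    hw' (isPushout_base hY hP) fun U => ?_
  exact isPullback_sections hY hP U

end Groth.Agent.Lib.Helper28.Pinch
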