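import Mathlib

/-!
# Recognising pushouts of presheafed spaces

A commutative square of presheafed spaces is a pushout as soon as the square of underlying
topological spaces is a pushout and, over every open of the corner, the square of sections is
cartesian.
-/

set_option autoImplicit false
set_option backward.isDefEq.respectTransparency false
set_option backward.isDefEq.respectTransparency.types false

universe v u

open CategoryTheory Limits TopologicalSpace Opposite AlgebraicGeometry

namespace Groth.Agent.Lib.Helper28.Pinch

namespace PSh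

variable {C : Type u} [Category.{v} C]

/-- Sections of a morphism of presheafed spaces between an open of the target and a smaller open
of the source. -/
def appLE {A B : PresheafedSpace C} (f : A ⟶ B) (U : Opens B) (V : Opens A)
    (e : V ≤ (Opens.map f.base).obj U) : B.presheaf.obj (op U) ⟶ A.presheaf.obj (op V) :=
  f.c.app (op U) ≫ A.presheaf.map (homOfLE e).op

lemma appLE_self {A B : PresheafedSpace C} (f : A ⟶ B) (U : Opens B) :
    appLE f U ((Opens.map f.base).obj U) le_rfl = f.c.app (op U) := by
  unfold appLE
  have : (homOfLE (le_refl ((Opens.map f.base).obj U))).op = 𝟙 _ := Subsingleton.elim _ _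
  rw [this]
  exact (congrArg (f.c.app (op U) ≫ ·) (A.presheaf.map_id _)).trans (Category.comp_id _)

lemma appLE_map {A B : PresheafedSpace C} (f : A ⟶ B) (U : Opens B) (V V' : Opens A)
    (e : V ≤ (Opens.map f.base).obj U) (k : op V ⟶ op V') :
    appLE f U V e ≫ A.presheaf.map k = appLE f U V' (k.unop.le.trans e) := by
  unfold appLE
  rw [Category.assoc, ← A.presheaf.map_comp]
  congr 2

lemma map_appLE {A B : PresheafedSpace C} (f : A ⟶ B) (U U' : Opens B) (V : Opens A)
    (e : V ≤ (Opens.map f.base).obj U) (k : op U' ⟶ op U) :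
    B.presheaf.map k ≫ appLE f U V e =
      appLE f U' V (e.trans ((Opens.map f.base).map k.unop).le) := by
  unfold appLE
  have := f.c.naturality k
  rw [← Category.assoc, this, Category.assoc]
  congr 1
  change A.presheaf.map _ ≫ A.presheaf.map _ = _
  rw [← A.presheaf.map_comp]
  congr 1

lemma appLE_comp {A B D : PresheafedSpace C} (f : A ⟶ B) (g : B ⟶ D) (U : Opens D) (V : Opens B)
    (W : Opens A) (e₁ : V ≤ (Opens.map g.base).obj U) (e₂ : W ≤ (Opens.map f.base).obj V) :
    appLE g U V e₁ ≫ appLE f V W e₂ =
      appLE (f ≫ g) U W (e₂.trans ((Opens.map f.base).map (homOfLE e₁)).le) := by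
  have h1 : appLE g U V e₁ = g.c.app (op U) ≫ B.presheaf.map (homOfLE e₁).op := rfl
  rw [h1, Category.assoc, map_appLE]
  unfold appLE
  rw [PresheafedSpace.comp_c_app, Category.assoc]

lemma appLE_congr {A B : PresheafedSpace C} {f g : A ⟶ B} (h : f = g) (U : Opens B) (V : Opens A)
    (e : V ≤ (Opens.map f.base).obj U) :
    appLE f U V e = appLE g U V (h ▸ e) := by
  subst h; rfl

section Main

variable {X Y Z P : PresheafedSpace C} (i : Z ⟶ X) (j : Z ⟶ Y) (a : X ⟶ P) (b : Y ⟶ P)
  (hw : i ≫ a = j ≫ b)

include hw in
lemma preimage_eq (U : Opens P) :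
    (Opens.map i.base).obj ((Opens.map a.base).obj U) =
      (Opens.map j.base).obj ((Opens.map b.base).obj U) := by
  change (Opens.map (i ≫ a).base).obj U = (Opens.map (j ≫ b).base).obj U
  rw [hw]

variable (htop : IsPushout i.base j.base a.base b.base)
  (hsec : ∀ U : Opens P, IsPullback (a.c.app (op U)) (b.c.app (op U))
    (i.c.app (op ((Opens.map a.base).obj U)))
    (appLE j ((Opens.map b.base).obj U) ((Opens.map i.base).obj ((Opens.map a.base).obj U))
      (le_of_eq (preimage_eq i j a b hw U))))

variable {T : PresheafedSpace C} (α : X ⟶ T) (γ : Y ⟶ T) (hαγ : i ≫ α = j ≫ γ)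

/-- The base map of the morphism out of the pushout. -/
noncomputable def descBase : (P : TopCat) ⟶ (T : TopCat) :=
  htop.desc α.base γ.base (congrArg PresheafedSpace.Hom.base hαγ)

lemma a_descBase : a.base ≫ descBase i j a b htop α γ hαγ = α.base := htop.inl_desc _ _ _

lemma b_descBase : b.base ≫ descBase i j a b htop α γ hαγ = γ.base := htop.inr_desc _ _ _

lemma eA (U : Opens T) :
    (Opens.map a.base).obj ((Opens.map (descBase i j a b htop α γ hαγ)).obj U) =
      (Opens.map α.base).obj U := by
  change (Opens.map (a.base ≫ descBase i j a b htop α γ hαγ)).obj U = _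
  rw [a_descBase]

lemma eB (U : Opens T) :
    (Opens.map b.base).obj ((Opens.map (descBase i j a b htop α γ hαγ)).obj U) =
      (Opens.map γ.base).obj U := by
  change (Opens.map (b.base ≫ descBase i j a b htop α γ hαγ)).obj U = _
  rw [b_descBase]

lemma compat (U : Opens T) :
    appLE α U _ (le_of_eq (eA i j a b htop α γ hαγ U)) ≫
        i.c.app (op ((Opens.map a.base).obj ((Opens.map (descBase i j a b htop α γ hαγ)).obj U))) =
      appLE γ U _ (le_of_eq (eB i j a b htop α γ hαγ U)) ≫
        appLE j ((Opens.map b.base).obj ((Opens.map (descBase i j a b htop α γ hαγ)).obj U))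
          ((Opens.map i.base).obj ((Opens.map a.base).obj
            ((Opens.map (descBase i j a b htop α γ hαγ)).obj U)))
          (le_of_eq (preimage_eq i j a b hw _)) := by
  have h1 := appLE_comp i α U _ _ (le_of_eq (eA i j a b htop α γ hαγ U))
    (le_refl ((Opens.map i.base).obj ((Opens.map a.base).obj
      ((Opens.map (descBase i j a b htop α γ hαγ)).obj U))))
  rw [appLE_self] at h1
  rw [h1, appLE_comp]
  exact appLE_congr hαγ _ _ _

/-- The components of the sheaf part of the morphism out of the pushout. -/
noncomputable def descC (U : Opens T) : T.presheaf.obj (op U) ⟶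
    P.presheaf.obj (op ((Opens.map (descBase i j a b htop α γ hαγ)).obj U)) :=
  (hsec ((Opens.map (descBase i j a b htop α γ hαγ)).obj U)).lift
    (appLE α U _ (le_of_eq (eA i j a b htop α γ hαγ U)))
    (appLE γ U _ (le_of_eq (eB i j a b htop α γ hαγ U)))
    (compat i j a b hw htop α γ hαγ U)

lemma descC_a (U : Opens T) :
    descC i j a b hw htop hsec α γ hαγ U ≫
        a.c.app (op ((Opens.map (descBase i j a b htop α γ hαγ)).obj U)) =
      appLE α U _ (le_of_eq (eA i j a b htop α γ hαγ U)) :=
  (hsec _).lift_fst _ _ _

lemma descC_b (U : Opens T) :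
    descC i j a b hw htop hsec α γ hαγ U ≫
        b.c.app (op ((Opens.map (descBase i j a b htop α γ hαγ)).obj U)) =
      appLE γ U _ (le_of_eq (eB i j a b htop α γ hαγ U)) :=
  (hsec _).lift_snd _ _ _

lemma descC_naturality {U V : (Opens T)ᵒᵖ} (f : U ⟶ V) :
    T.presheaf.map f ≫ descC i j a b hw htop hsec α γ hαγ V.unop =
      descC i j a b hw htop hsec α γ hαγ U.unop ≫
        P.presheaf.map ((Opens.map (descBase i j a b htop α γ hαγ)).map f.unop).op := by
  apply (hsec _).hom_ext
  · rw [Category.assoc, descC_a, Category.assoc]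
    have h1 := a.c.naturality ((Opens.map (descBase i j a b htop α γ hαγ)).map f.unop).op
    rw [h1, ← Category.assoc, descC_a]
    rw [show T.presheaf.map f = T.presheaf.map (show op U.unop ⟶ op V.unop from f) from rfl,
      map_appLE]
    exact (appLE_map α _ _ _ _ _).symm
  · rw [Category.assoc, descC_b, Category.assoc]
    have h1 := b.c.naturality ((Opens.map (descBase i j a b htop α γ hαγ)).map f.unop).op
    rw [h1, ← Category.assoc, descC_b]
    rw [show T.presheaf.map f = T.presheaf.map (show op U.unop ⟶ op V.unop from f) from rfl,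
      map_appLE]
    exact (appLE_map γ _ _ _ _ _).symm

/-- The morphism out of the pushout. -/
noncomputable def desc : P ⟶ T where
  base := descBase i j a b htop α γ hαγ
  c :=
    { app := fun U => descC i j a b hw htop hsec α γ hαγ U.unop
      naturality := fun U V f => descC_naturality i j a b hw htop hsec α γ hαγ f }

/-- Equality of morphisms of presheafed spaces via `appLE`. -/
lemma hom_ext_appLE {A B : PresheafedSpace C} (f g : A ⟶ B) (w : f.base = g.base)
    (h : ∀ U : Opens B, f.c.app (op U) =
      appLE g U ((Opens.map f.base).obj U) (le_of_eq (by rw [w]))) : f = g := by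
  refine PresheafedSpace.ext _ _ w ?_
  ext U
  rw [NatTrans.comp_app, h U]
  unfold appLE
  rw [Category.assoc]
  have : A.presheaf.map (homOfLE (le_of_eq (by rw [w]) :
        (Opens.map f.base).obj U ≤ (Opens.map g.base).obj U)).op ≫
      (Functor.whiskerRight (eqToHom (by rw [w]) :
        (Opens.map f.base).op ⟶ (Opens.map g.base).op) A.presheaf).app (op U) = 𝟙 _ := by
    rw [Functor.whiskerRight_app, ← A.presheaf.map_comp]
    have : (homOfLE (le_of_eq (by rw [w]) :
        (Opens.map f.base).obj U ≤ (Opens.map g.base).obj U)).op ≫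
        (eqToHom (by rw [w]) : (Opens.map f.base).op ⟶ (Opens.map g.base).op).app (op U) = 𝟙 _ :=
      Subsingleton.elim _ _
    rw [this]
    exact A.presheaf.map_id _
  rw [this]
  exact Category.comp_id _

lemma a_desc : a ≫ desc i j a b hw htop hsec α γ hαγ = α := by
  refine hom_ext_appLE _ _ (a_descBase i j a b htop α γ hαγ) fun U => ?_
  rw [PresheafedSpace.comp_c_app]
  exact descC_a i j a b hw htop hsec α γ hαγ U

lemma b_desc : b ≫ desc i j a b hw htop hsec α γ hαγ = γ := by
  refine hom_ext_appLE _ _ (b_descBase i j a b htop α γ hαγ) fun U => ?_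
  rw [PresheafedSpace.comp_c_app]
  exact descC_b i j a b hw htop hsec α γ hαγ U

include hw htop hsec in
lemma hom_ext {m m' : P ⟶ T} (ha : a ≫ m = a ≫ m') (hb : b ≫ m = b ≫ m') : m = m' := by
  have hbase : m.base = m'.base :=
    htop.hom_ext (congrArg PresheafedSpace.Hom.base ha) (congrArg PresheafedSpace.Hom.base hb)
  refine hom_ext_appLE _ _ hbase fun U => ?_
  apply (hsec _).hom_ext
  · have h1 := appLE_comp a m U _ _ (le_refl ((Opens.map m.base).obj U))
      (le_refl ((Opens.map a.base).obj ((Opens.map m.base).obj U)))
    rw [appLE_self, appLE_self] at h1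
    rw [h1]
    have h2 := appLE_comp a m' U ((Opens.map m.base).obj U)
      ((Opens.map a.base).obj ((Opens.map m.base).obj U)) (le_of_eq (by rw [hbase])) le_rfl
    rw [appLE_self] at h2
    rw [h2]
    exact appLE_congr ha _ _ _
  · have h1 := appLE_comp b m U _ _ (le_refl ((Opens.map m.base).obj U))
      (le_refl ((Opens.map b.base).obj ((Opens.map m.base).obj U)))
    rw [appLE_self, appLE_self] at h1
    rw [h1]
    have h2 := appLE_comp b m' U ((Opens.map m.base).obj U)
      ((Opens.map b.base).obj ((Opens.map m.base).obj U)) (le_of_eq (by rw [hbase])) le_rfl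
    rw [appLE_self] at h2
    rw [h2]
    exact appLE_congr hb _ _ _

include hw htop hsec in
/-- **Recognition of pushouts of presheafed spaces.** -/
theorem isPushout_of_sections : IsPushout i j a b := by
  refine ⟨⟨hw⟩, ⟨PushoutCocone.IsColimit.mk _
    (fun s => desc i j a b hw htop hsec s.inl s.inr s.condition)
    (fun s => a_desc i j a b hw htop hsec s.inl s.inr s.condition)
    (fun s => b_desc i j a b hw htop hsec s.inl s.inr s.condition) ?_⟩⟩
  intro s m hm₁ hm₂
  apply hom_ext i j a b hw htop hsec
  · rw [hm₁, a_desc]
  · rw [hm₂, b_desc]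

end Main

end PSh

end Groth.Agent.Lib.Helper28.Pinch
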