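import Groth.Agent.Lib.Helper28.Pinch.FPProps
import Groth.Agent.Lib.Helper28.Pinch.Gen

/-!
# Adapted affine pairs and the local pinchings
-/

set_option autoImplicit false
universe u

open CategoryTheory Limits AlgebraicGeometry

namespace Groth.Agent.Lib.Helper28.Pinch

variable {X Y Z : Scheme.{u}} (i : Z ⟶ X) (j : Z ⟶ Y)

/-- An adapted affine pair: affine opens `U ⊆ X`, `V ⊆ Y` with the same preimage in `Z`. -/
structure APair where
  /-- the open of `X` -/
  U : X.Opens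
  /-- the open of `Y` -/
  V : Y.Opens
  hU : IsAffineOpen U
  hV : IsAffineOpen V
  eq : i ⁻¹ᵁ U = j ⁻¹ᵁ V

namespace APair

variable {i j}

instance : Preorder (APair i j) where
  le β β' := β.U ≤ β'.U ∧ β.V ≤ β'.V
  le_refl _ := ⟨le_rfl, le_rfl⟩
  le_trans _ _ _ h h' := ⟨h.1.trans h'.1, h.2.trans h'.2⟩

lemma le_def {β β' : APair i j} : β ≤ β' ↔ β.U ≤ β'.U ∧ β.V ≤ β'.V := Iff.rfl

lemma ext' {β β' : APair i j} (hU : β.U = β'.U) (hV : β.V = β'.V) : β = β' := by
  cases β; cases β'; simp only at hU hV; subst hU; subst hV; rfl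

/-- The common preimage in `Z`. -/
def ZU (β : APair i j) : Z.Opens := i ⁻¹ᵁ β.U

lemma ZU_le_i (β : APair i j) : β.ZU ≤ i ⁻¹ᵁ β.U := le_rfl

lemma ZU_le_j (β : APair i j) : β.ZU ≤ j ⁻¹ᵁ β.V := le_of_eq β.eq

lemma ZU_eq_j (β : APair i j) : β.ZU = j ⁻¹ᵁ β.V := β.eq

lemma ZU_mono {β β' : APair i j} (h : β ≤ β') : β.ZU ≤ β'.ZU :=
  fun _ hz => h.1 hz

lemma hZU [IsAffineHom i] (β : APair i j) : IsAffineOpen β.ZU := β.hU.preimage i

/-- The restriction map to `Z` on the `X`-side. -/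
def π (β : APair i j) : Γ(X, β.U) →+* Γ(Z, β.ZU) := (i.appLE β.U β.ZU β.ZU_le_i).hom

/-- The restriction map to `Z` on the `Y`-side. -/
def φ (β : APair i j) : Γ(Y, β.V) →+* Γ(Z, β.ZU) := (j.appLE β.V β.ZU β.ZU_le_j).hom

lemma π_surjective [IsClosedImmersion i] (β : APair i j) : Function.Surjective β.π := by
  have := i.app_surjective β.U β.hU
  rwa [Scheme.Hom.app_eq_appLE] at this

/-- The ring of the local pinching, as a commutative ring object. -/
def Rc (β : APair i j) : CommRingCat.{u} := CommRingCat.of (FP β.π β.φ)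

/-- The restriction maps. -/
def resA {β β' : APair i j} (h : β ≤ β') : Γ(X, β'.U) →+* Γ(X, β.U) :=
  (X.presheaf.map (homOfLE h.1).op).hom

/-- The restriction maps. -/
def resB {β β' : APair i j} (h : β ≤ β') : Γ(Y, β'.V) →+* Γ(Y, β.V) :=
  (Y.presheaf.map (homOfLE h.2).op).hom

/-- The restriction maps. -/
def res₀ {β β' : APair i j} (h : β ≤ β') : Γ(Z, β'.ZU) →+* Γ(Z, β.ZU) :=
  (Z.presheaf.map (homOfLE (ZU_mono h)).op).hom

lemma π_comp_resA {β β' : APair i j} (h : β ≤ β') :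
    β.π.comp (resA h) = (res₀ h).comp β'.π := by
  have h1 : X.presheaf.map (homOfLE h.1).op ≫ i.appLE β.U β.ZU β.ZU_le_i =
      i.appLE β'.U β'.ZU β'.ZU_le_i ≫ Z.presheaf.map (homOfLE (ZU_mono h)).op := by
    rw [Scheme.Hom.map_appLE, Scheme.Hom.appLE_map]
  exact congrArg CommRingCat.Hom.hom h1

lemma φ_comp_resB {β β' : APair i j} (h : β ≤ β') :
    β.φ.comp (resB h) = (res₀ h).comp β'.φ := by
  have h1 : Y.presheaf.map (homOfLE h.2).op ≫ j.appLE β.V β.ZU β.ZU_le_j =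
      j.appLE β'.V β'.ZU β'.ZU_le_j ≫ Z.presheaf.map (homOfLE (ZU_mono h)).op := by
    rw [Scheme.Hom.map_appLE, Scheme.Hom.appLE_map]
  exact congrArg CommRingCat.Hom.hom h1

/-- The restriction map of fibre products. -/
def ρ {β β' : APair i j} (h : β ≤ β') : FP β'.π β'.φ →+* FP β.π β.φ :=
  FP.map β'.π β'.φ β.π β.φ (resA h) (res₀ h) (resB h) (π_comp_resA h) (φ_comp_resB h)

@[simp] lemma pA_ρ {β β' : APair i j} (h : β ≤ β') (x : FP β'.π β'.φ) :
    FP.pA β.π β.φ (ρ h x) = resA h (FP.pA β'.π β'.φ x) := rfl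

@[simp] lemma pB_ρ {β β' : APair i j} (h : β ≤ β') (x : FP β'.π β'.φ) :
    FP.pB β.π β.φ (ρ h x) = resB h (FP.pB β'.π β'.φ x) := rfl

lemma resA_refl (β : APair i j) : resA (le_refl β) = RingHom.id _ := by
  ext x; simp [resA]

lemma resB_refl (β : APair i j) : resB (le_refl β) = RingHom.id _ := by
  ext x; simp [resB]

lemma resA_trans {β β' β'' : APair i j} (h : β ≤ β') (h' : β' ≤ β'') :
    resA (h.trans h') = (resA h).comp (resA h') := by
  ext x
  simp only [resA, RingHom.comp_apply]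
  rw [← CommRingCat.comp_apply, ← Functor.map_comp]
  rfl

lemma resB_trans {β β' β'' : APair i j} (h : β ≤ β') (h' : β' ≤ β'') :
    resB (h.trans h') = (resB h).comp (resB h') := by
  ext x
  simp only [resB, RingHom.comp_apply]
  rw [← CommRingCat.comp_apply, ← Functor.map_comp]
  rfl

lemma ρ_refl (β : APair i j) : ρ (le_refl β) = RingHom.id _ := by
  apply FP.hom_ext
  · ext x; simp only [RingHom.comp_apply]; rw [pB_ρ, resB_refl]; rfl
  · ext x; simp only [RingHom.comp_apply]; rw [pA_ρ, resA_refl]; rfl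

lemma ρ_trans {β β' β'' : APair i j} (h : β ≤ β') (h' : β' ≤ β'') :
    ρ (h.trans h') = (ρ h).comp (ρ h') := by
  apply FP.hom_ext
  · ext x; simp only [RingHom.comp_apply]; rw [pB_ρ, pB_ρ, pB_ρ, resB_trans h h']; rfl
  · ext x; simp only [RingHom.comp_apply]; rw [pA_ρ, pA_ρ, pA_ρ, resA_trans h h']; rfl

end APair

end Groth.Agent.Lib.Helper28.Pinch
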