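import Groth.Agent.Lib.Helper28.Pinch.PairTop

/-!
# The diagram of local pinchings: open immersions and local directedness
-/

set_option autoImplicit false
universe u

open CategoryTheory Limits AlgebraicGeometry

namespace Groth.Agent.Lib.Helper28.Pinch

variable {X Y Z : Scheme.{u}} {i : Z ⟶ X} {j : Z ⟶ Y}

namespace APair

lemma F_map_mem_basicOpen {β β'' : APair i j} (f : β ⟶ β'') (w : F.obj β)
    (c : FP β''.π β''.φ) :
    F.map f w ∈ (PrimeSpectrum.basicOpen c : Set (PrimeSpectrum (FP β''.π β''.φ))) ↔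
      w ∈ (PrimeSpectrum.basicOpen (ρ (leOfHom f) c) : Set (PrimeSpectrum (FP β.π β.φ))) :=
  Iff.rfl

lemma basicOpen_pA_ρ {β β'' : APair i j} (h : β ≤ β'') (c : FP β''.π β''.φ)
    (hc : X.basicOpen (FP.pA β''.π β''.φ c) ≤ β.U) :
    X.basicOpen (FP.pA β.π β.φ (ρ h c)) = X.basicOpen (FP.pA β''.π β''.φ c) := by
  rw [pA_ρ]
  change X.basicOpen ((X.presheaf.map (homOfLE h.1).op) (FP.pA β''.π β''.φ c)) = _
  rw [Scheme.basicOpen_res]
  exact inf_eq_right.mpr hc

lemma basicOpen_pB_ρ {β β'' : APair i j} (h : β ≤ β'') (c : FP β''.π β''.φ)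
    (hc : Y.basicOpen (FP.pB β''.π β''.φ c) ≤ β.V) :
    Y.basicOpen (FP.pB β.π β.φ (ρ h c)) = Y.basicOpen (FP.pB β''.π β''.φ c) := by
  rw [pB_ρ]
  change Y.basicOpen ((Y.presheaf.map (homOfLE h.2).op) (FP.pB β''.π β''.φ c)) = _
  rw [Scheme.basicOpen_res]
  exact inf_eq_right.mpr hc

lemma fromSpec_mem_U (β : APair i j) (x : Spec Γ(X, β.U)) : β.hU.fromSpec x ∈ β.U := by
  change β.hU.fromSpec x ∈ (β.U : Set X)
  rw [← β.hU.range_fromSpec]; exact ⟨x, rfl⟩

lemma fromSpec_mem_V (β : APair i j) (y : Spec Γ(Y, β.V)) : β.hV.fromSpec y ∈ β.V := by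
  change β.hV.fromSpec y ∈ (β.V : Set Y)
  rw [← β.hV.range_fromSpec]; exact ⟨y, rfl⟩

lemma basic_le_of_le {β β'' : APair i j} (c : FP β''.π β''.φ)
    (hc1 : X.basicOpen (FP.pA β''.π β''.φ c) ≤ β.U)
    (hc2 : Y.basicOpen (FP.pB β''.π β''.φ c) ≤ β.V) : β''.basic c ≤ β := ⟨hc1, hc2⟩

variable [IsClosedImmersion i]

/-- Every point in the image of a transition map lies in a basic open "contained in" `β`. -/
theorem exists_basic_F_map {β β'' : APair i j} (f : β ⟶ β'') (w : F.obj β) :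
    ∃ c : FP β''.π β''.φ, X.basicOpen (FP.pA β''.π β''.φ c) ≤ β.U ∧
      Y.basicOpen (FP.pB β''.π β''.φ c) ≤ β.V ∧
      F.map f w ∈ (PrimeSpectrum.basicOpen c : Set (PrimeSpectrum (FP β''.π β''.φ))) := by
  have hle := leOfHom f
  rcases β.exists_a'_or_b' w with ⟨x, rfl⟩ | ⟨y, rfl⟩
  · have hx : β.hU.fromSpec x ∈ β.U := β.fromSpec_mem_U x
    obtain ⟨c, hc1, hc2, hc3⟩ := β''.exists_basic_of_mem_left β.U β.V β.eq _ hx (hle.1 hx)
    refine ⟨c, hc2, hc3, ?_⟩
    rw [← Scheme.Hom.comp_apply, a'_F_map, Scheme.Hom.comp_apply, fromSpec_a'_mem_basicOpen,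
      ← Scheme.Hom.comp_apply, IsAffineOpen.map_fromSpec]
    exact hc1
  · have hy : β.hV.fromSpec y ∈ β.V := β.fromSpec_mem_V y
    obtain ⟨c, hc1, hc2, hc3⟩ := β''.exists_basic_of_mem_right β.U β.V β.eq _ hy (hle.2 hy)
    refine ⟨c, hc2, hc3, ?_⟩
    rw [← Scheme.Hom.comp_apply, b'_F_map, Scheme.Hom.comp_apply, fromSpec_b'_mem_basicOpen,
      ← Scheme.Hom.comp_apply, IsAffineOpen.map_fromSpec]
    exact hc1

instance isOpenImmersion_F_map {β β'' : APair i j} (f : β ⟶ β'') : IsOpenImmersion (F.map f) := by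
  have hle := leOfHom f
  let I := {c : FP β''.π β''.φ // X.basicOpen (FP.pA β''.π β''.φ c) ≤ β.U ∧
    Y.basicOpen (FP.pB β''.π β''.φ c) ≤ β.V}
  let k : ∀ c : I, F.obj (β''.basic c.1) ⟶ F.obj β := fun c =>
    F.map (homOfLE (basic_le_of_le c.1 c.2.1 c.2.2))
  have hk1 : ∀ c : I, IsOpenImmersion (k c) := fun c =>
    isOpenImmersion_F_map_of_basic _ (ρ hle c.1) (basicOpen_pA_ρ hle c.1 c.2.1).symm
      (basicOpen_pB_ρ hle c.1 c.2.2).symm
  have hkr1 : ∀ c : I, Set.range (k c) =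
      (PrimeSpectrum.basicOpen (ρ hle c.1) : Set (PrimeSpectrum (FP β.π β.φ))) := fun c =>
    range_F_map_of_basic _ (ρ hle c.1) (basicOpen_pA_ρ hle c.1 c.2.1).symm
      (basicOpen_pB_ρ hle c.1 c.2.2).symm
  have hkg : ∀ c : I, k c ≫ F.map f = F.map (homOfLE (β''.basic_le c.1)) := fun c => by
    rw [← F.map_comp]; rfl
  have hk2 : ∀ c : I, IsOpenImmersion (k c ≫ F.map f) := fun c => by
    rw [hkg]
    exact isOpenImmersion_F_map_of_basic _ c.1 rfl rfl
  have hkr2 : ∀ c : I, Set.range (k c ≫ F.map f) =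
      (PrimeSpectrum.basicOpen c.1 : Set (PrimeSpectrum (FP β''.π β''.φ))) := fun c => by
    rw [hkg]
    exact range_F_map_of_basic _ c.1 rfl rfl
  refine isOpenImmersion_of_cover (F.map f) (fun c : I => F.obj (β''.basic c.1)) k ?_ ?_
  · intro w
    obtain ⟨c, hc1, hc2, hc3⟩ := exists_basic_F_map f w
    refine ⟨⟨c, hc1, hc2⟩, ?_⟩
    rw [hkr1]
    exact hc3
  · intro c w hw
    rw [hkr2] at hw
    rw [hkr1]
    exact hw

instance isLocallyDirected_F : ((F : APair i j ⥤ Scheme.{u}) ⋙ Scheme.forget).IsLocallyDirected := by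
  constructor
  intro β β' β'' fi fj xi xj hx
  change F.map fi xi = F.map fj xj at hx
  obtain ⟨c, hc1, hc2, hc3⟩ := exists_basic_F_map fi xi
  obtain ⟨c', hc1', hc2', hc3'⟩ := exists_basic_F_map fj xj
  rw [← hx] at hc3'
  have hle : β''.basic (c * c') ≤ β := by
    refine ⟨?_, ?_⟩
    · change X.basicOpen (FP.pA β''.π β''.φ (c * c')) ≤ β.U
      rw [map_mul, Scheme.basicOpen_mul]
      exact inf_le_left.trans hc1
    · change Y.basicOpen (FP.pB β''.π β''.φ (c * c')) ≤ β.V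
      rw [map_mul, Scheme.basicOpen_mul]
      exact inf_le_left.trans hc2
  have hle' : β''.basic (c * c') ≤ β' := by
    refine ⟨?_, ?_⟩
    · change X.basicOpen (FP.pA β''.π β''.φ (c * c')) ≤ β'.U
      rw [map_mul, Scheme.basicOpen_mul]
      exact inf_le_right.trans hc1'
    · change Y.basicOpen (FP.pB β''.π β''.φ (c * c')) ≤ β'.V
      rw [map_mul, Scheme.basicOpen_mul]
      exact inf_le_right.trans hc2'
  have hmem : F.map fi xi ∈ Set.range (F.map (homOfLE (β''.basic_le (c * c')))) := by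
    rw [range_F_map_of_basic _ (c * c') rfl rfl, PrimeSpectrum.basicOpen_mul]
    exact ⟨hc3, hc3'⟩
  obtain ⟨x, hxx⟩ := hmem
  refine ⟨β''.basic (c * c'), homOfLE hle, homOfLE hle', x, ?_, ?_⟩
  · apply (F.map fi).isOpenEmbedding.injective
    change F.map fi (F.map (homOfLE hle) x) = F.map fi xi
    rw [← hxx, ← Scheme.Hom.comp_apply, ← F.map_comp]
    rfl
  · apply (F.map fj).isOpenEmbedding.injective
    change F.map fj (F.map (homOfLE hle') x) = F.map fj xj
    rw [← hx, ← hxx, ← Scheme.Hom.comp_apply, ← F.map_comp]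
    rfl

end APair

end Groth.Agent.Lib.Helper28.Pinch
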