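import Groth.Agent.Lib.Helper28.Pinch.Pair

/-!
# The diagram of local pinchings: localization
-/

set_option autoImplicit false
universe u

open CategoryTheory Limits AlgebraicGeometry

namespace Groth.Agent.Lib.Helper28.Pinch

variable {X Y Z : Scheme.{u}} {i : Z ⟶ X} {j : Z ⟶ Y}

namespace APair

/-- The diagram of local pinchings. -/
noncomputable def F : APair i j ⥤ Scheme.{u} where
  obj β := Spec (CommRingCat.of (FP β.π β.φ))
  map f := Spec.map (CommRingCat.ofHom (ρ (leOfHom f)))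
  map_id β := by
    rw [show leOfHom (𝟙 β) = le_refl β from rfl, ρ_refl]
    exact Spec.map_id _
  map_comp f g := by
    rw [← Spec.map_comp, ← CommRingCat.ofHom_comp]
    congr 2
    exact ρ_trans _ _

lemma F_map {β β' : APair i j} (f : β ⟶ β') :
    F.map f = Spec.map (CommRingCat.ofHom (ρ (leOfHom f))) := rfl

lemma basicOpen_π (β : APair i j) (f : Γ(X, β.U)) :
    Z.basicOpen (β.π f) = i ⁻¹ᵁ (X.basicOpen f) := by
  change Z.basicOpen ((i.appLE β.U β.ZU β.ZU_le_i) f) = _
  rw [Scheme.basicOpen_appLE]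
  apply inf_eq_right.mpr
  intro z hz
  exact X.basicOpen_le f hz

lemma basicOpen_φ (β : APair i j) (g : Γ(Y, β.V)) :
    Z.basicOpen (β.φ g) = j ⁻¹ᵁ (Y.basicOpen g) := by
  change Z.basicOpen ((j.appLE β.V β.ZU β.ZU_le_j) g) = _
  rw [Scheme.basicOpen_appLE]
  apply inf_eq_right.mpr
  intro z hz
  rw [β.ZU_eq_j]
  exact Y.basicOpen_le g hz

/-- The basic open pair associated to an element of the fibre product ring. -/
def basic (β : APair i j) (c : FP β.π β.φ) : APair i j where
  U := X.basicOpen (FP.pA β.π β.φ c)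
  V := Y.basicOpen (FP.pB β.π β.φ c)
  hU := β.hU.basicOpen _
  hV := β.hV.basicOpen _
  eq := by rw [← basicOpen_π, ← basicOpen_φ, FP.comm]

lemma basic_le (β : APair i j) (c : FP β.π β.φ) : β.basic c ≤ β :=
  ⟨X.basicOpen_le _, Y.basicOpen_le _⟩

/-- **Localization**: if `β' ≤ β` is the basic open pair of `c`, then `ρ` is a localization. -/
theorem isLocalization_ρ [IsAffineHom i] {β β' : APair i j} (h : β' ≤ β) (c : FP β.π β.φ)
    (hU : β'.U = X.basicOpen (FP.pA β.π β.φ c)) (hV : β'.V = Y.basicOpen (FP.pB β.π β.φ c)) :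
    @IsLocalization.Away _ _ c (FP β'.π β'.φ) _ (ρ h).toAlgebra := by
  letI : Algebra Γ(X, β.U) Γ(X, β'.U) := (resA h).toAlgebra
  letI : Algebra Γ(Y, β.V) Γ(Y, β'.V) := (resB h).toAlgebra
  letI : Algebra Γ(Z, β.ZU) Γ(Z, β'.ZU) := (res₀ h).toAlgebra
  haveI lA : IsLocalization.Away (FP.pA β.π β.φ c) Γ(X, β'.U) :=
    β.hU.isLocalization_of_eq_basicOpen _ (homOfLE h.1) hU
  haveI lB : IsLocalization.Away (FP.pB β.π β.φ c) Γ(Y, β'.V) :=
    β.hV.isLocalization_of_eq_basicOpen _ (homOfLE h.2) hV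
  haveI l0 : IsLocalization.Away (β.π (FP.pA β.π β.φ c)) Γ(Z, β'.ZU) := by
    refine β.hZU.isLocalization_of_eq_basicOpen _ (homOfLE (ZU_mono h)) ?_
    rw [basicOpen_π, ← hU]
    rfl
  exact FP.isLocalization_away β.π β.φ β'.π β'.φ (π_comp_resA h) (φ_comp_resB h) c

/-- The transition map to a basic open pair is an open immersion. -/
theorem isOpenImmersion_F_map_of_basic [IsAffineHom i] {β β' : APair i j} (f : β' ⟶ β)
    (c : FP β.π β.φ)
    (hU : β'.U = X.basicOpen (FP.pA β.π β.φ c)) (hV : β'.V = Y.basicOpen (FP.pB β.π β.φ c)) :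
    IsOpenImmersion (F.map f) := by
  letI := (ρ (leOfHom f)).toAlgebra
  haveI := isLocalization_ρ (leOfHom f) c hU hV
  exact IsOpenImmersion.of_isLocalization c

/-- The range of the transition map to a basic open pair. -/
theorem range_F_map_of_basic [IsAffineHom i] {β β' : APair i j} (f : β' ⟶ β)
    (c : FP β.π β.φ)
    (hU : β'.U = X.basicOpen (FP.pA β.π β.φ c)) (hV : β'.V = Y.basicOpen (FP.pB β.π β.φ c)) :
    Set.range (F.map f) = (PrimeSpectrum.basicOpen c : Set (PrimeSpectrum (FP β.π β.φ))) := by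
  letI := (ρ (leOfHom f)).toAlgebra
  haveI := isLocalization_ρ (leOfHom f) c hU hV
  exact PrimeSpectrum.localization_away_comap_range (FP β'.π β'.φ) c

end APair

end Groth.Agent.Lib.Helper28.Pinch
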