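import Groth.Agent.Lib.Helper28.Pinch.PairLoc

/-!
# The diagram of local pinchings: topology
-/

set_option autoImplicit false
universe u

open CategoryTheory Limits AlgebraicGeometry

namespace Groth.Agent.Lib.Helper28.Pinch

variable {X Y Z : Scheme.{u}} {i : Z ⟶ X} {j : Z ⟶ Y}

namespace APair

/-- The map `Spec Γ(X, U) ⟶ Spec R`. -/
noncomputable def a' (β : APair i j) : Spec Γ(X, β.U) ⟶ F.obj β :=
  Spec.map (CommRingCat.ofHom (FP.pA β.π β.φ))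

/-- The map `Spec Γ(Y, V) ⟶ Spec R`. -/
noncomputable def b' (β : APair i j) : Spec Γ(Y, β.V) ⟶ F.obj β :=
  Spec.map (CommRingCat.ofHom (FP.pB β.π β.φ))

lemma a'_F_map {β β' : APair i j} (f : β ⟶ β') :
    β.a' ≫ F.map f = Spec.map (X.presheaf.map (homOfLE (leOfHom f).1).op) ≫ β'.a' := by
  change Spec.map (CommRingCat.ofHom (FP.pA β.π β.φ)) ≫
      Spec.map (CommRingCat.ofHom (ρ (leOfHom f))) =
    Spec.map (X.presheaf.map (homOfLE (leOfHom f).1).op) ≫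
      Spec.map (CommRingCat.ofHom (FP.pA β'.π β'.φ))
  rw [← Spec.map_comp, ← Spec.map_comp]
  rfl

lemma b'_F_map {β β' : APair i j} (f : β ⟶ β') :
    β.b' ≫ F.map f = Spec.map (Y.presheaf.map (homOfLE (leOfHom f).2).op) ≫ β'.b' := by
  change Spec.map (CommRingCat.ofHom (FP.pB β.π β.φ)) ≫
      Spec.map (CommRingCat.ofHom (ρ (leOfHom f))) =
    Spec.map (Y.presheaf.map (homOfLE (leOfHom f).2).op) ≫
      Spec.map (CommRingCat.ofHom (FP.pB β'.π β'.φ))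
  rw [← Spec.map_comp, ← Spec.map_comp]
  rfl

/-- Joint surjectivity. -/
theorem exists_a'_or_b' [IsClosedImmersion i] (β : APair i j) (w : F.obj β) :
    (∃ x : Spec Γ(X, β.U), β.a' x = w) ∨ (∃ y : Spec Γ(Y, β.V), β.b' y = w) :=
  FP.exists_comap_eq β.π β.φ β.π_surjective w

lemma fromSpec_a'_mem_basicOpen (β : APair i j) (x : Spec Γ(X, β.U)) (c : FP β.π β.φ) :
    β.a' x ∈ (PrimeSpectrum.basicOpen c : Set (PrimeSpectrum (FP β.π β.φ))) ↔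
      β.hU.fromSpec x ∈ X.basicOpen (FP.pA β.π β.φ c) := by
  have h1 : β.hU.fromSpec x ∈ X.basicOpen (FP.pA β.π β.φ c) ↔
      x ∈ β.hU.fromSpec ⁻¹ᵁ X.basicOpen (FP.pA β.π β.φ c) := Iff.rfl
  rw [h1, β.hU.fromSpec_preimage_basicOpen]
  rfl

lemma fromSpec_b'_mem_basicOpen (β : APair i j) (y : Spec Γ(Y, β.V)) (c : FP β.π β.φ) :
    β.b' y ∈ (PrimeSpectrum.basicOpen c : Set (PrimeSpectrum (FP β.π β.φ))) ↔
      β.hV.fromSpec y ∈ Y.basicOpen (FP.pB β.π β.φ c) := by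
  have h1 : β.hV.fromSpec y ∈ Y.basicOpen (FP.pB β.π β.φ c) ↔
      y ∈ β.hV.fromSpec ⁻¹ᵁ Y.basicOpen (FP.pB β.π β.φ c) := Iff.rfl
  rw [h1, β.hV.fromSpec_preimage_basicOpen]
  rfl

section Shrink

variable [IsClosedImmersion i] (β : APair i j) (OX : X.Opens) (OY : Y.Opens)
  (hO : i ⁻¹ᵁ OX = j ⁻¹ᵁ OY)

include hO in
lemma comap_mem_iff (z : PrimeSpectrum Γ(Z, β.ZU)) :
    PrimeSpectrum.comap β.π z ∈ β.hU.fromSpec ⁻¹ᵁ OX ↔
      PrimeSpectrum.comap β.φ z ∈ β.hV.fromSpec ⁻¹ᵁ OY := by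
  have h1 : PrimeSpectrum.comap β.π z ∈ β.hU.fromSpec ⁻¹ᵁ OX ↔
      (Spec.map (i.appLE β.U β.ZU β.ZU_le_i) ≫ β.hU.fromSpec) z ∈ OX := Iff.rfl
  have h2 : PrimeSpectrum.comap β.φ z ∈ β.hV.fromSpec ⁻¹ᵁ OY ↔
      (Spec.map (j.appLE β.V β.ZU β.ZU_le_j) ≫ β.hV.fromSpec) z ∈ OY := Iff.rfl
  rw [h1, h2, IsAffineOpen.SpecMap_appLE_fromSpec i β.hU β.hZU,
    IsAffineOpen.SpecMap_appLE_fromSpec j β.hV β.hZU]
  change β.hZU.fromSpec z ∈ i ⁻¹ᵁ OX ↔ β.hZU.fromSpec z ∈ j ⁻¹ᵁ OY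
  rw [hO]

omit [IsClosedImmersion i] in
lemma basicOpen_le_of_le (β : APair i j) (OX : X.Opens) (f : Γ(X, β.U))
    (h : PrimeSpectrum.basicOpen f ≤ β.hU.fromSpec ⁻¹ᵁ OX) : X.basicOpen f ≤ OX := by
  intro x hx
  have hxU : x ∈ Set.range β.hU.fromSpec := by
    rw [β.hU.range_fromSpec]; exact X.basicOpen_le f hx
  obtain ⟨p, rfl⟩ := hxU
  have hp : p ∈ β.hU.fromSpec ⁻¹ᵁ X.basicOpen f := hx
  rw [β.hU.fromSpec_preimage_basicOpen] at hp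
  exact h hp

omit [IsClosedImmersion i] in
lemma basicOpen_le_of_le' (β : APair i j) (OY : Y.Opens) (g : Γ(Y, β.V))
    (h : PrimeSpectrum.basicOpen g ≤ β.hV.fromSpec ⁻¹ᵁ OY) : Y.basicOpen g ≤ OY := by
  intro y hy
  have hyV : y ∈ Set.range β.hV.fromSpec := by
    rw [β.hV.range_fromSpec]; exact Y.basicOpen_le g hy
  obtain ⟨p, rfl⟩ := hyV
  have hp : p ∈ β.hV.fromSpec ⁻¹ᵁ Y.basicOpen g := hy
  rw [β.hV.fromSpec_preimage_basicOpen] at hp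
  exact h hp

include hO in
/-- **Shrinking lemma**, `X`-case. -/
theorem exists_basic_of_mem_left (x : X) (hx : x ∈ OX) (hxU : x ∈ β.U) :
    ∃ c : FP β.π β.φ, x ∈ X.basicOpen (FP.pA β.π β.φ c) ∧
      X.basicOpen (FP.pA β.π β.φ c) ≤ OX ∧ Y.basicOpen (FP.pB β.π β.φ c) ≤ OY := by
  have hxr : x ∈ Set.range β.hU.fromSpec := by rw [β.hU.range_fromSpec]; exact hxU
  obtain ⟨p, rfl⟩ := hxr
  obtain ⟨c, hc1, hc2, hc3⟩ := FP.exists_basicOpen_of_mem_left β.π β.φ β.π_surjective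
    (β.hU.fromSpec ⁻¹ᵁ OX) (β.hV.fromSpec ⁻¹ᵁ OY) (comap_mem_iff β OX OY hO) p hx
  refine ⟨c, ?_, basicOpen_le_of_le β OX _ hc2, basicOpen_le_of_le' β OY _ hc3⟩
  have : p ∈ β.hU.fromSpec ⁻¹ᵁ X.basicOpen (FP.pA β.π β.φ c) := by
    rw [β.hU.fromSpec_preimage_basicOpen]; exact hc1
  exact this

include hO in
/-- **Shrinking lemma**, `Y`-case. -/
theorem exists_basic_of_mem_right (y : Y) (hy : y ∈ OY) (hyV : y ∈ β.V) :
    ∃ c : FP β.π β.φ, y ∈ Y.basicOpen (FP.pB β.π β.φ c) ∧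
      X.basicOpen (FP.pA β.π β.φ c) ≤ OX ∧ Y.basicOpen (FP.pB β.π β.φ c) ≤ OY := by
  have hyr : y ∈ Set.range β.hV.fromSpec := by rw [β.hV.range_fromSpec]; exact hyV
  obtain ⟨p, rfl⟩ := hyr
  obtain ⟨c, hc1, hc2, hc3⟩ := FP.exists_basicOpen_of_mem_right β.π β.φ β.π_surjective
    (β.hU.fromSpec ⁻¹ᵁ OX) (β.hV.fromSpec ⁻¹ᵁ OY) (comap_mem_iff β OX OY hO) p hy
  refine ⟨c, ?_, basicOpen_le_of_le β OX _ hc3, basicOpen_le_of_le' β OY _ hc2⟩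
  have : p ∈ β.hV.fromSpec ⁻¹ᵁ Y.basicOpen (FP.pB β.π β.φ c) := by
    rw [β.hV.fromSpec_preimage_basicOpen]; exact hc1
  exact this

end Shrink

end APair

end Groth.Agent.Lib.Helper28.Pinch
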