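import Groth.Agent.Lib.Helper28.Pinch.Univ3

/-!
# The global pinching: properties of `a` and `b`
-/

set_option autoImplicit false
universe u

open CategoryTheory Limits AlgebraicGeometry

namespace Groth.Agent.Lib.Helper28.Pinch

variable {X Y Z : Scheme.{u}} {i : Z ⟶ X} {j : Z ⟶ Y}

namespace Glue

variable [IsClosedImmersion i] (hY : ∀ y : Y, ∃ β : APair i j, y ∈ β.V)

variable (i j) in
/-- The cover of `P` by all charts. -/
noncomputable def chartCover : (P i j).OpenCover where
  I₀ := APair i j
  X β := APair.F.obj β
  f β := ι i j β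
  mem₀ := by
    rw [Scheme.presieve₀_mem_precoverage_iff]
    refine ⟨fun p => ?_, fun k => inferInstance⟩
    obtain ⟨β, w, hw⟩ := ι_jointly_surjective i j p
    exact ⟨β, w, hw⟩

/-- The chart square for `a` is cartesian. -/
theorem isPullback_a (β : APair i j) : IsPullback β.a' β.hU.fromSpec (ι i j β) (a hY) :=
  IsOpenImmersion.isPullback _ _ _ _ (fromSpec_a hY β)
    (by rw [preimage_a, IsAffineOpen.opensRange_fromSpec])

/-- The chart square for `b` is cartesian. -/
theorem isPullback_b (β : APair i j) : IsPullback β.b' β.hV.fromSpec (ι i j β) (b hY) :=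
  IsOpenImmersion.isPullback _ _ _ _ (fromSpec_b hY β)
    (by rw [preimage_b, IsAffineOpen.opensRange_fromSpec])

/-- A Zariski-local property of all `a'` holds for `a`. -/
theorem a_of_local (Q : MorphismProperty Scheme.{u}) [IsZariskiLocalAtTarget Q]
    (h : ∀ β : APair i j, Q β.a') : Q (a hY) := by
  refine IsZariskiLocalAtTarget.of_openCover (chartCover i j) fun β => ?_
  have hpb := (isPullback_a hY β).flip
  have h1 : hpb.isoPullback.hom ≫ pullback.snd (a hY) (ι i j β) = β.a' :=
    hpb.isoPullback_hom_snd
  change Q (pullback.snd (a hY) (ι i j β))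
  rw [← MorphismProperty.cancel_left_of_respectsIso Q hpb.isoPullback.hom, h1]
  exact h β

/-- A Zariski-local property of all `b'` holds for `b`. -/
theorem b_of_local (Q : MorphismProperty Scheme.{u}) [IsZariskiLocalAtTarget Q]
    (h : ∀ β : APair i j, Q β.b') : Q (b hY) := by
  refine IsZariskiLocalAtTarget.of_openCover (chartCover i j) fun β => ?_
  have hpb := (isPullback_b hY β).flip
  have h1 : hpb.isoPullback.hom ≫ pullback.snd (b hY) (ι i j β) = β.b' :=
    hpb.isoPullback_hom_snd
  change Q (pullback.snd (b hY) (ι i j β))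
  rw [← MorphismProperty.cancel_left_of_respectsIso Q hpb.isoPullback.hom, h1]
  exact h β

/-- `b` is a closed immersion. -/
theorem isClosedImmersion_b : IsClosedImmersion (b hY) :=
  b_of_local hY @IsClosedImmersion fun β =>
    IsClosedImmersion.spec_of_surjective _ (FP.pB_surjective β.π_surjective)

/-- `a` is affine. -/
theorem isAffineHom_a : IsAffineHom (a hY) :=
  a_of_local hY @IsAffineHom fun β => by
    haveI : IsAffine (APair.F.obj β) :=
      inferInstanceAs (IsAffine (Spec (CommRingCat.of (FP β.π β.φ))))
    exact isAffineHom_of_isAffine _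

omit [IsClosedImmersion i] in
lemma φ_isIntegral [IsIntegralHom j] (β : APair i j) : β.φ.IsIntegral := by
  have h := IsIntegralHom.isIntegral_app j β.V β.hV
  rw [Scheme.Hom.app_eq_appLE] at h
  exact (Scheme.Hom.appLE_congr j le_rfl rfl β.ZU_eq_j.symm
    (fun f => f.hom.IsIntegral)).mp h

omit [IsClosedImmersion i] in
lemma φ_surjective [IsClosedImmersion j] (β : APair i j) : Function.Surjective β.φ := by
  have h := j.app_surjective β.V β.hV
  rw [Scheme.Hom.app_eq_appLE] at h
  exact (Scheme.Hom.appLE_congr j le_rfl rfl β.ZU_eq_j.symm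
    (fun f => Function.Surjective f.hom)).mp h

/-- If `j` is integral, so is `a`. -/
theorem isIntegralHom_a [IsIntegralHom j] : IsIntegralHom (a hY) :=
  a_of_local hY @IsIntegralHom fun β =>
    IsIntegralHom.SpecMap_iff.mpr (FP.pA_isIntegral β.π β.φ β.π_surjective (φ_isIntegral β))

/-- If `j` is a closed immersion, so is `a`. -/
theorem isClosedImmersion_a [IsClosedImmersion j] : IsClosedImmersion (a hY) :=
  a_of_local hY @IsClosedImmersion fun β =>
    IsClosedImmersion.spec_of_surjective _ (FP.pA_surjective β.π β.φ (φ_surjective β))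

end Glue

end Groth.Agent.Lib.Helper28.Pinch
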