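import Groth.Agent.Lib.Helper28.Pinch.Props

/-!
# The global pinching: the square is cartesian
-/

set_option autoImplicit false
universe u

open CategoryTheory Limits AlgebraicGeometry

namespace Groth.Agent.Lib.Helper28.Pinch

variable {X Y Z : Scheme.{u}} {i : Z ⟶ X} {j : Z ⟶ Y}

namespace APair

/-- The local square is cartesian. -/
theorem isPullback_local [IsClosedImmersion i] (β : APair i j) :
    IsPullback (Spec.map (i.appLE β.U β.ZU β.ZU_le_i)) (Spec.map (j.appLE β.V β.ZU β.ZU_le_j))
      β.a' β.b' :=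
  isPullback_SpecMap_of_isPushout _ _ _ _ (FP.isPushout β.π β.φ β.π_surjective)

end APair

namespace Glue

variable [IsClosedImmersion i] (hY : ∀ y : Y, ∃ β : APair i j, y ∈ β.V)

/-- The cover of `X` by the spectra of the `β.U`. -/
noncomputable def specCoverX : X.OpenCover where
  I₀ := APair i j
  X β := Spec Γ(X, β.U)
  f β := β.hU.fromSpec
  mem₀ := by
    rw [Scheme.presieve₀_mem_precoverage_iff]
    refine ⟨fun x => ?_, fun k => inferInstance⟩
    obtain ⟨β, hβ⟩ := exists_mem_U hY x
    refine ⟨β, ?_⟩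
    rw [β.hU.range_fromSpec]
    exact hβ

/-- The big local square is cartesian. -/
theorem isPullback_chart (β : APair i j) :
    IsPullback (Spec.map (i.appLE β.U β.ZU β.ZU_le_i)) (β.hZU.fromSpec ≫ j)
      (β.hU.fromSpec ≫ a hY) (b hY) := by
  have h := (β.isPullback_local).paste_vert (isPullback_b hY β)
  rw [IsAffineOpen.SpecMap_appLE_fromSpec j β.hV β.hZU β.ZU_le_j, ← fromSpec_a hY β] at h
  exact h

/-- The square `Z ← Spec Γ(Z, ZU) → Spec Γ(X, U) → X` is cartesian. -/
theorem isPullback_fromSpec (β : APair i j) :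
    IsPullback (Spec.map (i.appLE β.U β.ZU β.ZU_le_i)) β.hZU.fromSpec β.hU.fromSpec i :=
  IsOpenImmersion.isPullback _ _ _ _
    (IsAffineOpen.SpecMap_appLE_fromSpec i β.hU β.hZU β.ZU_le_i).symm
    (by rw [IsAffineOpen.opensRange_fromSpec, IsAffineOpen.opensRange_fromSpec]; rfl)

/-- **The pinching square is cartesian.** -/
theorem isPullback : IsPullback i j (a hY) (b hY) := by
  refine Scheme.isPullback_of_openCover i j (a hY) (b hY) (specCoverX hY)
    fun (β : APair i j) => ?_
  have h1 := isPullback_chart hY β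
  have h2 := (isPullback_fromSpec β).flip
  -- the iso `Spec Γ(Z, ZU) ≅ pullback i fromSpec`
  have e1 : h2.isoPullback.hom ≫ pullback.fst i β.hU.fromSpec = β.hZU.fromSpec :=
    h2.isoPullback_hom_fst
  have e2 : h2.isoPullback.hom ≫ pullback.snd i β.hU.fromSpec =
      Spec.map (i.appLE β.U β.ZU β.ZU_le_i) := h2.isoPullback_hom_snd
  have e3 : (β.hZU.fromSpec ≫ j) = h2.isoPullback.hom ≫ pullback.fst i β.hU.fromSpec ≫ j := by
    rw [← Category.assoc, e1]
  exact h1.of_iso h2.isoPullback (Iso.refl _) (Iso.refl _) (Iso.refl _)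
    ((Category.comp_id _).trans e2.symm) ((Category.comp_id _).trans e3)
    ((Category.comp_id _).trans (Category.id_comp _).symm)
    ((Category.comp_id _).trans (Category.id_comp _).symm)

end Glue

end Groth.Agent.Lib.Helper28.Pinch
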