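import Groth.Agent.Lib.Helper28.Pinch.Main

/-!
# Recognizing pushouts along closed immersions
-/

set_option autoImplicit false
universe u

open CategoryTheory Limits AlgebraicGeometry

namespace Groth.Agent.Lib.Helper28.Pinch

variable {X Y Z P' : Scheme.{u}} {i : Z ⟶ X} {j : Z ⟶ Y}

namespace Glue

variable [IsClosedImmersion i] (hY : ∀ y : Y, ∃ β : APair i j, y ∈ β.V)

/-- Opens of the pinching are determined by their preimages in `X` and `Y`. -/
theorem opens_ext {O O' : (P i j).Opens} (ha : a hY ⁻¹ᵁ O = a hY ⁻¹ᵁ O')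
    (hb : b hY ⁻¹ᵁ O = b hY ⁻¹ᵁ O') : O = O' := by
  ext p
  rcases jointly_surjective hY p with ⟨x, rfl⟩ | ⟨y, rfl⟩
  · change x ∈ a hY ⁻¹ᵁ O ↔ x ∈ a hY ⁻¹ᵁ O'
    rw [ha]
  · change y ∈ b hY ⁻¹ᵁ O ↔ y ∈ b hY ⁻¹ᵁ O'
    rw [hb]

end Glue

section Recog

variable (a' : X ⟶ P') (b' : Y ⟶ P') (hw : i ≫ a' = j ≫ b')

/-- The adapted pair associated to an open of the target. -/
def pairOf (W : P'.Opens) (hU : IsAffineOpen (a' ⁻¹ᵁ W)) (hV : IsAffineOpen (b' ⁻¹ᵁ W)) :
    APair i j where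
  U := a' ⁻¹ᵁ W
  V := b' ⁻¹ᵁ W
  hU := hU
  hV := hV
  eq := by rw [← Scheme.Hom.comp_preimage, ← Scheme.Hom.comp_preimage, hw]

/-- A chart: an affine open of the target over which the square looks like a pinching. -/
structure IsChart (W : P'.Opens) : Prop where
  hW : IsAffineOpen W
  hU : IsAffineOpen (a' ⁻¹ᵁ W)
  hV : IsAffineOpen (b' ⁻¹ᵁ W)
  inj : ∀ s : Γ(P', W), a'.app W s = 0 → b'.app W s = 0 → s = 0
  surj : ∀ r : FP (pairOf a' b' hw W hU hV).π (pairOf a' b' hw W hU hV).φ,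
    ∃ s : Γ(P', W), a'.app W s = FP.pA _ _ r ∧ b'.app W s = FP.pB _ _ r

variable [IsClosedImmersion i]

variable {a' b' hw}

/-- The fine pair of a chart. -/
abbrev IsChart.fine {W : P'.Opens} (h : IsChart a' b' hw W) : Glue.Fine i j a' b' where
  β := pairOf a' b' hw W h.hU h.hV
  T' := W
  hT' := h.hW
  hU := le_rfl
  hV := le_rfl

omit [IsClosedImmersion i] in
lemma IsChart.lift_bijective {W : P'.Opens} (h : IsChart a' b' hw W) :
    Function.Bijective (Glue.Fine.lift hw h.fine) := by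
  constructor
  · rw [injective_iff_map_eq_zero]
    intro s hs
    apply h.inj
    · have := congrArg (FP.pA _ _) hs
      rw [map_zero] at this
      rw [Scheme.Hom.app_eq_appLE]
      exact this
    · have := congrArg (FP.pB _ _) hs
      rw [map_zero] at this
      rw [Scheme.Hom.app_eq_appLE]
      exact this
  · intro r
    obtain ⟨s, hs1, hs2⟩ := h.surj r
    refine ⟨s, ?_⟩
    apply FP.ext'
    · rw [← hs2, Scheme.Hom.app_eq_appLE]; rfl
    · rw [← hs1, Scheme.Hom.app_eq_appLE]; rfl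

variable (hcov : ∀ p : P', ∃ W : P'.Opens, p ∈ W ∧ IsChart a' b' hw W)

include hcov in
omit [IsClosedImmersion i] in
lemma hY_of_charts : ∀ y : Y, ∃ β : APair i j, y ∈ β.V := by
  intro y
  obtain ⟨W, hyW, hW⟩ := hcov (b' y)
  exact ⟨pairOf a' b' hw W hW.hU hW.hV, hyW⟩

lemma ι_desc_chart {W : P'.Opens} (h : IsChart a' b' hw W) :
    Glue.ι i j h.fine.β ≫ Glue.desc (hY_of_charts hcov) a' b' hw =
      Spec.map (CommRingCat.ofHom (Glue.Fine.lift hw h.fine)) ≫ h.hW.fromSpec :=
  Glue.ι_desc (hY_of_charts hcov) a' b' hw h.fine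

omit [IsClosedImmersion i] in
lemma isIso_SpecMap_lift {W : P'.Opens} (h : IsChart a' b' hw W) :
    IsIso (Spec.map (CommRingCat.ofHom (Glue.Fine.lift hw h.fine))) := by
  have : IsIso (CommRingCat.ofHom (Glue.Fine.lift hw h.fine)) := by
    rw [ConcreteCategory.isIso_iff_bijective]
    exact h.lift_bijective
  infer_instance

lemma preimage_desc_chart {W : P'.Opens} (h : IsChart a' b' hw W) :
    Glue.desc (hY_of_charts hcov) a' b' hw ⁻¹ᵁ W = (Glue.ι i j h.fine.β).opensRange := by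
  apply Glue.opens_ext (hY_of_charts hcov)
  · rw [Glue.preimage_a, ← Scheme.Hom.comp_preimage, Glue.a_desc]; rfl
  · rw [Glue.preimage_b, ← Scheme.Hom.comp_preimage, Glue.b_desc]; rfl

lemma range_ι_desc_chart {W : P'.Opens} (h : IsChart a' b' hw W) :
    Set.range (Glue.ι i j h.fine.β ≫ Glue.desc (hY_of_charts hcov) a' b' hw) = W := by
  rw [ι_desc_chart hcov h]
  haveI := isIso_SpecMap_lift h
  rw [← h.hW.range_fromSpec]
  ext p
  constructor
  · rintro ⟨w, rfl⟩
    exact ⟨Spec.map (CommRingCat.ofHom (Glue.Fine.lift hw h.fine)) w, rfl⟩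
  · rintro ⟨v, rfl⟩
    obtain ⟨w, rfl⟩ := (Spec.map (CommRingCat.ofHom (Glue.Fine.lift hw h.fine))).surjective v
    exact ⟨w, rfl⟩

/-- The comparison morphism is an isomorphism. -/
theorem isIso_desc_of_charts : IsIso (Glue.desc (hY_of_charts hcov) a' b' hw) := by
  rw [isIso_iff_isOpenImmersion_and_surjective]
  have hoi : ∀ c : {W : P'.Opens // IsChart a' b' hw W},
      IsOpenImmersion (Glue.ι i j c.2.fine.β ≫ Glue.desc (hY_of_charts hcov) a' b' hw) := by
    intro c
    rw [ι_desc_chart hcov c.2]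
    have h1 : IsOpenImmersion (Spec.map (CommRingCat.ofHom (Glue.Fine.lift hw c.2.fine))) := by
      haveI := isIso_SpecMap_lift c.2
      infer_instance
    exact @IsOpenImmersion.comp _ _ _ _ _ h1 inferInstance
  refine ⟨?_, ⟨?_⟩⟩
  · refine isOpenImmersion_of_cover _ (I := {W : P'.Opens // IsChart a' b' hw W})
      (fun c => APair.F.obj c.2.fine.β) (fun c => Glue.ι i j c.2.fine.β) ?_ ?_
    · intro p
      obtain ⟨W, hpW, hW⟩ := hcov (Glue.desc (hY_of_charts hcov) a' b' hw p)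
      refine ⟨⟨W, hW⟩, ?_⟩
      have : p ∈ Glue.desc (hY_of_charts hcov) a' b' hw ⁻¹ᵁ W := hpW
      rw [preimage_desc_chart hcov hW] at this
      exact this
    · intro c p hp
      rw [range_ι_desc_chart hcov c.2] at hp
      have : p ∈ Glue.desc (hY_of_charts hcov) a' b' hw ⁻¹ᵁ c.1 := hp
      rw [preimage_desc_chart hcov c.2] at this
      exact this
  · intro p'
    obtain ⟨W, hpW, hW⟩ := hcov p'
    have : p' ∈ Set.range (Glue.ι i j hW.fine.β ≫ Glue.desc (hY_of_charts hcov) a' b' hw) := by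
      rw [range_ι_desc_chart hcov hW]; exact hpW
    obtain ⟨w, hw'⟩ := this
    exact ⟨Glue.ι i j hW.fine.β w, hw'⟩

include hcov in
/-- **Recognition theorem**: a commutative square covered by charts is a pushout. -/
theorem isPushout_of_charts : IsPushout i j a' b' := by
  haveI := isIso_desc_of_charts hcov
  exact (Glue.isPushout (hY_of_charts hcov)).of_iso (Iso.refl _) (Iso.refl _) (Iso.refl _)
    (asIso (Glue.desc (hY_of_charts hcov) a' b' hw)) (by simp) (by simp)
    (by simpa using Glue.a_desc (hY_of_charts hcov) a' b' hw)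
    (by simpa using Glue.b_desc (hY_of_charts hcov) a' b' hw)

end Recog

end Groth.Agent.Lib.Helper28.Pinch
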