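import Groth.Agent.Lib.Helper28.Pinch.SectInj
import Groth.Agent.Lib.Helper28.Pinch.OverBC

/-!
# Global functions on base changes of a pinching
-/

set_option autoImplicit false
universe u

open CategoryTheory Limits AlgebraicGeometry

namespace Groth.Agent.Lib.Helper28.Pinch

/-- If `O_T → (f_T)_* O_{X_T}` is an isomorphism (on sections over `U`) then so is
`O_T → (f'_T)_* O_{X'_T}` for the pinching `X'` of `X` along a finite flat surjective `Z → Z'`. -/
theorem isIso_snd_app_of_isPushout {S X Z Z' X' : Scheme.{u}}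
    (fX : X ⟶ S) (fZ' : Z' ⟶ S) (fX' : X' ⟶ S) (ι : Z ⟶ X) (q : Z ⟶ Z') (π : X ⟶ X')
    (ι' : Z' ⟶ X') [IsClosedImmersion ι] [IsFinite q] [Flat q] [Surjective q] [IsAffineHom π]
    (hq : q ≫ fZ' = ι ≫ fX) (hπ : π ≫ fX' = fX) (hι' : ι' ≫ fX' = fZ')
    (hP : IsPushout ι q π ι') [Flat (ι ≫ fX)]
    (T : Scheme.{u}) (g : T ⟶ S) (U : T.Opens) (hX : IsIso ((pullback.snd fX g).app U)) :
    IsIso ((pullback.snd fX' g).app U) := by
  have hY := hY_of_isAffineHom ι q π ι' hP.w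
  haveI : PreservesColimitsOfSize.{0, 0} (Over.forget S) :=
    (Over.forgetAdjStar S).leftAdjoint_preservesColimits
  haveI : PreservesColimitsOfSize.{0, 0} (Over.forget T) :=
    (Over.forgetAdjStar T).leftAdjoint_preservesColimits
  obtain ⟨θ₁, hθ₁⟩ : ∃ θ₁ : Over.mk (ι ≫ fX) ⟶ Over.mk fX, θ₁ = Over.homMk ι rfl := ⟨_, rfl⟩
  obtain ⟨θ₂, hθ₂⟩ : ∃ θ₂ : Over.mk (ι ≫ fX) ⟶ Over.mk fZ', θ₂ = Over.homMk q hq := ⟨_, rfl⟩
  obtain ⟨φ₁, hφ₁⟩ : ∃ φ₁ : Over.mk fX ⟶ Over.mk fX', φ₁ = Over.homMk π hπ := ⟨_, rfl⟩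
  obtain ⟨φ₂, hφ₂⟩ : ∃ φ₂ : Over.mk fZ' ⟶ Over.mk fX', φ₂ = Over.homMk ι' hι' := ⟨_, rfl⟩
  have hθ₁l : θ₁.left = ι := by rw [hθ₁]; rfl
  have hθ₂l : θ₂.left = q := by rw [hθ₂]; rfl
  have hφ₁l : φ₁.left = π := by rw [hφ₁]; rfl
  have hφ₂l : φ₂.left = ι' := by rw [hφ₂]; rfl
  haveI : IsClosedImmersion θ₁.left := by rw [hθ₁l]; infer_instance
  have hw : θ₁ ≫ φ₁ = θ₂ ≫ φ₂ := by
    apply Over.OverMorphism.ext
    change θ₁.left ≫ φ₁.left = θ₂.left ≫ φ₂.left
    rw [hθ₁l, hθ₂l, hφ₁l, hφ₂l, hP.w]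
  have hXo : IsPushout θ₁ θ₂ φ₁ φ₂ := by
    refine IsPushout.of_map (Over.forget S) hw ?_
    change IsPushout θ₁.left θ₂.left φ₁.left φ₂.left
    rw [hθ₁l, hθ₂l, hφ₁l, hφ₂l]
    exact hP
  have hY₀ : ∀ y : (Over.mk fZ').left, ∃ β : APair θ₁.left θ₂.left, y ∈ β.V := by
    rw [hθ₁l, hθ₂l]; exact hY
  have hT := isPushout_overPullback g θ₁ θ₂ hY₀ φ₁ φ₂ hXo (Or.inr ‹Flat (ι ≫ fX)›)
  have hPT : IsPushout ((Over.pullback g).map θ₁).left ((Over.pullback g).map θ₂).left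
      ((Over.pullback g).map φ₁).left ((Over.pullback g).map φ₂).left := hT.map (Over.forget T)
  -- properties of the base-changed morphisms
  have sq₁ := isPullback_overPullback_map g θ₁
  have sq₂ := isPullback_overPullback_map g θ₂
  have sq₃ := isPullback_overPullback_map g φ₁
  rw [hθ₁l] at sq₁
  rw [hθ₂l] at sq₂
  rw [hφ₁l] at sq₃
  haveI : IsClosedImmersion ((Over.pullback g).map θ₁).left :=
    MorphismProperty.of_isPullback (P := @IsClosedImmersion) sq₁ inferInstance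
  haveI : IsFinite ((Over.pullback g).map θ₂).left :=
    MorphismProperty.of_isPullback (P := @IsFinite) sq₂ inferInstance
  haveI : Flat ((Over.pullback g).map θ₂).left :=
    MorphismProperty.of_isPullback (P := @Flat) sq₂ inferInstance
  haveI : Surjective ((Over.pullback g).map θ₂).left :=
    MorphismProperty.of_isPullback (P := @Surjective) sq₂ inferInstance
  haveI : IsAffineHom ((Over.pullback g).map φ₁).left :=
    MorphismProperty.of_isPullback (P := @IsAffineHom) sq₃ inferInstance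
  have hYT := hY_of_isAffineHom _ _ _ _ hPT.w
  -- the key injectivity
  obtain ⟨πT, hπT⟩ : ∃ πT : pullback fX g ⟶ pullback fX' g,
      πT = ((Over.pullback g).map φ₁).left := ⟨_, rfl⟩
  have hinj : ∀ V : (pullback fX' g).Opens, Function.Injective (πT.app V).hom := by
    rw [hπT]
    exact fun V => app_injective_of_isPushout hYT hPT V
  have hsnd : πT ≫ pullback.snd fX' g = pullback.snd fX g := by
    rw [hπT]
    exact pullback.lift_snd _ _ _
  -- conclude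
  obtain ⟨V, hV⟩ : ∃ V : (pullback fX' g).Opens, V = pullback.snd fX' g ⁻¹ᵁ U := ⟨_, rfl⟩
  have hO : pullback.snd fX g ⁻¹ᵁ U = πT ⁻¹ᵁ (pullback.snd fX' g ⁻¹ᵁ U) := by
    rw [← hsnd]
    rfl
  have hfac : (pullback.snd fX' g).app U ≫ πT.app (pullback.snd fX' g ⁻¹ᵁ U) =
      (pullback.snd fX g).appLE U (πT ⁻¹ᵁ (pullback.snd fX' g ⁻¹ᵁ U)) hO.ge := by
    rw [Scheme.Hom.app_eq_appLE, Scheme.Hom.app_eq_appLE, Scheme.Hom.appLE_comp_appLE]
    exact appLE_congr' hsnd _ _ _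
  have hiso : IsIso ((pullback.snd fX g).appLE U (πT ⁻¹ᵁ (pullback.snd fX' g ⁻¹ᵁ U)) hO.ge) := by
    rw [Scheme.Hom.app_eq_appLE] at hX
    exact (Scheme.Hom.appLE_congr _ le_rfl rfl hO (fun f => IsIso f)).mp hX
  rw [← hfac] at hiso
  have hbij : Function.Bijective ((pullback.snd fX' g).app U ≫
      πT.app (pullback.snd fX' g ⁻¹ᵁ U)).hom := by
    rw [← ConcreteCategory.isIso_iff_bijective] at *
    exact hiso
  rw [ConcreteCategory.isIso_iff_bijective]
  constructor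
  · intro x y hxy
    apply hbij.1
    change (πT.app _).hom (((pullback.snd fX' g).app U).hom x) =
      (πT.app _).hom (((pullback.snd fX' g).app U).hom y)
    exact congrArg _ hxy
  · intro y
    obtain ⟨x, hx⟩ := hbij.2 ((πT.app _).hom y)
    exact ⟨x, hinj _ hx⟩

end Groth.Agent.Lib.Helper28.Pinch
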