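import Groth.Agent.Lib.Helper28.Pinch.BCProj

/-!
# Injectivity of restriction to the `X`-side on sections of a pinching
-/

set_option autoImplicit false
universe u

open CategoryTheory Limits AlgebraicGeometry

namespace Groth.Agent.Lib.Helper28.Pinch

variable {X Y Z P : Scheme.{u}} {i : Z ⟶ X} {j : Z ⟶ Y} [IsClosedImmersion i]
  {a : X ⟶ P} {b : Y ⟶ P}

/-- If `j` is flat and surjective, sections of the pushout over any open are determined by their
pullback to `X`. -/
theorem app_injective_of_isPushout (hY : ∀ y : Y, ∃ β : APair i j, y ∈ β.V)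
    (hP : IsPushout i j a b) [Flat j] [Surjective j] (V : P.Opens) :
    Function.Injective (a.app V).hom := by
  rw [injective_iff_map_eq_zero]
  intro s hs
  -- first, the pullback to `Y` vanishes
  have hW : i ⁻¹ᵁ (a ⁻¹ᵁ V) = j ⁻¹ᵁ (b ⁻¹ᵁ V) := by
    change (i ≫ a) ⁻¹ᵁ V = (j ≫ b) ⁻¹ᵁ V
    rw [hP.w]
  have hcomm : a.app V ≫ i.appLE (a ⁻¹ᵁ V) (i ⁻¹ᵁ (a ⁻¹ᵁ V)) le_rfl =
      b.app V ≫ j.appLE (b ⁻¹ᵁ V) (i ⁻¹ᵁ (a ⁻¹ᵁ V)) hW.le := by
    rw [Scheme.Hom.app_eq_appLE, Scheme.Hom.app_eq_appLE]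
    exact appLE_comm hP.w _ _ _ _ _ _ _ _
  have hbs : (b.app V).hom s = 0 := by
    apply appLE_injective_of_eq j (b ⁻¹ᵁ V) _ hW hW.le
    rw [map_zero]
    have h1 : (i.appLE (a ⁻¹ᵁ V) (i ⁻¹ᵁ (a ⁻¹ᵁ V)) le_rfl).hom ((a.app V).hom s) =
        (j.appLE (b ⁻¹ᵁ V) (i ⁻¹ᵁ (a ⁻¹ᵁ V)) hW.le).hom ((b.app V).hom s) :=
      congrArg (fun f => f.hom s) hcomm
    rw [← h1, hs, map_zero]
  -- now use charts
  refine TopCat.Presheaf.section_ext P.sheaf V s 0 ?_
  intro p hp
  obtain ⟨W, hpW, hWV, hW⟩ := exists_isChart hY hP p V hp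
  have hres : (P.presheaf.map (homOfLE hWV).op).hom s = 0 := by
    apply hW.inj
    · have := congrArg (fun f => f.hom s) (a.naturality (homOfLE hWV).op)
      simp only [CommRingCat.hom_comp, RingHom.comp_apply] at this
      rw [this]
      change (X.presheaf.map _).hom ((a.app V).hom s) = 0
      rw [hs, map_zero]
    · have := congrArg (fun f => f.hom s) (b.naturality (homOfLE hWV).op)
      simp only [CommRingCat.hom_comp, RingHom.comp_apply] at this
      rw [this]
      change (Y.presheaf.map _).hom ((b.app V).hom s) = 0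
      rw [hbs, map_zero]
  change P.presheaf.germ V p hp s = P.presheaf.germ V p hp 0
  rw [← TopCat.Presheaf.germ_res_apply P.presheaf (homOfLE hWV) p hpW s]
  change P.presheaf.germ W p hpW ((P.presheaf.map (homOfLE hWV).op).hom s) = _
  rw [hres, map_zero, map_zero]

end Groth.Agent.Lib.Helper28.Pinch
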