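import Mathlib

/-!
# Properties descending along jointly surjective pairs of morphisms
-/

set_option autoImplicit false
universe u

open CategoryTheory Limits AlgebraicGeometry

namespace Groth.Agent.Lib.Helper28.Pinch

variable {X T P Y : Scheme.{u}} (a : X ⟶ P) (b : T ⟶ P) (p : P ⟶ Y)

/-- Quasi-compactness descends along a jointly surjective pair. -/
theorem quasiCompact_of_jointly (hsurj : ∀ x : P, x ∈ Set.range a ∨ x ∈ Set.range b)
    [QuasiCompact (a ≫ p)] [QuasiCompact (b ≫ p)] : QuasiCompact p := by
  constructor
  intro U hU hUc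
  have h1 : IsCompact ((a ≫ p) ⁻¹' U) := QuasiCompact.isCompact_preimage U hU hUc
  have h2 : IsCompact ((b ≫ p) ⁻¹' U) := QuasiCompact.isCompact_preimage U hU hUc
  have h3 : p ⁻¹' U = a '' ((a ≫ p) ⁻¹' U) ∪ b '' ((b ≫ p) ⁻¹' U) := by
    ext x
    constructor
    · intro hx
      rcases hsurj x with ⟨x', rfl⟩ | ⟨y', rfl⟩
      · left
        refine ⟨x', ?_, rfl⟩
        change (a ≫ p) x' ∈ U
        rw [Scheme.Hom.comp_apply]
        exact hx
      · right
        refine ⟨y', ?_, rfl⟩
        change (b ≫ p) y' ∈ U
        rw [Scheme.Hom.comp_apply]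
        exact hx
    · rintro (⟨x', hx', rfl⟩ | ⟨y', hy', rfl⟩)
      · have : (a ≫ p) x' ∈ U := hx'
        rw [Scheme.Hom.comp_apply] at this
        exact this
      · have : (b ≫ p) y' ∈ U := hy'
        rw [Scheme.Hom.comp_apply] at this
        exact this
  rw [h3]
  exact (h1.image a.continuous).union (h2.image b.continuous)

/-- Universal closedness descends along a jointly surjective pair. -/
theorem universallyClosed_of_jointly (hsurj : ∀ x : P, x ∈ Set.range a ∨ x ∈ Set.range b)
    [UniversallyClosed (a ≫ p)] [UniversallyClosed (b ≫ p)] : UniversallyClosed p := by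
  constructor
  intro P' Y' i₁ i₂ p' H
  have hA : IsClosedMap (pullback.fst i₁ a ≫ p') :=
    UniversallyClosed.universally_isClosedMap _ _ _
      ((IsPullback.of_hasPullback i₁ a).paste_horiz H)
  have hB : IsClosedMap (pullback.fst i₁ b ≫ p') :=
    UniversallyClosed.universally_isClosedMap _ _ _
      ((IsPullback.of_hasPullback i₁ b).paste_horiz H)
  intro C hC
  have h3 : p' '' C = (pullback.fst i₁ a ≫ p') '' ((pullback.fst i₁ a) ⁻¹' C) ∪
      (pullback.fst i₁ b ≫ p') '' ((pullback.fst i₁ b) ⁻¹' C) := by
    ext y
    constructor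
    · rintro ⟨x', hx', rfl⟩
      rcases hsurj (i₁ x') with ⟨x, hx⟩ | ⟨t, ht⟩
      · obtain ⟨z, hz1, -⟩ := Scheme.Pullback.exists_preimage_pullback (f := i₁) (g := a) x' x hx.symm
        left
        refine ⟨z, ?_, ?_⟩
        · change pullback.fst i₁ a z ∈ C
          rw [hz1]; exact hx'
        · rw [Scheme.Hom.comp_apply, hz1]
      · obtain ⟨z, hz1, -⟩ := Scheme.Pullback.exists_preimage_pullback (f := i₁) (g := b) x' t ht.symm
        right
        refine ⟨z, ?_, ?_⟩
        · change pullback.fst i₁ b z ∈ C
          rw [hz1]; exact hx'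
        · rw [Scheme.Hom.comp_apply, hz1]
    · rintro (⟨z, hz, rfl⟩ | ⟨z, hz, rfl⟩)
      · exact ⟨pullback.fst i₁ a z, hz, (Scheme.Hom.comp_apply _ _ _).symm⟩
      · exact ⟨pullback.fst i₁ b z, hz, (Scheme.Hom.comp_apply _ _ _).symm⟩
  change IsClosed (p' '' C)
  rw [h3]
  exact (hA _ (hC.preimage (pullback.fst i₁ a).continuous)).union
    (hB _ (hC.preimage (pullback.fst i₁ b).continuous))

/-- Separatedness descends along a jointly surjective pair of universally closed morphisms. -/
theorem isSeparated_of_jointly (hsurj : ∀ x : P, x ∈ Set.range a ∨ x ∈ Set.range b)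
    [UniversallyClosed a] [UniversallyClosed b] [IsSeparated (a ≫ p)] [IsSeparated (b ≫ p)] :
    IsSeparated p := by
  constructor
  apply IsClosedImmersion.of_isPreimmersion
  have hA : UniversallyClosed (pullback.map (a ≫ p) (a ≫ p) p p a a (𝟙 Y)
      ((Category.comp_id _).trans rfl) ((Category.comp_id _).trans rfl)) :=
    MorphismProperty.pullbackMap (P := @UniversallyClosed) inferInstance inferInstance rfl rfl
  have hB : UniversallyClosed (pullback.map (b ≫ p) (b ≫ p) p p b b (𝟙 Y)
      ((Category.comp_id _).trans rfl) ((Category.comp_id _).trans rfl)) :=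
    MorphismProperty.pullbackMap (P := @UniversallyClosed) inferInstance inferInstance rfl rfl
  have eA : pullback.diagonal (a ≫ p) ≫ pullback.map (a ≫ p) (a ≫ p) p p a a (𝟙 Y)
      ((Category.comp_id _).trans rfl) ((Category.comp_id _).trans rfl) =
      a ≫ pullback.diagonal p := by
    apply pullback.hom_ext
    · rw [Category.assoc, pullback.map]
      simp only [pullback.lift_fst, pullback.diagonal_fst_assoc, Category.assoc,
        pullback.diagonal_fst, Category.comp_id]
    · rw [Category.assoc, pullback.map]
      simp only [pullback.lift_snd, pullback.diagonal_snd_assoc, Category.assoc,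
        pullback.diagonal_snd, Category.comp_id]
  have eB : pullback.diagonal (b ≫ p) ≫ pullback.map (b ≫ p) (b ≫ p) p p b b (𝟙 Y)
      ((Category.comp_id _).trans rfl) ((Category.comp_id _).trans rfl) =
      b ≫ pullback.diagonal p := by
    apply pullback.hom_ext
    · rw [Category.assoc, pullback.map]
      simp only [pullback.lift_fst, pullback.diagonal_fst_assoc, Category.assoc,
        pullback.diagonal_fst, Category.comp_id]
    · rw [Category.assoc, pullback.map]
      simp only [pullback.lift_snd, pullback.diagonal_snd_assoc, Category.assoc,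
        pullback.diagonal_snd, Category.comp_id]
  have h3 : Set.range (pullback.diagonal p) =
      Set.range (a ≫ pullback.diagonal p) ∪ Set.range (b ≫ pullback.diagonal p) := by
    ext y
    constructor
    · rintro ⟨x, rfl⟩
      rcases hsurj x with ⟨x', rfl⟩ | ⟨t', rfl⟩
      · exact Or.inl ⟨x', Scheme.Hom.comp_apply _ _ _⟩
      · exact Or.inr ⟨t', Scheme.Hom.comp_apply _ _ _⟩
    · rintro (⟨x', rfl⟩ | ⟨t', rfl⟩)
      · exact ⟨a x', (Scheme.Hom.comp_apply _ _ _).symm⟩
      · exact ⟨b t', (Scheme.Hom.comp_apply _ _ _).symm⟩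
  rw [h3, ← eA, ← eB]
  refine IsClosed.union ?_ ?_
  · rw [Scheme.Hom.comp_base, TopCat.coe_comp, Set.range_comp]
    exact Scheme.Hom.isClosedMap _ _ (pullback.diagonal (a ≫ p)).isClosedEmbedding.isClosed_range
  · rw [Scheme.Hom.comp_base, TopCat.coe_comp, Set.range_comp]
    exact Scheme.Hom.isClosedMap _ _ (pullback.diagonal (b ≫ p)).isClosedEmbedding.isClosed_range

/-- Quasi-separatedness descends along a jointly surjective pair of quasi-compact morphisms. -/
theorem quasiSeparated_of_jointly (hsurj : ∀ x : P, x ∈ Set.range a ∨ x ∈ Set.range b)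
    [QuasiCompact a] [QuasiCompact b] [QuasiSeparated (a ≫ p)] [QuasiSeparated (b ≫ p)] :
    QuasiSeparated p := by
  constructor
  have hA : QuasiCompact (pullback.map (a ≫ p) (a ≫ p) p p a a (𝟙 Y)
      ((Category.comp_id _).trans rfl) ((Category.comp_id _).trans rfl)) :=
    MorphismProperty.pullbackMap (P := @QuasiCompact) inferInstance inferInstance rfl rfl
  have hB : QuasiCompact (pullback.map (b ≫ p) (b ≫ p) p p b b (𝟙 Y)
      ((Category.comp_id _).trans rfl) ((Category.comp_id _).trans rfl)) :=
    MorphismProperty.pullbackMap (P := @QuasiCompact) inferInstance inferInstance rfl rfl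
  have eA : pullback.diagonal (a ≫ p) ≫ pullback.map (a ≫ p) (a ≫ p) p p a a (𝟙 Y)
      ((Category.comp_id _).trans rfl) ((Category.comp_id _).trans rfl) =
      a ≫ pullback.diagonal p := by
    apply pullback.hom_ext
    · rw [Category.assoc, pullback.map]
      simp only [pullback.lift_fst, pullback.diagonal_fst_assoc, Category.assoc,
        pullback.diagonal_fst, Category.comp_id]
    · rw [Category.assoc, pullback.map]
      simp only [pullback.lift_snd, pullback.diagonal_snd_assoc, Category.assoc,
        pullback.diagonal_snd, Category.comp_id]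
  have eB : pullback.diagonal (b ≫ p) ≫ pullback.map (b ≫ p) (b ≫ p) p p b b (𝟙 Y)
      ((Category.comp_id _).trans rfl) ((Category.comp_id _).trans rfl) =
      b ≫ pullback.diagonal p := by
    apply pullback.hom_ext
    · rw [Category.assoc, pullback.map]
      simp only [pullback.lift_fst, pullback.diagonal_fst_assoc, Category.assoc,
        pullback.diagonal_fst, Category.comp_id]
    · rw [Category.assoc, pullback.map]
      simp only [pullback.lift_snd, pullback.diagonal_snd_assoc, Category.assoc,
        pullback.diagonal_snd, Category.comp_id]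
  haveI : QuasiCompact (a ≫ pullback.diagonal p) := by rw [← eA]; infer_instance
  haveI : QuasiCompact (b ≫ pullback.diagonal p) := by rw [← eB]; infer_instance
  exact quasiCompact_of_jointly a b (pullback.diagonal p) hsurj

end Groth.Agent.Lib.Helper28.Pinch
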