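import Groth.Agent.Lib.Helper28.Pinch.GlueTop

/-!
# The global pinching: universal property
-/

set_option autoImplicit false
universe u

open CategoryTheory Limits AlgebraicGeometry

namespace Groth.Agent.Lib.Helper28.Pinch

variable {X Y Z : Scheme.{u}} {i : Z ⟶ X} {j : Z ⟶ Y}

namespace Glue

variable {T : Scheme.{u}} (α : X ⟶ T) (γ : Y ⟶ T)

variable (i j) in
/-- Pairs which are fine with respect to `α`, `γ`. -/
structure Fine where
  /-- the pair -/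
  β : APair i j
  /-- the affine open of the target -/
  T' : T.Opens
  hT' : IsAffineOpen T'
  hU : β.U ≤ α ⁻¹ᵁ T'
  hV : β.V ≤ γ ⁻¹ᵁ T'

namespace Fine

variable {α γ}

instance : Preorder (Fine i j α γ) where
  le k k' := k.β ≤ k'.β ∧ k.T' ≤ k'.T'
  le_refl _ := ⟨le_rfl, le_rfl⟩
  le_trans _ _ _ h h' := ⟨h.1.trans h'.1, h.2.trans h'.2⟩

lemma appLE_congr {f g : Z ⟶ T} (h : f = g) (U : T.Opens) (V : Z.Opens) (e : V ≤ f ⁻¹ᵁ U) :
    f.appLE U V e = g.appLE U V (h ▸ e) := by subst h; rfl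

variable (hαγ : i ≫ α = j ≫ γ)

include hαγ in
lemma lift_compat (k : Fine i j α γ) :
    k.β.φ.comp (γ.appLE k.T' k.β.V k.hV).hom = k.β.π.comp (α.appLE k.T' k.β.U k.hU).hom := by
  have h1 : γ.appLE k.T' k.β.V k.hV ≫ j.appLE k.β.V k.β.ZU k.β.ZU_le_j =
      α.appLE k.T' k.β.U k.hU ≫ i.appLE k.β.U k.β.ZU k.β.ZU_le_i := by
    rw [Scheme.Hom.appLE_comp_appLE, Scheme.Hom.appLE_comp_appLE]
    exact (appLE_congr hαγ _ _ _).symm
  exact congrArg CommRingCat.Hom.hom h1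

/-- The ring map `Γ(T, T') → R`. -/
def lift (k : Fine i j α γ) : Γ(T, k.T') →+* FP k.β.π k.β.φ :=
  FP.lift k.β.π k.β.φ (γ.appLE k.T' k.β.V k.hV).hom (α.appLE k.T' k.β.U k.hU).hom
    (lift_compat hαγ k)

/-- The local morphism to `T`. -/
noncomputable def g (k : Fine i j α γ) : APair.F.obj k.β ⟶ T :=
  Spec.map (CommRingCat.ofHom (lift hαγ k)) ≫ k.hT'.fromSpec

lemma a'_g (k : Fine i j α γ) : k.β.a' ≫ g hαγ k = k.β.hU.fromSpec ≫ α := by
  rw [← IsAffineOpen.SpecMap_appLE_fromSpec α k.hT' k.β.hU k.hU]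
  change Spec.map (CommRingCat.ofHom (FP.pA k.β.π k.β.φ)) ≫
    Spec.map (CommRingCat.ofHom (lift hαγ k)) ≫ k.hT'.fromSpec = _
  rw [← Category.assoc, ← Spec.map_comp]
  rfl

lemma b'_g (k : Fine i j α γ) : k.β.b' ≫ g hαγ k = k.β.hV.fromSpec ≫ γ := by
  rw [← IsAffineOpen.SpecMap_appLE_fromSpec γ k.hT' k.β.hV k.hV]
  change Spec.map (CommRingCat.ofHom (FP.pB k.β.π k.β.φ)) ≫
    Spec.map (CommRingCat.ofHom (lift hαγ k)) ≫ k.hT'.fromSpec = _
  rw [← Category.assoc, ← Spec.map_comp]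
  rfl

lemma ρ_comp_lift {k k' : Fine i j α γ} (h : k ≤ k') :
    (APair.ρ h.1).comp (lift hαγ k') =
      (lift hαγ k).comp (T.presheaf.map (homOfLE h.2).op).hom := by
  apply FP.hom_ext
  · have h1 : γ.appLE k'.T' k'.β.V k'.hV ≫ Y.presheaf.map (homOfLE h.1.2).op =
        T.presheaf.map (homOfLE h.2).op ≫ γ.appLE k.T' k.β.V k.hV := by
      rw [Scheme.Hom.appLE_map, Scheme.Hom.map_appLE]
    exact congrArg CommRingCat.Hom.hom h1
  · have h1 : α.appLE k'.T' k'.β.U k'.hU ≫ X.presheaf.map (homOfLE h.1.1).op =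
        T.presheaf.map (homOfLE h.2).op ≫ α.appLE k.T' k.β.U k.hU := by
      rw [Scheme.Hom.appLE_map, Scheme.Hom.map_appLE]
    exact congrArg CommRingCat.Hom.hom h1

lemma F_map_g {k k' : Fine i j α γ} (h : k ≤ k') :
    APair.F.map (homOfLE h.1) ≫ g hαγ k' = g hαγ k := by
  change Spec.map (CommRingCat.ofHom (APair.ρ h.1)) ≫
    Spec.map (CommRingCat.ofHom (lift hαγ k')) ≫ k'.hT'.fromSpec =
    Spec.map (CommRingCat.ofHom (lift hαγ k)) ≫ k.hT'.fromSpec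
  rw [← IsAffineOpen.map_fromSpec k'.hT' k.hT' (homOfLE h.2).op, ← Category.assoc,
    ← Category.assoc, ← Spec.map_comp, ← Spec.map_comp]
  congr 2
  rw [← CommRingCat.ofHom_comp, ρ_comp_lift hαγ h]
  rfl

end Fine

end Glue

end Groth.Agent.Lib.Helper28.Pinch
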