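import Groth.Agent.Lib.Helper28.Pinch.Univ

/-!
# The global pinching: universal property, gluing
-/

set_option autoImplicit false
universe u

open CategoryTheory Limits AlgebraicGeometry

namespace Groth.Agent.Lib.Helper28.Pinch

variable {X Y Z : Scheme.{u}} {i : Z ⟶ X} {j : Z ⟶ Y}

namespace Glue

variable [IsClosedImmersion i] (hY : ∀ y : Y, ∃ β : APair i j, y ∈ β.V)
variable {T : Scheme.{u}} (α : X ⟶ T) (γ : Y ⟶ T) (hαγ : i ≫ α = j ≫ γ)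

include hαγ in
omit [IsClosedImmersion i] in
lemma preimage_eq (O : T.Opens) : i ⁻¹ᵁ (α ⁻¹ᵁ O) = j ⁻¹ᵁ (γ ⁻¹ᵁ O) := by
  rw [← Scheme.Hom.comp_preimage, ← Scheme.Hom.comp_preimage, hαγ]

include hαγ in
omit [IsClosedImmersion i] in
lemma inter_preimage_eq (β : APair i j) (OX : X.Opens) (OY : Y.Opens)
    (hO : i ⁻¹ᵁ OX = j ⁻¹ᵁ OY) (O : T.Opens) :
    i ⁻¹ᵁ (OX ⊓ α ⁻¹ᵁ O) = j ⁻¹ᵁ (OY ⊓ γ ⁻¹ᵁ O) := by
  rw [Scheme.Hom.preimage_inf, Scheme.Hom.preimage_inf, hO, preimage_eq α γ hαγ]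

include hαγ in
/-- Refinement, `X`-case. -/
theorem exists_fine_left (β₀ : APair i j) (OX : X.Opens) (OY : Y.Opens)
    (hO : i ⁻¹ᵁ OX = j ⁻¹ᵁ OY) (O : T.Opens) (x : X) (hx : x ∈ β₀.U) (hxO : x ∈ OX)
    (hαx : α x ∈ O) :
    ∃ k : Fine i j α γ, x ∈ k.β.U ∧ k.β ≤ β₀ ∧ k.β.U ≤ OX ∧ k.β.V ≤ OY ∧ k.T' ≤ O := by
  obtain ⟨T', hT', hxT', hT'O⟩ : ∃ T' : T.Opens, IsAffineOpen T' ∧ α x ∈ T' ∧ T' ≤ O := by
    obtain ⟨_, ⟨T', hT', rfl⟩, hxT', hT'O⟩ :=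
      T.isBasis_affineOpens.exists_subset_of_mem_open hαx O.2
    exact ⟨T', hT', hxT', hT'O⟩
  obtain ⟨c, hc1, hc2, hc3⟩ := β₀.exists_basic_of_mem_left (OX ⊓ α ⁻¹ᵁ T') (OY ⊓ γ ⁻¹ᵁ T')
    (inter_preimage_eq α γ hαγ β₀ OX OY hO T') x ⟨hxO, hxT'⟩ hx
  exact ⟨⟨β₀.basic c, T', hT', hc2.trans inf_le_right, hc3.trans inf_le_right⟩, hc1,
    β₀.basic_le c, hc2.trans inf_le_left, hc3.trans inf_le_left, hT'O⟩

include hαγ in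
/-- Refinement, `Y`-case. -/
theorem exists_fine_right (β₀ : APair i j) (OX : X.Opens) (OY : Y.Opens)
    (hO : i ⁻¹ᵁ OX = j ⁻¹ᵁ OY) (O : T.Opens) (y : Y) (hy : y ∈ β₀.V) (hyO : y ∈ OY)
    (hγy : γ y ∈ O) :
    ∃ k : Fine i j α γ, y ∈ k.β.V ∧ k.β ≤ β₀ ∧ k.β.U ≤ OX ∧ k.β.V ≤ OY ∧ k.T' ≤ O := by
  obtain ⟨T', hT', hyT', hT'O⟩ : ∃ T' : T.Opens, IsAffineOpen T' ∧ γ y ∈ T' ∧ T' ≤ O := by
    obtain ⟨_, ⟨T', hT', rfl⟩, hyT', hT'O⟩ :=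
      T.isBasis_affineOpens.exists_subset_of_mem_open hγy O.2
    exact ⟨T', hT', hyT', hT'O⟩
  obtain ⟨c, hc1, hc2, hc3⟩ := β₀.exists_basic_of_mem_right (OX ⊓ α ⁻¹ᵁ T') (OY ⊓ γ ⁻¹ᵁ T')
    (inter_preimage_eq α γ hαγ β₀ OX OY hO T') y ⟨hyO, hyT'⟩ hy
  exact ⟨⟨β₀.basic c, T', hT', hc2.trans inf_le_right, hc3.trans inf_le_right⟩, hc1,
    β₀.basic_le c, hc2.trans inf_le_left, hc3.trans inf_le_left, hT'O⟩

lemma a_mem_range_ι (β : APair i j) (x : X) (hx : x ∈ β.U) : a hY x ∈ Set.range (ι i j β) := by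
  have : x ∈ a hY ⁻¹ᵁ (ι i j β).opensRange := by rw [preimage_a]; exact hx
  exact this

lemma b_mem_range_ι (β : APair i j) (y : Y) (hy : y ∈ β.V) : b hY y ∈ Set.range (ι i j β) := by
  have : y ∈ b hY ⁻¹ᵁ (ι i j β).opensRange := by rw [preimage_b]; exact hy
  exact this

lemma mem_U_of_a_mem_range (β : APair i j) (x : X) (hx : a hY x ∈ Set.range (ι i j β)) :
    x ∈ β.U := by
  rw [← preimage_a hY β]; exact hx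

lemma mem_V_of_b_mem_range (β : APair i j) (y : Y) (hy : b hY y ∈ Set.range (ι i j β)) :
    y ∈ β.V := by
  rw [← preimage_b hY β]; exact hy

include hY hαγ in
/-- Refinement for points of `P`. -/
theorem exists_fine (p : P i j) (β₁ β₂ : APair i j) (h1 : p ∈ Set.range (ι i j β₁))
    (h2 : p ∈ Set.range (ι i j β₂)) (O : T.Opens)
    (hO : ∀ x : X, a hY x = p → α x ∈ O) (hO' : ∀ y : Y, b hY y = p → γ y ∈ O) :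
    ∃ k : Fine i j α γ, p ∈ Set.range (ι i j k.β) ∧ k.β ≤ β₁ ∧ k.β ≤ β₂ ∧ k.T' ≤ O := by
  rcases jointly_surjective hY p with ⟨x, rfl⟩ | ⟨y, rfl⟩
  · have hx1 := mem_U_of_a_mem_range hY β₁ x h1
    have hx2 := mem_U_of_a_mem_range hY β₂ x h2
    obtain ⟨k, hk1, hk2, hk3, hk4, hk5⟩ := exists_fine_left α γ hαγ β₁ (β₁.U ⊓ β₂.U)
      (β₁.V ⊓ β₂.V) (inter_eq β₁ β₂) O x hx1 ⟨hx1, hx2⟩ (hO x rfl)
    exact ⟨k, a_mem_range_ι hY k.β x hk1, hk2, ⟨hk3.trans inf_le_right, hk4.trans inf_le_right⟩,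
      hk5⟩
  · have hy1 := mem_V_of_b_mem_range hY β₁ y h1
    have hy2 := mem_V_of_b_mem_range hY β₂ y h2
    obtain ⟨k, hk1, hk2, hk3, hk4, hk5⟩ := exists_fine_right α γ hαγ β₁ (β₁.U ⊓ β₂.U)
      (β₁.V ⊓ β₂.V) (inter_eq β₁ β₂) O y hy1 ⟨hy1, hy2⟩ (hO' y rfl)
    exact ⟨k, b_mem_range_ι hY k.β y hk1, hk2, ⟨hk3.trans inf_le_right, hk4.trans inf_le_right⟩,
      hk5⟩

end Glue

end Groth.Agent.Lib.Helper28.Pinch
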