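import Groth.Agent.Lib.Helper28.Pinch.Univ2

/-!
# The global pinching: the pushout property
-/

set_option autoImplicit false
universe u

open CategoryTheory Limits AlgebraicGeometry

namespace Groth.Agent.Lib.Helper28.Pinch

variable {X Y Z : Scheme.{u}} {i : Z ⟶ X} {j : Z ⟶ Y}

namespace Glue

variable [IsClosedImmersion i] (hY : ∀ y : Y, ∃ β : APair i j, y ∈ β.V)
variable {T : Scheme.{u}} (α : X ⟶ T) (γ : Y ⟶ T) (hαγ : i ≫ α = j ≫ γ)

/-- The cover of `P` by fine charts. -/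
noncomputable def coverP : (P i j).OpenCover where
  I₀ := Fine i j α γ
  X k := APair.F.obj k.β
  f k := ι i j k.β
  mem₀ := by
    rw [Scheme.presieve₀_mem_precoverage_iff]
    refine ⟨fun p => ?_, fun k => inferInstance⟩
    obtain ⟨β, w, hw⟩ := ι_jointly_surjective i j p
    obtain ⟨k, hk, -⟩ := exists_fine hY α γ hαγ p β β ⟨w, hw⟩ ⟨w, hw⟩ ⊤
      (fun _ _ => trivial) (fun _ _ => trivial)
    exact ⟨k, hk⟩

instance : Preorder (coverP hY α γ hαγ).I₀ := inferInstanceAs (Preorder (Fine i j α γ))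

noncomputable instance : (coverP hY α γ hαγ).LocallyDirected where
  trans {k k'} f := APair.F.map (homOfLE (leOfHom f).1)
  trans_id k := APair.F.map_id (Fine.β k)
  trans_comp {k k' k''} f g :=
    APair.F.map_comp (X := Fine.β k) (Y := Fine.β k') (Z := Fine.β k'')
      (homOfLE (leOfHom f).1) (homOfLE (leOfHom g).1)
  w f := F_map_ι i j _
  directed {k k'} x := by
    obtain ⟨p, hp⟩ : ∃ p : P i j, p = (pullback.fst ((coverP hY α γ hαγ).f k)
      ((coverP hY α γ hαγ).f k') ≫ (coverP hY α γ hαγ).f k) x := ⟨_, rfl⟩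
    have hp1 : p ∈ Set.range (ι i j k.β) := by
      rw [hp, Scheme.Hom.comp_apply]; exact ⟨_, rfl⟩
    have hp2 : p ∈ Set.range (ι i j k'.β) := by
      rw [hp, pullback.condition, Scheme.Hom.comp_apply]; exact ⟨_, rfl⟩
    obtain ⟨k'', hk1, hk2, hk3, hk4⟩ := exists_fine hY α γ hαγ p k.β k'.β hp1 hp2 (k.T' ⊓ k'.T')
      (fun x hx => ⟨k.hU (mem_U_of_a_mem_range hY k.β x (hx ▸ hp1)),
        k'.hU (mem_U_of_a_mem_range hY k'.β x (hx ▸ hp2))⟩)
      (fun y hy => ⟨k.hV (mem_V_of_b_mem_range hY k.β y (hy ▸ hp1)),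
        k'.hV (mem_V_of_b_mem_range hY k'.β y (hy ▸ hp2))⟩)
    obtain ⟨w, hw⟩ := hk1
    have hle : k'' ≤ k := ⟨hk2, hk4.trans inf_le_left⟩
    have hle' : k'' ≤ k' := ⟨hk3, hk4.trans inf_le_right⟩
    refine ⟨k'', homOfLE hle, homOfLE hle', w, ?_⟩
    apply (pullback.fst ((coverP hY α γ hαγ).f k) ((coverP hY α γ hαγ).f k') ≫
      (coverP hY α γ hαγ).f k).isOpenEmbedding.injective
    rw [← hp, ← Scheme.Hom.comp_apply, pullback.lift_fst_assoc, ← hw]
    exact congrArg (fun f : APair.F.obj k''.β ⟶ P i j => f w) (F_map_ι i j (homOfLE hle.1))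
  property_trans f := by
    change IsOpenImmersion (APair.F.map _)
    infer_instance

lemma g_compat {k k' : (coverP hY α γ hαγ).I₀} (f : k ⟶ k') :
    (coverP hY α γ hαγ).trans f ≫ Fine.g hαγ k' = Fine.g hαγ k :=
  Fine.F_map_g hαγ (leOfHom f)

/-- The induced morphism out of the pinching. -/
noncomputable def desc : P i j ⟶ T :=
  (coverP hY α γ hαγ).glueMorphismsOfLocallyDirected (Fine.g hαγ) (g_compat hY α γ hαγ)

lemma ι_desc (k : Fine i j α γ) : ι i j k.β ≫ desc hY α γ hαγ = Fine.g hαγ k :=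
  (coverP hY α γ hαγ).map_glueMorphismsOfLocallyDirected (Fine.g hαγ) (g_compat hY α γ hαγ) k

theorem a_desc : a hY ≫ desc hY α γ hαγ = α := by
  apply Scheme.hom_ext_of_forall
  intro x
  obtain ⟨β₀, hβ₀⟩ := exists_mem_U hY x
  obtain ⟨k, hk, -⟩ := exists_fine_left α γ hαγ β₀ ⊤ ⊤ rfl ⊤ x hβ₀ trivial trivial
  refine ⟨k.β.U, hk, ?_⟩
  rw [← k.β.hU.toSpecΓ_fromSpec]
  simp only [Category.assoc]
  congr 1
  rw [← Category.assoc, fromSpec_a, Category.assoc, ι_desc, Fine.a'_g]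

theorem b_desc : b hY ≫ desc hY α γ hαγ = γ := by
  apply Scheme.hom_ext_of_forall
  intro y
  obtain ⟨β₀, hβ₀⟩ := hY y
  obtain ⟨k, hk, -⟩ := exists_fine_right α γ hαγ β₀ ⊤ ⊤ rfl ⊤ y hβ₀ trivial trivial
  refine ⟨k.β.V, hk, ?_⟩
  rw [← k.β.hV.toSpecΓ_fromSpec]
  simp only [Category.assoc]
  congr 1
  rw [← Category.assoc, fromSpec_b, Category.assoc, ι_desc, Fine.b'_g]

omit hαγ in
/-- `a` and `b` are jointly epimorphic. -/
theorem hom_ext {h h' : P i j ⟶ T} (ha : a hY ≫ h = a hY ≫ h') (hb : b hY ≫ h = b hY ≫ h') :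
    h = h' := by
  refine hom_ext_of_jointly (a hY) (b hY) (jointly_surjective hY) ?_ h h' ha hb
  intro p O hp
  obtain ⟨β, hβ1, hβ2⟩ := exists_chart_le p O hp
  exact ⟨_, _, _, ι i j β, inferInstance, β.a', β.b', β.hU.fromSpec, β.hV.fromSpec, hβ1, hβ2,
    (fromSpec_a hY β).symm, (fromSpec_b hY β).symm, β.appTop_injective⟩

/-- **The pinching is a pushout.** -/
theorem isPushout : IsPushout i j (a hY) (b hY) := by
  refine ⟨⟨comm hY⟩, ⟨PushoutCocone.IsColimit.mk _ (fun s => desc hY s.inl s.inr s.condition)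
    (fun s => a_desc hY _ _ _) (fun s => b_desc hY _ _ _) ?_⟩⟩
  intro s m h1 h2
  apply hom_ext hY
  · rw [h1, a_desc]
  · rw [h2, b_desc]

end Glue

end Groth.Agent.Lib.Helper28.Pinch
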